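import Cfsg.Agent.Lib.StrongCrit.CentralTwo.Defs

/-!
The lines fixed by a bad involution in the Suzuki case: besides its own line, the lines of its
products with the members at the point; the centraliser of a bad involution in a line stabiliser
embeds in the kernel of each of these lines.
-/

set_option autoImplicit false

namespace CfsgLib.StrongCrit.CentralTwo

open CfsgLib.Involutions CfsgLib.BenderTrans MulAction
open scoped commutatorElement

set_option linter.unusedSectionVars false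

universe u

variable {G : Type u} [Group G] {Ω : Type u} [MulAction G Ω] {Z : Set G} {e : ℕ}

namespace Base

variable [Finite G] [Finite Ω] (hB : Base Ω Z e)
include hB

variable {u : G} (hu : IsBad Ω u) {c : Ω} (huc : u • c = c)
include hu huc

/-- The product with a member at a fixed point is bad, has no other common fixed point, and has a
further fixed point. -/
theorem fixed_mul {a : G} (ha : a ∈ memAt Z c) :
    IsBad Ω (u * a) ∧ (u * a) • c = c ∧ (∀ z, u • z = z → (u * a) • z = z → z = c) ∧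
      ∃ z, z ≠ c ∧ (u * a) • z = z ∧ u • z ≠ z := by
  have hua : Commute u a := hB.case.central u hu c huc a ha
  have hbad := hB.setting.isBad_mul hB.faith hu ha.1 hua
  have hc : (u * a) • c = c := by rw [mul_smul, ha.2, huc]
  have hcom : ∀ z, u • z = z → (u * a) • z = z → z = c := fun z h1 h2 => by
    have h3 : a • z = z := by
      have h4 : a • u • z = z := by rw [smul_smul, ← hua.eq, h2]
      rwa [h1] at h4
    exact hB.setting.unique a ha.1 z c h3 ha.2
  refine ⟨hbad, hc, hcom, ?_⟩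
  obtain ⟨-, p, r, hpr, hp, hr⟩ := hbad
  rcases eq_or_ne p c with rfl | hpc
  · exact ⟨r, hpr.symm, hr, fun h1 => hpr.symm (hcom r h1 hr)⟩
  · exact ⟨p, hpc, hp, fun h1 => hpc (hcom p h1 hp)⟩

/-- The products with distinct elements of the group of the members have no common fixed point but
`c`. -/
theorem mul_inj {a b : G} (ha : a ∈ memGroup Z c) (hb : b ∈ memGroup Z c) {z : Ω} (hzc : z ≠ c)
    (h1 : (u * a) • z = z) (h2 : (u * b) • z = z) : a = b := by
  have h3 : a • z = b • z := by
    refine MulAction.injective u ?_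
    show u • a • z = u • b • z
    rw [smul_smul, smul_smul, h1, h2]
  have h4 := hB.setting.eq_one_of_memGroup_fix hB.faith hB.case.comm (mul_mem (inv_mem hb) ha)
    (x := z) (by rw [mul_smul, h3, inv_smul_smul]) hzc
  exact (inv_mul_eq_one.1 h4).symm

variable {y : Ω} (hyc : y ≠ c) (huy : u • y = y)
include hyc huy

/-- The centraliser of `u` in its line stabiliser embeds in the kernel at the line of `u * a`. -/
theorem exists_cenHom {a : G} (ha : a ∈ memAt Z c) {z : Ω} (hzc : z ≠ c) (hz : (u * a) • z = z)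
    {Q' : Subgroup G} (hQ' : Kernel Ω Z (u * a) c e Q') :
    ∃ f : ↥(lineStab Z c y ⊓ Subgroup.centralizer {u}) →* ↥Q', Function.Injective f ∧
      (∀ g : ↥(lineStab Z c y ⊓ Subgroup.centralizer {u}), (f g : G)⁻¹ * (g : G) ∈ lineStab Z c z) ∧
      ∀ g : ↥(lineStab Z c y ⊓ Subgroup.centralizer {u}), (g : G) = u → (f g : G) = a := by
  obtain ⟨hw, hwc, hcom, -⟩ := hB.fixed_mul hu huc ha
  have huz : u • z ≠ z := fun h1 => hzc (hcom z h1 hz)
  have key : ∀ g : ↥(lineStab Z c y ⊓ Subgroup.centralizer {u}),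
      ∃ x ∈ Q', ∃ p ∈ lineStab Z c z, (g : G) = x * p := by
    rintro ⟨g, hgP, hgu⟩
    obtain ⟨hgc, -, hgE⟩ := mem_lineStab.1 hgP
    have hgu' : Commute u g := (Subgroup.mem_centralizer_singleton_iff.1 hgu).symm
    refine hB.decomp _ hw c z hzc hwc hz Q' hQ' g hgc hgE ?_
    rw [smul_smul, (hgu'.mul_left (hgE a ha)).eq, mul_smul, hz]
  choose x hx p hp hxp using key
  refine ⟨MonoidHom.mk' (fun g => ⟨x g, hx g⟩) fun g h => Subtype.ext ?_, ?_, fun g => ?_,
    fun g hg => ?_⟩
  · have h1 : x (g * h) * p (g * h) = (x g * x h) * (p g * p h) := by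
      rw [← hxp, Subgroup.coe_mul, hxp g, hxp h]
      have h2 : Commute (p g) (x h) := hB.commute_stab_kernel hw hzc hwc hz hQ' (hp g) (hx h)
      calc x g * p g * (x h * p h) = x g * (p g * x h) * p h := by group
        _ = x g * x h * (p g * p h) := by rw [h2.eq]; group
    exact (hB.decomp_unique hzc hQ' (hx _) (mul_mem (hx g) (hx h)) (hp _) (mul_mem (hp g) (hp h))
      h1).1
  · refine (injective_iff_map_eq_one _).2 fun g hg => ?_
    have h1 : x g = 1 := congrArg Subtype.val hg
    have h2 : (g : G) = p g := by rw [hxp g, h1, one_mul]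
    refine Subtype.ext (hB.semiregular u hu c y hyc huc huy _ g.2.1 z huz ?_)
    rw [h2]
    exact (mem_lineStab.1 (hp g)).2.1
  · show (x g)⁻¹ * (g : G) ∈ lineStab Z c z
    rw [hxp g, inv_mul_cancel_left]
    exact hp g
  · show x g = a
    have ha2 : a * (u * a) = (g : G) := by
      rw [hg, ← mul_assoc, ← (hB.case.central u hu c huc a ha).eq, mul_assoc,
        mul_self_eq_one (hB.setting.invol a ha.1), mul_one]
    exact (hB.decomp_unique hzc hQ' (hx g) (hQ'.le (Subgroup.subset_closure ha)) (hp g)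
      (hB.mem_lineStab_of_bad hw hwc hz) ((hxp g).symm.trans ha2.symm)).1

/-- An element of the line stabiliser commuting with `u` has order dividing four. -/
theorem pow_four_of_commute {g : G} (hg : g ∈ lineStab Z c y) (hgu : Commute g u) : g ^ 4 = 1 := by
  obtain ⟨a, ha⟩ := hB.setting.exists_memAt c
  obtain ⟨hw, hwc, -, z, hzc, hz, -⟩ := hB.fixed_mul hu huc ha
  obtain ⟨Q', hQ'⟩ := hB.kernel _ hw c hwc
  obtain ⟨f, hf, -, -⟩ := hB.exists_cenHom hu huc hyc huy ha hzc hz hQ'
  let g' : ↥(lineStab Z c y ⊓ Subgroup.centralizer {u}) :=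
    ⟨g, hg, Subgroup.mem_centralizer_singleton_iff.2 hgu.eq⟩
  have h1 : g' ^ 4 = 1 := hf (by
    rw [map_pow, map_one]
    refine Subtype.ext ?_
    rw [Subgroup.coe_pow, pow_succ, pow_succ, pow_two, mul_assoc, Subgroup.coe_one]
    exact hB.setting.mul_self_memGroup hB.faith hB.case.comm (hQ'.sq _ (f g').2))
  exact congrArg Subtype.val h1

/-- An element and an involution of the line stabiliser commuting with `u` commute. -/
theorem commute_invol {g v : G} (hg : g ∈ lineStab Z c y) (hgu : Commute g u)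
    (hv : v ∈ lineStab Z c y) (hv2 : v * v = 1) (hvu : Commute v u) : Commute g v := by
  obtain ⟨a, ha⟩ := hB.setting.exists_memAt c
  obtain ⟨hw, hwc, -, z, hzc, hz, -⟩ := hB.fixed_mul hu huc ha
  obtain ⟨Q', hQ'⟩ := hB.kernel _ hw c hwc
  obtain ⟨f, hf, -, -⟩ := hB.exists_cenHom hu huc hyc huy ha hzc hz hQ'
  let g' : ↥(lineStab Z c y ⊓ Subgroup.centralizer {u}) :=
    ⟨g, hg, Subgroup.mem_centralizer_singleton_iff.2 hgu.eq⟩
  let v' : ↥(lineStab Z c y ⊓ Subgroup.centralizer {u}) :=
    ⟨v, hv, Subgroup.mem_centralizer_singleton_iff.2 hvu.eq⟩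
  have hvE : (f v' : G) ∈ memGroup Z c := by
    refine hQ'.mem_of_sq _ (f v').2 ?_
    rw [← Subgroup.coe_mul, ← map_mul, show v' * v' = 1 from Subtype.ext hv2, map_one,
      Subgroup.coe_one]
  have h1 : g' * v' = v' * g' := hf (by
    rw [map_mul, map_mul]
    exact Subtype.ext (hQ'.central _ hvE _ (f g').2).eq.symm)
  exact congrArg Subtype.val h1

/-- An involution commuting with `u` fixes, times a member, every line of a product of `u` with a
member. -/
theorem twin {v a : G} {z : Ω} (hv : v ∈ lineStab Z c y) (hv2 : orderOf v = 2) (hvu : Commute v u)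
    (ha : a ∈ memAt Z c) (hzc : z ≠ c) (hz : (u * a) • z = z) :
    ∃ b ∈ memAt Z c, IsBad Ω (v * b) ∧ (v * b) • z = z := by
  obtain ⟨hw, hwc, -, -⟩ := hB.fixed_mul hu huc ha
  obtain ⟨Q', hQ'⟩ := hB.kernel _ hw c hwc
  obtain ⟨f, hf, hfstab, -⟩ := hB.exists_cenHom hu huc hyc huy ha hzc hz hQ'
  let v' : ↥(lineStab Z c y ⊓ Subgroup.centralizer {u}) :=
    ⟨v, hv, Subgroup.mem_centralizer_singleton_iff.2 hvu.eq⟩
  obtain ⟨hvc, hvy, hvE⟩ := mem_lineStab.1 hv
  have hbE : (f v' : G) ∈ memGroup Z c := by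
    refine hQ'.mem_of_sq _ (f v').2 ?_
    rw [← Subgroup.coe_mul, ← map_mul, show v' * v' = 1 from Subtype.ext (mul_self_eq_one hv2),
      map_one, Subgroup.coe_one]
  have hbm : (f v' : G) ∈ memAt Z c := by
    rcases (hB.setting.mem_memGroup_iff hB.faith hB.case.comm).1 hbE with h1 | h1
    · exact absurd (congrArg Subtype.val (hf (a₂ := 1) ((Subtype.ext h1).trans (map_one f).symm)))
        (ne_one_of_involution hv2)
    · exact h1
  have hvbad : IsBad Ω v := ⟨hv2, c, y, hyc.symm, hvc, hvy⟩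
  refine ⟨_, hbm, hB.setting.isBad_mul hB.faith hvbad hbm.1 (hvE _ hbm).symm, ?_⟩
  have h1 := (mem_lineStab.1 (hfstab v')).2.1
  rwa [inv_eq_self_of_involution (hB.setting.invol _ hbm.1), (hvE _ hbm).eq] at h1

/-- An element of odd order of the line stabiliser fixes no other line. -/
theorem odd_fix_line {g : G} (hg : g ∈ lineStab Z c y) (hodd : Odd (orderOf g)) {w : G} {z : Ω}
    (hw : IsBad Ω w) (hwc : w • c = c) (hwz : w • z = z) (hzc : z ≠ c) (huz : u • z ≠ z)
    (h : w • g • z = g • z) : g = 1 := by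
  obtain ⟨hgc, -, hgE⟩ := mem_lineStab.1 hg
  obtain ⟨Q', hQ'⟩ := hB.kernel w hw c hwc
  obtain ⟨x, hx, p, hp, rfl⟩ := hB.decomp w hw c z hzc hwc hwz Q' hQ' g hgc hgE h
  have hxp : Commute x p := (hB.commute_stab_kernel hw hzc hwc hwz hQ' hp hx).symm
  have hx4 : x ^ 4 = 1 := by
    rw [pow_succ, pow_succ, pow_two, mul_assoc]
    exact hB.setting.mul_self_memGroup hB.faith hB.case.comm (hQ'.sq x hx)
  have h4 : (x * p) ^ 4 = p ^ 4 := by rw [hxp.mul_pow, hx4, one_mul]
  have h5 : (x * p) ^ 4 = 1 := hB.semiregular u hu c y hyc huc huy _ (pow_mem hg 4) z huz (by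
    rw [h4]
    exact (mem_lineStab.1 (pow_mem hp 4)).2.1)
  have h6 : orderOf (x * p) ∣ 2 ^ 2 := orderOf_dvd_of_pow_eq_one h5
  exact orderOf_eq_one_iff.1
    (Nat.eq_one_of_dvd_coprimes ((Nat.coprime_two_right.2 hodd).pow_right 2) dvd_rfl h6)

/-- A line through `c` mapped to itself by `u` is fixed pointwise by `u` or by a product of `u`
with a member. -/
theorem fixed_line {z : Ω} {w : G} (hw : IsBad Ω w) (hwc : w • c = c) (hwz : w • z = z)
    (hzc : z ≠ c) (h : w • u • z = u • z) :
    u • z = z ∨ ∃ a ∈ memAt Z c, fixedBy Ω (u * a) = fixedBy Ω w := by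
  obtain ⟨hgc, -, hgE⟩ := mem_lineStab.1 (hB.mem_lineStab_of_bad hu huc huy)
  obtain ⟨Q', hQ'⟩ := hB.kernel w hw c hwc
  obtain ⟨x, hx, p, hp, hxp⟩ := hB.decomp w hw c z hzc hwc hwz Q' hQ' u hgc hgE h
  have hcm : Commute x p := (hB.commute_stab_kernel hw hzc hwc hwz hQ' hp hx).symm
  have hx2 : x * x = 1 := by
    refine (hB.decomp_unique hzc hQ' (mul_mem hx hx) (one_mem _) (mul_mem hp hp) (one_mem _) ?_).1
    calc x * x * (p * p) = x * (x * p) * p := by group
      _ = x * (p * x) * p := by rw [hcm.eq]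
      _ = (x * p) * (x * p) := by group
      _ = 1 * 1 := by rw [← hxp, mul_self_eq_one hu.1, one_mul]
  rcases (hB.setting.mem_memGroup_iff hB.faith hB.case.comm).1 (hQ'.mem_of_sq x hx hx2) with
    rfl | hxm
  · exact Or.inl (by rw [hxp, one_mul]; exact (mem_lineStab.1 hp).2.1)
  · refine Or.inr ⟨x, hxm, ?_⟩
    obtain ⟨hbad, hbc, -, -⟩ := hB.fixed_mul hu huc hxm
    have hp' : u * x = p := by
      rw [hxp, mul_assoc, hcm.symm.eq, ← mul_assoc, hx2, one_mul]
    exact hB.fix_eq _ w hbad hw c z hzc.symm hbc (by rw [hp']; exact (mem_lineStab.1 hp).2.1) hwc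
      hwz

/-- An element of the translation group commuting with `u` splits into kernel and line stabiliser. -/
theorem shift_ker {Q : Subgroup G} (hQ : Kernel Ω Z u c e Q) {g : G} (hg : g ∈ shiftGroup Z c u)
    (hgu : Commute g u) : ∃ x ∈ Q, ∃ p ∈ lineStab Z c y, Commute p u ∧ g = x * p := by
  obtain ⟨x, hx, p, hp, hxp⟩ := hB.decomp u hu c y hyc huc huy Q hQ g hg.1
    (fun a ha => hg.2.1 a (Subgroup.subset_closure ha))
    (by rw [smul_smul, ← hgu.eq, mul_smul, huy])
  refine ⟨x, hx, p, hp, ?_, hxp⟩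
  have h1 : p = x⁻¹ * g := by rw [hxp, inv_mul_cancel_left]
  rw [h1]
  exact ((hQ.commute x hx).symm.inv_left).mul_left hgu

/-- The translation group is a 2-group. -/
theorem isPGroup_shift : IsPGroup 2 (shiftGroup Z c u) := by
  intro g
  obtain ⟨Q, hQ⟩ := hB.kernel u hu c huc
  have hsh := g.2
  have h2 : ⁅(g : G) * g, u⁆ = 1 := by
    rw [commutator_shift_mul hsh hsh]
    exact hB.setting.mul_self_memGroup hB.faith hB.case.comm hsh.2.2
  obtain ⟨x, hx, p, hp, hpu, hxp⟩ := hB.shift_ker hu huc hyc huy hQ (mul_mem hsh hsh)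
    (commutatorElement_eq_one_iff_commute.1 h2)
  have hxp' : Commute x p := (hB.commute_stab_kernel hu hyc huc huy hQ hp hx).symm
  refine ⟨3, Subtype.ext ?_⟩
  rw [Subgroup.coe_pow, Subgroup.coe_one, show 2 ^ 3 = 2 * 4 from rfl, pow_mul, pow_two, hxp,
    hxp'.mul_pow, hB.pow_four_of_commute hu huc hyc huy hp hpu, mul_one, pow_succ, pow_succ,
    pow_two, mul_assoc]
  exact hB.setting.mul_self_memGroup hB.faith hB.case.comm (hQ.sq x hx)

end Base

end CfsgLib.StrongCrit.CentralTwo
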