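import Cfsg.Agent.Lib.StrongCrit.CentralTwo.NoRot
import Cfsg.Agent.Lib.StrongCrit.Wielandt
import Cfsg.Agent.Lib.StrongCrit.CentralTwo.Lines

/-!
In the Suzuki case of the central case two commuting bad involutions never have two common fixed
points: otherwise there would be more lines disjoint from a given one than there are lines.
-/

set_option autoImplicit false

namespace CfsgLib.StrongCrit.CentralTwo

open CfsgLib.Involutions CfsgLib.BenderTrans MulAction

set_option linter.unusedSectionVars false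

universe u

/-- The half power of the product of an involution and a commuting element of odd order. -/
theorem pow_half_mul_odd {G : Type u} [Group G] {z o : G} (hz : orderOf z = 2) (hc : Commute z o)
    (ho : Odd (orderOf o)) :
    Even (orderOf (z * o)) ∧ (z * o) ^ (orderOf (z * o) / 2) = z := by
  have h1 : orderOf (z * o) = 2 * orderOf o := by
    rw [hc.orderOf_mul_eq_mul_orderOf_of_coprime (by rw [hz]; exact Nat.coprime_two_left.2 ho), hz]
  refine ⟨⟨orderOf o, by omega⟩, ?_⟩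
  obtain ⟨m, hm⟩ := ho
  rw [h1, Nat.mul_div_cancel_left _ two_pos, hc.mul_pow, pow_orderOf_eq_one, mul_one, hm, pow_succ,
    pow_mul, pow_two, mul_self_eq_one hz, one_pow, one_mul]

variable {G : Type u} [Group G] {Ω : Type u} [MulAction G Ω] {Z : Set G} {e : ℕ}

variable (G Ω) in
/-- The fixed sets of the bad involutions. -/
def lineSet : Set (Set Ω) := {F | ∃ w : G, IsBad Ω w ∧ fixedBy Ω w = F}

variable (G) in
/-- The lines through a point. -/
def linesAt (c : Ω) : Set (Set Ω) := {F | F ∈ lineSet G Ω ∧ c ∈ F}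

namespace Base

variable [Finite G] [Finite Ω] (hB : Base Ω Z e)
include hB

/-- The other fixed point of a bad involution. -/
theorem exists_fix_ne {w : G} (hw : IsBad Ω w) (c : Ω) : ∃ z, w • z = z ∧ z ≠ c := by
  obtain ⟨-, p, r, hpr, hp, hr⟩ := hw
  rcases eq_or_ne p c with rfl | hpc
  · exact ⟨r, hr, hpr.symm⟩
  · exact ⟨p, hp, hpc⟩

/-- Two lines with two common points coincide. -/
theorem line_eq {F F' : Set Ω} (hF : F ∈ lineSet G Ω) (hF' : F' ∈ lineSet G Ω) {c y : Ω}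
    (hcy : c ≠ y) (hc : c ∈ F) (hy : y ∈ F) (hc' : c ∈ F') (hy' : y ∈ F') : F = F' := by
  obtain ⟨u, hu, rfl⟩ := hF
  obtain ⟨w, hw, rfl⟩ := hF'
  exact hB.fix_eq u w hu hw c y hcy hc hy hc' hy'

theorem card_line {F : Set Ω} (hF : F ∈ lineSet G Ω) : F.ncard = 2 ^ (e * 2) + 1 := by
  obtain ⟨u, hu, rfl⟩ := hF
  exact hB.card_fix hu

/-- The number of lines through a point. -/
theorem card_linesAt (c : Ω) : Nat.card (linesAt G c) * 2 ^ (e * 2) + 1 = Nat.card Ω := by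
  classical
  have := Fintype.ofFinite (linesAt G c)
  let g : (Σ F : linesAt G c, ((F : Set Ω) \ {c} : Set Ω)) → ({c}ᶜ : Set Ω) :=
    fun p => ⟨p.2.1, p.2.2.2⟩
  have hg : Function.Bijective g := by
    constructor
    · rintro ⟨⟨F, hF, hcF⟩, ⟨y, hy, hyc⟩⟩ ⟨⟨F', hF', hcF'⟩, ⟨y', hy', hyc'⟩⟩ h
      obtain rfl : y = y' := congrArg Subtype.val h
      obtain rfl : F = F' := hB.line_eq hF hF' (fun e => hyc e.symm) hcF hy hcF' hy'
      rfl
    · rintro ⟨y, hy⟩
      have hyc : y ≠ c := hy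
      obtain ⟨w, hw, hwc, hwy⟩ := hB.exists_bad c y hyc.symm
      exact ⟨⟨⟨fixedBy Ω w, ⟨w, hw, rfl⟩, hwc⟩, ⟨y, hwy, hyc⟩⟩, rfl⟩
  have h1 := Nat.card_congr (Equiv.ofBijective g hg)
  rw [Nat.card_sigma, Finset.sum_congr rfl (fun (F : linesAt G c) _ => show
      Nat.card ((F : Set Ω) \ {c} : Set Ω) = 2 ^ (e * 2) by
    rw [Nat.card_coe_set_eq, Set.ncard_diff_singleton_of_mem F.2.2, hB.card_line F.2.1]; rfl),
    Finset.sum_const, smul_eq_mul, Finset.card_univ, ← Nat.card_eq_fintype_card,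
    Nat.card_coe_set_eq ({c}ᶜ : Set Ω)] at h1
  rw [h1, Set.ncard_compl, Set.ncard_singleton]
  have : 0 < Nat.card Ω := Nat.card_pos_iff.2 ⟨⟨c⟩, inferInstance⟩
  omega

/-- The number of lines. -/
theorem card_lineSet {T : ℕ} (hT : ∀ c : Ω, Nat.card (linesAt G c) = T) :
    Nat.card (lineSet G Ω) * (2 ^ (e * 2) + 1) = Nat.card Ω * T := by
  classical
  have := Fintype.ofFinite (lineSet G Ω)
  have := Fintype.ofFinite Ω
  let g : (Σ F : lineSet G Ω, (F : Set Ω)) → (Σ c : Ω, linesAt G c) :=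
    fun p => ⟨p.2.1, ⟨p.1.1, p.1.2, p.2.2⟩⟩
  have hg : Function.Bijective g :=
    ⟨by
      rintro ⟨⟨F, hF⟩, ⟨y, hy⟩⟩ ⟨⟨F', hF'⟩, ⟨y', hy'⟩⟩ h
      simp only [g, Sigma.mk.injEq] at h
      obtain ⟨rfl, h2⟩ := h
      obtain rfl : F = F' := congrArg Subtype.val (eq_of_heq h2)
      rfl, fun ⟨c, F, hF, hc⟩ => ⟨⟨⟨F, hF⟩, ⟨c, hc⟩⟩, rfl⟩⟩
  have h1 := Nat.card_congr (Equiv.ofBijective g hg)
  rw [Nat.card_sigma, Nat.card_sigma, Finset.sum_congr rfl (fun (F : lineSet G Ω) _ => show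
      Nat.card (F : Set Ω) = 2 ^ (e * 2) + 1 by rw [Nat.card_coe_set_eq, hB.card_line F.2]),
    Finset.sum_congr rfl (fun (c : Ω) _ => hT c), Finset.sum_const, Finset.sum_const, smul_eq_mul,
    smul_eq_mul, Finset.card_univ, Finset.card_univ, ← Nat.card_eq_fintype_card,
    ← Nat.card_eq_fintype_card] at h1
  exact h1

/-- A bad involution centralises only one member interchanging a moved point and its image. -/
theorem member_eq_of_fix {u : G} (hu : IsBad Ω u) {a b : G} {d d' z : Ω} (ha : a ∈ memAt Z d)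
    (hb : b ∈ memAt Z d') (hud : u • d = d) (hud' : u • d' = d') (hzd : z ≠ d)
    (h1 : (u * a) • z = z) (h2 : (u * b) • z = z) : a = b := by
  obtain ⟨-, -, hcom, -⟩ := hB.fixed_mul hu hud ha
  have huz : u • z ≠ z := fun h => hzd (hcom z h h1)
  have hsw : ∀ {t : G}, (u * t) • z = z → t • z = u • z := fun {t} h => by
    conv_rhs => rw [← h]
    rw [smul_smul u, ← mul_assoc, mul_self_eq_one hu.1, one_mul]
  have hA : a ∈ swapCen Z u z := ⟨⟨ha.1, hsw h1⟩, hB.case.central u hu d hud a ha⟩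
  have hB' : b ∈ swapCen Z u z := ⟨⟨hb.1, hsw h2⟩, hB.case.central u hu d' hud' b hb⟩
  obtain ⟨t, ht⟩ := Set.ncard_eq_one.1
    (hB.setting.ncard_swapCen_of_all hB.case.comm hu hud (fun s hs => hB.case.central u hu d hud s hs) huz)
  rw [ht, Set.mem_singleton_iff] at hA hB'
  rw [hA, hB']

variable (hcom : ∀ a b : G, IsBad Ω a → IsBad Ω b → ∀ x y : Ω, x ≠ y → a • x = x → a • y = y →
  b • x = x → b • y = y → Commute a b)
include hcom

/-- A bad involution on a secondary line of `u` is a bad involution of the line of `u` times a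
member. -/
theorem exists_on_line {u t W : G} {d : Ω} (hu : IsBad Ω u) (hud : u • d = d) (ht : t ∈ memAt Z d)
    (hW : IsBad Ω W) (hWfix : fixedBy Ω W = fixedBy Ω (u * t)) :
    ∃ V, IsBad Ω V ∧ fixedBy Ω V = fixedBy Ω u ∧ ∃ b ∈ memAt Z d, W = V * b := by
  obtain ⟨hut, hutd, -, z, hzd, hz, -⟩ := hB.fixed_mul hu hud ht
  obtain ⟨y, hy, hyd⟩ := hB.exists_fix_ne hu d
  have hWd : W • d = d := by
    have : d ∈ fixedBy Ω W := hWfix ▸ hutd
    exact this
  have hWz : W • z = z := by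
    have : z ∈ fixedBy Ω W := hWfix ▸ hz
    exact this
  have hc := hcom W (u * t) hW hut d z hzd.symm hWd hWz hutd hz
  obtain ⟨b, hb, hbad, hby⟩ := hB.twin (z := y) hut hutd hzd hz (hB.mem_lineStab_of_bad hW hWd hWz)
    hW.1 hc ht hyd (by rw [mul_assoc u t t, mul_self_eq_one (hB.setting.invol t ht.1), mul_one, hy])
  refine ⟨W * b, hbad, hB.fix_eq _ _ hbad hu d y hyd.symm (by rw [mul_smul, hb.2, hWd]) hby hud hy,
    b, hb, ?_⟩
  rw [mul_assoc, mul_self_eq_one (hB.setting.invol b hb.1), mul_one]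

/-- Two lines at distinct points of the line of `u` determine that line. -/
theorem transversal_eq (hfour : ∀ x y : Ω, x ≠ y → ∀ u : G, IsBad Ω u → u • x = x → u • y = y →
      ∃ v, IsBad Ω v ∧ v ≠ u ∧ v • x = x ∧ v • y = y)
    {u u' a b a' b' : G} {d d' f f' : Ω} (hu : IsBad Ω u) (hu' : IsBad Ω u')
    (hd : u • d = d) (hd' : u • d' = d') (hdd : d ≠ d') (hf : u' • f = f) (hf' : u' • f' = f')
    (hff : f ≠ f') (ha : a ∈ memAt Z d) (hb : b ∈ memAt Z d') (ha' : a' ∈ memAt Z f)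
    (hb' : b' ∈ memAt Z f') (hl : fixedBy Ω (u * a) = fixedBy Ω (u' * a'))
    (hl' : fixedBy Ω (u * b) = fixedBy Ω (u' * b')) : fixedBy Ω u = fixedBy Ω u' := by
  obtain ⟨v, hv, hvu, hvd, hvd'⟩ := hfour d d' hdd u hu hd hd'
  have hcuv : Commute v u := hcom v u hv hu d d' hdd hvd hvd' hd hd'
  obtain ⟨hua, huad, -, z, hzd, hz, -⟩ := hB.fixed_mul hu hd ha
  obtain ⟨hub, hubd, -, -⟩ := hB.fixed_mul hu hd' hb
  obtain ⟨s, hs, hsbad, hsz⟩ := hB.twin hu hd hdd.symm hd' (hB.mem_lineStab_of_bad hv hvd hvd') hv.1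
    hcuv ha hzd hz
  -- the involution of the line of `u` in the product
  have hz2 : orderOf (v * u) = 2 := orderOf_eq_two_iff_mul.2 ⟨fun h => hvu (by
      rw [mul_eq_one_iff_eq_inv, inv_eq_self_of_involution hu.1] at h; exact h), by
    rw [mul_assoc, ← mul_assoc u, ← hcuv.eq, mul_assoc v, mul_self_eq_one hu.1, mul_one,
      mul_self_eq_one hv.1]⟩
  have hvubad : IsBad Ω (v * u) :=
    ⟨hz2, d, d', hdd, by rw [mul_smul, hd, hvd], by rw [mul_smul, hd', hvd']⟩
  have hfixvu : fixedBy Ω (v * u) = fixedBy Ω u :=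
    hB.fix_eq _ _ hvubad hu d d' hdd (by rw [mul_smul, hd, hvd]) (by rw [mul_smul, hd', hvd']) hd hd'
  have hprod : (v * s) * (u * b) = (v * u) * (s * b) := by
    calc (v * s) * (u * b) = v * (s * u) * b := by group
      _ = v * (u * s) * b := by rw [← (hB.case.central u hu d hd s hs).eq]
      _ = _ := by group
  have hcz : Commute (v * u) (s * b) :=
    (hB.case.central _ hvubad d (by rw [mul_smul, hd, hvd]) s hs).mul_right
      (hB.case.central _ hvubad d' (by rw [mul_smul, hd', hvd']) b hb)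
  obtain ⟨hev, hhalf⟩ := pow_half_mul_odd hz2 hcz (hB.setting.odd_order_mul hs hb hdd)
  rw [← hprod] at hev hhalf
  -- the same seen from `u'`
  have hW : fixedBy Ω (v * s) = fixedBy Ω (u' * a') := by
    rw [← hl]
    exact hB.fix_eq _ _ hsbad hua d z hzd.symm (by rw [mul_smul, hs.2, hvd]) hsz huad hz
  obtain ⟨V₁, hV₁, hV₁F, b₁, hb₁, hW₁⟩ := hB.exists_on_line hcom hu' hf ha' hsbad hW
  obtain ⟨V₂, hV₂, hV₂F, b₂, hb₂, hW₂⟩ := hB.exists_on_line hcom hu' hf' hb' hub hl'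
  have hV : ∀ {V : G}, fixedBy Ω V = fixedBy Ω u' → V • f = f ∧ V • f' = f' := fun {V} h => by
    constructor
    · have : f ∈ fixedBy Ω V := h ▸ hf
      exact this
    · have : f' ∈ fixedBy Ω V := h ▸ hf'
      exact this
  obtain ⟨h1f, h1f'⟩ := hV hV₁F
  obtain ⟨h2f, h2f'⟩ := hV hV₂F
  have hc12 : Commute V₁ V₂ := hcom V₁ V₂ hV₁ hV₂ f f' hff h1f h1f' h2f h2f'
  have hprod' : (v * s) * (u * b) = (V₁ * V₂) * (b₁ * b₂) := by
    rw [hW₁, hW₂]
    calc V₁ * b₁ * (V₂ * b₂) = V₁ * (b₁ * V₂) * b₂ := by group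
      _ = V₁ * (V₂ * b₁) * b₂ := by rw [← (hB.case.central V₂ hV₂ f h2f b₁ hb₁).eq]
      _ = _ := by group
  have hodd' := hB.setting.odd_order_mul hb₁ hb₂ hff
  have hne : V₁ ≠ V₂ := by
    rintro rfl
    rw [hprod', mul_self_eq_one hV₁.1, one_mul] at hev
    exact (Nat.not_even_iff_odd.2 hodd') hev
  have h12 : orderOf (V₁ * V₂) = 2 := orderOf_eq_two_iff_mul.2 ⟨fun h => hne (by
      rw [mul_eq_one_iff_eq_inv, inv_eq_self_of_involution hV₂.1] at h; exact h), by
    rw [mul_assoc, ← mul_assoc V₂, ← hc12.eq, mul_assoc V₁, mul_self_eq_one hV₂.1, mul_one,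
      mul_self_eq_one hV₁.1]⟩
  have h12f : (V₁ * V₂) • f = f := by rw [mul_smul, h2f, h1f]
  have h12f' : (V₁ * V₂) • f' = f' := by rw [mul_smul, h2f', h1f']
  have h12bad : IsBad Ω (V₁ * V₂) := ⟨h12, f, f', hff, h12f, h12f'⟩
  obtain ⟨-, hhalf'⟩ := pow_half_mul_odd h12
    ((hB.case.central _ h12bad f h12f b₁ hb₁).mul_right (hB.case.central _ h12bad f' h12f' b₂ hb₂))
    hodd'
  rw [← hprod', hhalf] at hhalf'
  rw [← hfixvu, hhalf']
  exact hB.fix_eq _ _ h12bad hu' f f' hff h12f h12f' hf hf'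

omit hcom

/-- Two commuting bad involutions with two common fixed points are equal. -/
theorem noFour : NoFour (G := G) Ω := by
  classical
  intro a₀ b₀ ha₀ hb₀ hab₀ x₀ y₀ hxy₀ hax hay hbx hby
  by_contra hne₀
  -- every pair of points carries a four group
  have hev : ∀ x y : Ω, x ≠ y → ∃ u v : G, IsBad Ω u ∧ IsBad Ω v ∧ Commute u v ∧ u ≠ v ∧
      u • x = x ∧ u • y = y ∧ v • x = x ∧ v • y = y := by
    intro x y hxy
    obtain ⟨g₁, hg₁⟩ := hB.setting.trans x₀ x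
    obtain ⟨g₂, hg₂, hg₂y⟩ := hB.twoTrans x (g₁ • y₀) y
      (fun h => hxy₀ (MulAction.injective g₁ (h.trans hg₁.symm)).symm) hxy.symm
    set g := g₂ * g₁
    have hgx : g • x₀ = x := by rw [mul_smul, hg₁, hg₂]
    have hgy : g • y₀ = y := by rw [mul_smul, hg₂y]
    have hconj : ∀ {w : G} {p : Ω}, w • p = p → (g * w * g⁻¹) • g • p = g • p := fun {w p} h => by
      rw [smul_smul, inv_mul_cancel_right, mul_smul, h]
    refine ⟨g * a₀ * g⁻¹, g * b₀ * g⁻¹, isBad_conj ha₀ g, isBad_conj hb₀ g, ?_,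
      fun h => hne₀ (by simpa using h), hgx ▸ hconj hax, hgy ▸ hconj hay, hgx ▸ hconj hbx,
      hgy ▸ hconj hby⟩
    exact hab₀.map (MulAut.conj g).toMonoidHom
  have hcom : ∀ a b : G, IsBad Ω a → IsBad Ω b → ∀ x y : Ω, x ≠ y → a • x = x → a • y = y →
      b • x = x → b • y = y → Commute a b := by
    intro a b ha hb x y hxy hax hay hbx hby
    obtain ⟨u, v, hu, hv, huv, hne, hux, huy, hvx, hvy⟩ := hev x y hxy
    have hua : Commute u a :=
      hB.commute_of_four hxy.symm hu hv ha hux huy hvx hvy hax hay huv hne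
    by_cases hau : u = a
    · subst hau
      exact hB.commute_of_four hxy.symm hu hv hb hux huy hvx hvy hbx hby huv hne
    · exact hB.commute_of_four hxy.symm ha hu hb hax hay hux huy hbx hby hua.symm (Ne.symm hau)
  have hfour : ∀ x y : Ω, x ≠ y → ∀ u : G, IsBad Ω u → u • x = x → u • y = y →
      ∃ v, IsBad Ω v ∧ v ≠ u ∧ v • x = x ∧ v • y = y := by
    intro x y hxy u hu hux huy
    obtain ⟨p, r, hp, hr, -, hne, hpx, hpy, hrx, hry⟩ := hev x y hxy
    rcases eq_or_ne p u with rfl | hpu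
    · exact ⟨r, hr, hne.symm, hrx, hry⟩
    · exact ⟨p, hp, hpu, hpx, hpy⟩
  -- a line and the lines found from it
  obtain ⟨w, hw⟩ := hB.case.exists_bad
  set l := fixedBy Ω w
  have hl : l ∈ lineSet G Ω := ⟨w, hw, rfl⟩
  obtain ⟨c₀, -⟩ := hw.2
  set T := Nat.card (linesAt G c₀) with hTdef
  have hT : ∀ c : Ω, Nat.card (linesAt G c) = T := fun c => by
    have h1 := hB.card_linesAt c
    have h2 := hB.card_linesAt c₀
    exact Nat.eq_of_mul_eq_mul_right (pow_pos two_pos (e * 2)) (by rw [hTdef]; omega)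
  let Δ := Σ d : l, Σ a : memAt Z (d : Ω),
    Σ d' : (fixedBy Ω (w * (a : G)) \ {(d : Ω)} : Set Ω), memAt Z (d' : Ω)
  have hmem : ∀ (d : l) (a : memAt Z (d : Ω)), IsBad Ω (w * (a : G)) ∧ (w * (a : G)) • (d : Ω) = d ∧
      ∀ z : Ω, w • z = z → (w * (a : G)) • z = z → z = (d : Ω) := fun d a => by
    obtain ⟨h1, h2, h3, -⟩ := hB.fixed_mul hw d.2 a.2
    exact ⟨h1, h2, h3⟩
  have hw' : ∀ (d : l) (a : memAt Z (d : Ω)), w * (a : G) * (a : G) = w := fun d a => by
    rw [mul_assoc, mul_self_eq_one (hB.setting.invol _ a.2.1), mul_one]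
  have hout : ∀ p : Δ, fixedBy Ω (w * (p.2.1 : G) * (p.2.2.2 : G)) ∈ lineSet G Ω ∧
      ∀ z ∈ l, z ∉ fixedBy Ω (w * (p.2.1 : G) * (p.2.2.2 : G)) := by
    rintro ⟨d, a, ⟨d', hd', hd'd⟩, b⟩
    obtain ⟨hu, hud, hudisj⟩ := hmem d a
    obtain ⟨hub, -, hubdisj, -⟩ := hB.fixed_mul hu hd' b.2
    refine ⟨⟨_, hub, rfl⟩, fun z hz hz' => ?_⟩
    have hne : (d : Ω) ≠ d' := Ne.symm hd'd
    rcases eq_or_ne z d with rfl | hzd
    · exact hne (hubdisj _ hud hz')
    have h1 : (a : G) = b := hB.member_eq_of_fix hu a.2 b.2 hud hd' hzd (by rw [hw']; exact hz) hz'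
    exact hne (hB.setting.unique _ a.2.1 _ _ a.2.2 (h1 ▸ b.2.2))
  let Φ : (Σ d : l, ((linesAt G (d : Ω)) \ {l} : Set (Set Ω))) ⊕ Δ →
      (lineSet G Ω \ {l} : Set (Set Ω)) := Sum.elim
    (fun p => ⟨p.2.1, p.2.2.1.1, p.2.2.2⟩)
    (fun p => ⟨fixedBy Ω (w * (p.2.1 : G) * (p.2.2.2 : G)), (hout p).1, fun h => by
      have h1 : (p.1 : Ω) ∈ fixedBy Ω (w * (p.2.1 : G) * (p.2.2.2 : G)) := by
        rw [Set.mem_singleton_iff.1 h]; exact p.1.2
      exact (hout p).2 _ p.1.2 h1⟩)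
  have hΦ : Function.Injective Φ := by
    refine Function.Injective.sumElim ?_ ?_ ?_
    · rintro ⟨⟨d, hd⟩, F, ⟨hF, hdF⟩, hFl⟩ ⟨⟨d', hd'⟩, F', ⟨hF', hdF'⟩, hFl'⟩ h
      obtain rfl : F = F' := congrArg Subtype.val h
      obtain rfl : d = d' := by
        by_contra hne
        exact hFl (hB.line_eq hF hl hne hdF hdF' hd hd')
      rfl
    · rintro ⟨⟨d, hd⟩, ⟨a, ha⟩, ⟨d', hd', hd'd⟩, b, hb⟩ ⟨⟨f, hf⟩, ⟨a', ha'⟩, ⟨f', hf', hf'f⟩, b', hb'⟩ h
      have heq : fixedBy Ω (w * a * b) = fixedBy Ω (w * a' * b') := congrArg Subtype.val h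
      obtain ⟨hu, hud, hudisj⟩ := hmem ⟨d, hd⟩ ⟨a, ha⟩
      obtain ⟨hu', huf, hu'disj⟩ := hmem ⟨f, hf⟩ ⟨a', ha'⟩
      simp only at hu hud hudisj hu' huf hu'disj
      have hFF : fixedBy Ω (w * a) = fixedBy Ω (w * a') :=
        hB.transversal_eq hcom hfour hu hu' hud hd' (Ne.symm hd'd) huf hf' (Ne.symm hf'f) ha hb ha'
          hb' (by rw [hw' ⟨d, hd⟩ ⟨a, ha⟩, hw' ⟨f, hf⟩ ⟨a', ha'⟩]) heq
      obtain rfl : d = f := by
        refine (hudisj f hf ?_).symm
        have : f ∈ fixedBy Ω (w * a) := hFF ▸ huf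
        exact this
      obtain rfl : a = a' := by
        obtain ⟨z, hz, hzd⟩ := hB.exists_fix_ne hu d
        have hz' : (w * a') • z = z := by
          have : z ∈ fixedBy Ω (w * a') := hFF ▸ hz
          exact this
        exact hB.mul_inj hw hd (Subgroup.subset_closure ha) (Subgroup.subset_closure ha') hzd hz hz'
      obtain ⟨hub, hubd, -, z, hzd, hz, -⟩ := hB.fixed_mul hu hd' hb
      obtain ⟨-, hubf, hdisj', -⟩ := hB.fixed_mul hu hf' hb'
      obtain rfl : d' = f' := by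
        have : d' ∈ fixedBy Ω (w * a * b') := heq ▸ hubd
        exact hdisj' d' hd' this
      obtain rfl : b = b' := by
        have hz' : (w * a * b') • z = z := by
          have : z ∈ fixedBy Ω (w * a * b') := heq ▸ hz
          exact this
        exact hB.mul_inj hu hd' (Subgroup.subset_closure hb) (Subgroup.subset_closure hb') hzd hz hz'
      rfl
    · rintro p q h
      have h1 : (p.2 : Set Ω) = fixedBy Ω (w * (q.2.1 : G) * (q.2.2.2 : G)) := congrArg Subtype.val h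
      exact (hout q).2 _ p.1.2 (h1 ▸ p.2.2.1.2)
  have hcard := Nat.card_le_card_of_injective Φ hΦ
  -- count
  have := Fintype.ofFinite l
  have hA : Nat.card (Σ d : l, ((linesAt G (d : Ω)) \ {l} : Set (Set Ω))) =
      (2 ^ (e * 2) + 1) * (T - 1) := by
    rw [Nat.card_sigma, Finset.sum_congr rfl (fun (d : l) _ => show
        Nat.card ((linesAt G (d : Ω)) \ {l} : Set (Set Ω)) = T - 1 by
      rw [Nat.card_coe_set_eq, Set.ncard_diff_singleton_of_mem (show l ∈ linesAt G (d : Ω) from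
        ⟨hl, d.2⟩), ← Nat.card_coe_set_eq, hT]), Finset.sum_const, smul_eq_mul, Finset.card_univ,
      ← Nat.card_eq_fintype_card, Nat.card_coe_set_eq, hB.card_line hl]
  have hm : ∀ c : Ω, Nat.card (memAt Z c) = 2 ^ e - 1 := fun c => by
    have := hB.case.card_mem c
    rw [Nat.card_coe_set_eq]; omega
  have hD : Nat.card Δ = (2 ^ (e * 2) + 1) * ((2 ^ e - 1) * (2 ^ (e * 2) * (2 ^ e - 1))) := by
    rw [Nat.card_sigma, Finset.sum_congr rfl (fun (d : l) _ => show
        Nat.card (Σ a : memAt Z (d : Ω), Σ d' : (fixedBy Ω (w * (a : G)) \ {(d : Ω)} : Set Ω),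
          memAt Z (d' : Ω)) = (2 ^ e - 1) * (2 ^ (e * 2) * (2 ^ e - 1)) by
      have := Fintype.ofFinite (memAt Z (d : Ω))
      rw [Nat.card_sigma, Finset.sum_congr rfl (fun (a : memAt Z (d : Ω)) _ => show
          Nat.card (Σ d' : (fixedBy Ω (w * (a : G)) \ {(d : Ω)} : Set Ω), memAt Z (d' : Ω)) =
            2 ^ (e * 2) * (2 ^ e - 1) by
        have := Fintype.ofFinite (fixedBy Ω (w * (a : G)) \ {(d : Ω)} : Set Ω)
        obtain ⟨hu, hud, -⟩ := hmem d a
        rw [Nat.card_sigma, Finset.sum_congr rfl (fun d' _ => hm _), Finset.sum_const, smul_eq_mul,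
          Finset.card_univ, ← Nat.card_eq_fintype_card, Nat.card_coe_set_eq,
          Set.ncard_diff_singleton_of_mem (show (d : Ω) ∈ fixedBy Ω (w * (a : G)) from hud),
          hB.card_fix hu, Nat.add_sub_cancel]),
        Finset.sum_const, smul_eq_mul, Finset.card_univ, ← Nat.card_eq_fintype_card, hm]),
      Finset.sum_const, smul_eq_mul, Finset.card_univ, ← Nat.card_eq_fintype_card,
      Nat.card_coe_set_eq, hB.card_line hl]
  have hR : Nat.card (lineSet G Ω \ {l} : Set (Set Ω)) = Nat.card (lineSet G Ω) - 1 := by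
    rw [Nat.card_coe_set_eq, Nat.card_coe_set_eq, Set.ncard_diff_singleton_of_mem hl]
  rw [Nat.card_sum, hA, hD, hR] at hcard
  have hL := hB.card_lineSet hT
  have hn := hB.card_linesAt c₀
  rw [← hTdef, hB.case.card_omega] at hn
  rw [hB.case.card_omega] at hL
  obtain ⟨r, hr⟩ : ∃ r, 2 ^ e = r + 1 := ⟨2 ^ e - 1, by have := Nat.one_le_two_pow (n := e); omega⟩
  have hr1 : 1 ≤ r := by
    have := Nat.pow_le_pow_right two_pos hB.three_le
    omega
  rw [hr, Nat.add_sub_cancel] at hcard hn hL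
  set P := 2 ^ (e * 2)
  have hP : 0 < P := pow_pos two_pos _
  have hTv : T = r * P + r + 1 := Nat.eq_of_mul_eq_mul_right hP (by
    have : (P + 1) * (1 + r * P) = (r * P + r + 1) * P + 1 := by ring
    omega)
  have hLv : Nat.card (lineSet G Ω) = (1 + r * P) * T := Nat.eq_of_mul_eq_mul_right
    (Nat.succ_pos P) (by rw [Nat.succ_eq_add_one, hL]; ring)
  rw [hLv, hTv, Nat.add_sub_cancel] at hcard
  have key : (P + 1) * (r * P + r) + (P + 1) * (r * (P * r)) + 1 =
      (1 + r * P) * (r * P + r + 1) + r * P * P := by ring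
  have h0 : 0 < r * P * P := Nat.mul_pos (Nat.mul_pos hr1 hP) hP
  have h1 : 0 < (1 + r * P) * (r * P + r + 1) := Nat.mul_pos (by omega) (by omega)
  generalize (P + 1) * (r * P + r) = A, (P + 1) * (r * (P * r)) = B,
    (1 + r * P) * (r * P + r + 1) = C, r * P * P = D at *
  omega

end Base

end CfsgLib.StrongCrit.CentralTwo
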