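import Cfsg.Agent.Lib.StrongCrit.CentralTwo.MainOf
import Cfsg.Agent.Lib.StrongCrit.CentralTwo.NoFour

/-!
The Suzuki case of the central case of Aschbacher's criterion does not occur.
-/

set_option autoImplicit false

namespace CfsgLib.StrongCrit.CentralTwo

universe u

/-- Fixed sets of `q ^ 2 + 1` points do not occur in the central case. -/
theorem centralFalse_two : CentralFalse.{u} 2 :=
  centralFalse_two_of_noFour fun _ _ _ _ _ _ _ _ hB => hB.noFour

end CfsgLib.StrongCrit.CentralTwo
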