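import Cfsg.Agent.Lib.StrongCrit.CentralTwo.Defs
import Cfsg.Agent.Lib.StrongCrit.CentralThree.Facts

/-!
The facts about lines in the Suzuki case of the central case of Aschbacher's criterion: kernels,
tori, the equality of the fixed sets of bad involutions with two common fixed points, and the
stabiliser of a line.
-/

set_option autoImplicit false

namespace CfsgLib.StrongCrit.CentralTwo

open CfsgLib.Involutions CfsgLib.BenderTrans MulAction
open CfsgLib.StrongCrit.CentralThree (one_lt_memAt secComm four_le mem_memGroup bMem_eq)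
open scoped commutatorElement

set_option linter.unusedSectionVars false

universe u

variable {G : Type u} [Group G] [Finite G] {Ω : Type u} [MulAction G Ω] [Finite Ω] {Z : Set G}
  {e : ℕ} (hCC : CentralCase Ω Z 2 e)
include hCC

/-- The members with centre fixed by a bad involution are those commuting with it. -/
theorem mem_memCent_of_fix {w : G} (hw : IsBad Ω w) {c : Ω} (hc : w • c = c) {a : G}
    (ha : a ∈ memAt Z c) : a ∈ memCent Z w :=
  Subgroup.subset_closure ⟨ha.1, hCC.central w hw c hc a ha⟩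

/-- Conjugation by an element fixing `c` and `y` inverts a member interchanging them again. -/
theorem conj_swap {c y : Ω} {d s : G} (hdc : d • c = c) (hdy : d • y = y)
    (hs : s ∈ swapMem Z c y) : d * s * d⁻¹ ∈ swapMem Z c y :=
  ⟨hCC.crit.base.conj_mem d s hs.1,
    by rw [mul_smul, mul_smul, inv_smul_eq_iff.2 hdc.symm, hs.2, hdy]⟩

/-- Every member interchanging two fixed points of a bad involution commutes with it. -/
theorem commute_swap {w : G} (hw : IsBad Ω w) {c y : Ω} (hwc : w • c = c) (hwy : w • y = y)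
    (hyc : y ≠ c) {s : G} (hs : s ∈ swapMem Z c y) : Commute w s := by
  obtain ⟨h1, -⟩ :=
    hCC.crit.ncard_swap_commute (secComm hCC) (one_lt_memAt hCC) hw hwc hwy hyc
  have h2 : {t | t ∈ swapMem Z c y ∧ Commute w t} = swapMem Z c y :=
    Set.eq_of_subset_of_ncard_le (fun t ht => ht.1) (by
      rw [h1, bMem_eq hCC hw hwc, hCC.crit.base.ncard_swapMem hyc.symm]) (Set.toFinite _)
  exact (h2.symm.subset hs).2

/-- A bad involution at every two points. -/
theorem exists_bad_at {c y : Ω} (hyc : y ≠ c) :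
    ∃ w : G, IsBad Ω w ∧ w • c = c ∧ w • y = y := by
  obtain ⟨w, hw⟩ := hCC.exists_bad
  obtain ⟨-, p, p', hpp, hp, hp'⟩ := id hw
  obtain ⟨g, hg⟩ := hCC.crit.base.trans p c
  have hg' : g • p' ≠ c := fun e => hpp (MulAction.injective g (hg.trans e.symm))
  obtain ⟨m, hmc, hm⟩ := hCC.crit.twoTrans hCC.pure hCC.exists_bad c (g • p') y hg' hyc
  refine ⟨m * g * w * (m * g)⁻¹, isBad_conj hw _, ?_, ?_⟩
  · have h1 : (m * g) • p = c := by rw [mul_smul, hg, hmc]
    rw [mul_smul, inv_smul_eq_iff.2 h1.symm, mul_smul, hp, h1]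
  · have h1 : (m * g) • p' = y := by rw [mul_smul, hm]
    rw [mul_smul, inv_smul_eq_iff.2 h1.symm, mul_smul, hp', h1]

/-- The torus of two points. -/
theorem exists_torus {c y : Ω} (hyc : y ≠ c) : ∃ J : Subgroup G, Torus Ω Z c y e J := by
  obtain ⟨w, hw, hwc, hwy⟩ := exists_bad_at hCC hyc
  have h := hCC.crit.base
  obtain ⟨r, hr, hwr⟩ := h.exists_swap_centralized (isPGroup_zpowers hw.1) hyc.symm
    fun g hg => Or.inl ⟨mem_stabilizer_iff.1 (Subgroup.zpowers_le.2 (mem_stabilizer_iff.2 hwc) hg),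
      mem_stabilizer_iff.1 (Subgroup.zpowers_le.2 (mem_stabilizer_iff.2 hwy) hg)⟩
  have hwr' : Commute w r := hwr w (Subgroup.mem_zpowers w)
  obtain ⟨J, hJ, hcyc, hcard, hle, hreg⟩ :=
    hCC.crit.exists_torus (secComm hCC) (one_lt_memAt hCC) hw hwc hwy hyc hr hwr'
  rw [bMem_eq hCC hw hwc] at hreg hcard
  have hri : r⁻¹ = r := inv_eq_self_of_involution (h.invol r hr.1)
  have hrr : r * r = 1 := mul_self_eq_one (h.invol r hr.1)
  have hset : (J : Set G) = (fun s => s * r) '' swapMem Z c y := by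
    refine (Set.eq_of_subset_of_ncard_le ?_ ?_ (Set.toFinite _)).symm
    · rintro _ ⟨s, hs, rfl⟩
      rw [hJ]
      refine ⟨mul_mem (Subgroup.subset_closure ⟨hs.1, commute_swap hCC hw hwc hwy hyc hs⟩)
        (Subgroup.subset_closure ⟨hr.1, hwr'⟩), ?_, ?_, ?_⟩
      · rw [mul_smul, hr.2, h.swap_symm hs]
      · rw [mul_smul, h.swap_symm hr, hs.2]
      · rw [mul_inv_rev, hri, inv_eq_self_of_involution (h.invol s hs.1)]
        simp [mul_assoc, hrr]
    · rw [Set.ncard_image_of_injective _ (mul_left_injective r), h.ncard_swapMem hyc.symm,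
        ← hcard, ← Nat.card_coe_set_eq]
      rfl
  have hex : ∀ j ∈ J, ∃ s ∈ swapMem Z c y, j = s * r := fun j hj => by
    obtain ⟨s, hs, e⟩ := hset.subset hj
    exact ⟨s, hs, e.symm⟩
  have hfix : ∀ j ∈ J, j • c = c ∧ j • y = y := fun j hj => by
    obtain ⟨-, h1, h2, -⟩ := hJ.subset hj
    exact ⟨h1, h2⟩
  have hnorm : ∀ d ∈ two G c y, ∀ j ∈ J, d * j * d⁻¹ ∈ J := by
    intro d hd j hj
    obtain ⟨hdc, hdy⟩ := mem_two_iff.1 hd
    obtain ⟨s, hs, rfl⟩ := hex j hj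
    have hm : ∀ t ∈ swapMem Z c y, d * t * d⁻¹ * r ∈ J := fun t ht =>
      hset.symm.subset ⟨_, conj_swap hCC hdc hdy ht, rfl⟩
    have h2 := J.mul_mem (hm s hs) (J.inv_mem (hm r hr))
    have h3 : d * s * d⁻¹ * r * (d * r * d⁻¹ * r)⁻¹ = d * (s * r⁻¹) * d⁻¹ := by group
    rwa [h3, hri] at h2
  have hconj : ∀ j ∈ J, ∀ a ∈ memAt Z c, j * a * j⁻¹ ∈ memAt Z c := fun j hj a ha =>
    (hreg a ha).mapsTo hj
  refine ⟨J, ⟨?_, hcyc, hfix, fun a ha a' ha' => (hreg a ha).surjOn ha',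
    fun j hj a ha hja => (hreg a ha).injOn hj J.one_mem (by simpa using hja),
    fun j hj p hp => ?_, fun v hv hvc hvy j hj => ?_, hnorm⟩⟩
  · have := hCC.card_mem c
    omega
  · obtain ⟨hpc, hpy, hpa⟩ := mem_lineStab.1 hp
    obtain ⟨a, ha⟩ := h.exists_memAt c
    have hpj := hnorm p (mem_two_iff.2 ⟨hpc, hpy⟩) j hj
    have h1 : p * j * p⁻¹ = j := by
      refine (hreg a ha).injOn hpj hj ?_
      have e1 : p⁻¹ * a * p = a := by rw [mul_assoc, (hpa a ha).eq, inv_mul_cancel_left]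
      calc p * j * p⁻¹ * a * (p * j * p⁻¹)⁻¹ = p * (j * (p⁻¹ * a * p) * j⁻¹) * p⁻¹ := by group
        _ = p * (j * a * j⁻¹) * p⁻¹ := by rw [e1]
        _ = j * a * j⁻¹ := by rw [← (hpa _ (hconj j hj a ha)).eq, mul_inv_cancel_right]
    exact (show Commute p j from mul_inv_eq_iff_eq_mul.1 h1).symm
  · obtain ⟨s, hs, rfl⟩ := hex j hj
    exact mul_mem (Subgroup.subset_closure ⟨hs.1, commute_swap hCC hv hvc hvy hyc hs⟩)
      (Subgroup.subset_closure ⟨hr.1, commute_swap hCC hv hvc hvy hyc hr⟩)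

/-- The kernel with all of its properties but those derived from the torus. -/
theorem exists_preKernel {w : G} (hw : IsBad Ω w) {c : Ω} (hc : w • c = c) :
    ∃ Q : Subgroup G, (∀ g : G, g ∈ Q ↔ g ∈ memCent Z w ∧ g • c = c ∧ ∃ j : ℕ, g ^ 2 ^ j = 1) ∧
      Nat.card Q = 2 ^ (e * 2) ∧ memGroup Z c ≤ Q ∧
      (∀ a ∈ memGroup Z c, ∀ g ∈ Q, Commute a g) ∧ (∀ g ∈ Q, g * g ∈ memGroup Z c) ∧
      (∀ g ∈ Q, ∀ h ∈ Q, ⁅g, h⁆ ∈ memGroup Z c) ∧ (∀ g ∈ Q, g * g = 1 → g ∈ memGroup Z c) ∧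
      (∃ x ∈ Q, ∃ z ∈ Q, x * z ≠ z * x) ∧
      (∀ g ∈ Q, ∀ z : Ω, z ≠ c → g • z = z → g = 1) ∧
      (∀ y z : Ω, w • y = y → w • z = z → y ≠ c → z ≠ c → ∃ g ∈ Q, g • y = z) := by
  have hC := hCC.crit
  have hsc := secComm hCC
  have hbig := one_lt_memAt hCC
  obtain ⟨Q', -, hQ'mem, -, htr, -, hB, hQB⟩ := hC.exists_sectKernel hsc hbig hw hc
  obtain ⟨Q, hQmem, hF, hshape, hsq, hcm⟩ := hC.exists_qShape hsc hbig hw hc
  obtain rfl : Q' = Q := Subgroup.ext fun g => (hQ'mem g).trans (hQmem g).symm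
  have hb := bMem_eq hCC hw hc
  rw [hb] at hB hQB hshape
  simp only [hb] at hsq hcm
  have hle : memGroup Z c ≤ Q' := fun g hg => by
    rcases (mem_memGroup hCC).1 hg with rfl | hg
    · exact one_mem _
    · exact (hB g hg).1
  have hmsq : ∀ g ∈ Q', g * g = 1 → g ∈ memGroup Z c := fun g hg hgg =>
    (mem_memGroup hCC).2 (or_iff_not_imp_left.2 fun h1 =>
      hQB g hg (orderOf_eq_two_iff_mul.2 ⟨h1, hgg⟩))
  have hsqE : ∀ g ∈ Q', g * g ∈ memGroup Z c := fun g hg => (mem_memGroup hCC).2 (hsq g hg)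
  have hcard : Nat.card Q' = 2 ^ (e * 2) := by
    have h1 := Set.ncard_sdiff_singleton_add_one (s := fixedBy Ω w) hc (Set.toFinite _)
    rw [hCC.card_fix w hw] at h1
    exact hF.symm.trans (Nat.add_right_cancel h1)
  refine ⟨Q', hQmem, hcard, hle, fun a ha g hg => ?_, hsqE,
    fun g hg h hh => (mem_memGroup hCC).2 (hcm g hg h hh), hmsq, ?_, fun g hg z hzc hgz => ?_, htr⟩
  · rcases (mem_memGroup hCC).1 ha with rfl | ha
    · exact Commute.one_left g
    · exact (hB a ha).2 g hg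
  · rcases hshape with ⟨hQ, -⟩ | ⟨hna, -⟩
    · exfalso
      rw [hCC.card_mem c, hcard] at hQ
      have := Nat.pow_right_injective le_rfl hQ
      have := hCC.two_le
      omega
    · exact hna
  · have h2 : g * g = 1 := hC.base.eq_one_of_memGroup_fix hC.faith hCC.comm (hsqE g hg)
      (by rw [mul_smul, hgz, hgz]) hzc
    exact hC.base.eq_one_of_memGroup_fix hC.faith hCC.comm (hmsq g hg h2) hgz hzc

/-- The torus normalises the kernel. -/
theorem torus_norm {w : G} (hw : IsBad Ω w) {c y : Ω} (hc : w • c = c) (hy : w • y = y)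
    {Q J : Subgroup G}
    (hQ : ∀ g : G, g ∈ Q ↔ g ∈ memCent Z w ∧ g • c = c ∧ ∃ j : ℕ, g ^ 2 ^ j = 1)
    (hJ : Torus Ω Z c y e J) {j x : G} (hj : j ∈ J) (hx : x ∈ Q) : j * x * j⁻¹ ∈ Q := by
  obtain ⟨hxL, hxc, k, hk⟩ := (hQ x).1 hx
  have hjL := hJ.le_memCent w hw hc hy hj
  refine (hQ _).2 ⟨mul_mem (mul_mem hjL hxL) (inv_mem hjL), ?_, k, ?_⟩
  · rw [mul_smul, mul_smul, inv_smul_eq_iff.2 (hJ.fix j hj).1.symm, hxc, (hJ.fix j hj).1]
  · rw [conj_pow, hk, mul_one, mul_inv_cancel]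

/-- The torus is transitive on the non-trivial classes of the kernel modulo the members. -/
theorem exists_class {w : G} (hw : IsBad Ω w) {c y : Ω} (hc : w • c = c) (hy : w • y = y)
    {Q J : Subgroup G}
    (hQ : ∀ g : G, g ∈ Q ↔ g ∈ memCent Z w ∧ g • c = c ∧ ∃ j : ℕ, g ^ 2 ^ j = 1)
    (hcard : Nat.card Q = 2 ^ (e * 2)) (hle : memGroup Z c ≤ Q)
    (hcen : ∀ a ∈ memGroup Z c, ∀ g ∈ Q, Commute a g) (hsq : ∀ g ∈ Q, g * g ∈ memGroup Z c)
    (hmsq : ∀ g ∈ Q, g * g = 1 → g ∈ memGroup Z c)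
    (hJ : Torus Ω Z c y e J) {g h : G} (hg : g ∈ Q) (hh : h ∈ Q) (hgE : g ∉ memGroup Z c)
    (hhE : h ∉ memGroup Z c) :
    ∃ j ∈ J, (j * g * j⁻¹)⁻¹ * h ∈ memGroup Z c := by
  classical
  have hC := hCC.crit
  set E := memGroup Z c with hE
  have hfree : ∀ j ∈ J, ∀ x ∈ Q, x⁻¹ * (j * x * j⁻¹) ∈ E → x ∉ E → j = 1 := by
    intro j hj x hx h hxE
    have hcm := hcen _ h x hx
    have h2 : j * (x * x) * j⁻¹ = x * x := by
      have ha := hC.base.mul_self_memGroup hC.faith hCC.comm h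
      set a := x⁻¹ * (j * x * j⁻¹) with hadef
      have hjx : j * x * j⁻¹ = x * a := by rw [hadef, mul_inv_cancel_left]
      calc j * (x * x) * j⁻¹ = (j * x * j⁻¹) * (j * x * j⁻¹) := by group
        _ = x * (a * x) * a := by rw [hjx]; group
        _ = x * (x * a) * a := by rw [hcm.eq]
        _ = x * x := by rw [mul_assoc, mul_assoc, ha, mul_one]
    rcases (mem_memGroup hCC).1 (hsq x hx) with h3 | h3
    · exact absurd (hmsq x hx h3) hxE
    · exact hJ.regular j hj _ h3 h2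
  set N := E.subgroupOf Q with hN
  let f : J → Q ⧸ N := fun j =>
    QuotientGroup.mk (⟨(j : G) * g * (j : G)⁻¹, torus_norm hCC hw hc hy hQ hJ j.2 hg⟩ : Q)
  have hinj : Function.Injective f := fun i j hij => by
    have h1 : ((i : G) * g * (i : G)⁻¹)⁻¹ * ((j : G) * g * (j : G)⁻¹) ∈ E := (QuotientGroup.eq (s := N)).1 hij
    have hic : (i : G)⁻¹ • c = c := inv_smul_eq_iff.2 (hJ.fix i i.2).1.symm
    have h2 := hC.base.conj_mem_memGroup hic h1
    have h3 : (i : G)⁻¹ * (((i : G) * g * (i : G)⁻¹)⁻¹ * ((j : G) * g * (j : G)⁻¹)) * (i : G)⁻¹⁻¹ =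
        g⁻¹ * (((i : G)⁻¹ * j) * g * ((i : G)⁻¹ * j)⁻¹) := by group
    rw [h3] at h2
    exact Subtype.ext (inv_mul_eq_one.1 (hfree _ (mul_mem (inv_mem i.2) j.2) g hg h2 hgE))
  have hne : ∀ x : Q, (x : G) ∉ E → (QuotientGroup.mk x : Q ⧸ N) ≠ QuotientGroup.mk 1 := by
    intro x hx hx1
    have h1 : (x : G)⁻¹ * 1 ∈ E := (QuotientGroup.eq (s := N)).1 hx1
    rw [mul_one] at h1
    exact hx (inv_mem_iff.1 h1)
  have hsub : Set.range f ⊆ Set.univ \ {QuotientGroup.mk 1} := by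
    rintro _ ⟨j, rfl⟩
    refine ⟨trivial, hne _ fun hjE => hgE ?_⟩
    have h2 := hC.base.conj_mem_memGroup (inv_smul_eq_iff.2 (hJ.fix j j.2).1.symm) hjE
    have h3 : (j : G)⁻¹ * ((j : G) * g * (j : G)⁻¹) * (j : G)⁻¹⁻¹ = g := by group
    rw [← h3]
    exact h2
  have hqc : Nat.card (Q ⧸ N) = 2 ^ e := by
    have h1 := Subgroup.card_eq_card_quotient_mul_card_subgroup N
    rw [hcard, hN, Nat.card_congr (Subgroup.subgroupOfEquivOfLe hle).toEquiv, hE,
      CentralThree.card_memGroup hCC c, pow_mul, pow_two] at h1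
    exact (Nat.eq_of_mul_eq_mul_right (Nat.two_pow_pos e) h1).symm
  have heq := Set.eq_of_subset_of_ncard_le hsub (by
    rw [← Set.image_univ, Set.ncard_image_of_injective _ hinj, Set.ncard_univ, hJ.card,
      Set.ncard_sdiff_singleton_of_mem (Set.mem_univ _), Set.ncard_univ, hqc]) (Set.toFinite _)
  obtain ⟨j, hj⟩ : (QuotientGroup.mk ⟨h, hh⟩ : Q ⧸ N) ∈ Set.range f :=
    heq ▸ ⟨trivial, hne ⟨h, hh⟩ hhE⟩
  exact ⟨j, j.2, (QuotientGroup.eq (s := N)).1 hj⟩

/-- The kernel. -/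
theorem exists_kernel {w : G} (hw : IsBad Ω w) {c : Ω} (hc : w • c = c) :
    ∃ Q : Subgroup G, Kernel Ω Z w c e Q := by
  have hC := hCC.crit
  obtain ⟨Q, hmem, hcard, hle, hcen, hsq, hcomm, hmsq, hna, hfree, htr⟩ :=
    exists_preKernel hCC hw hc
  obtain ⟨y, hy, hyc⟩ := (hC.sectSetting_bad (secComm hCC) (one_lt_memAt hCC) hw).two c hc
  obtain ⟨J, hJ⟩ := exists_torus hCC hyc
  have hclass : ∀ g ∈ Q, ∀ h ∈ Q, g ∉ memGroup Z c → h ∉ memGroup Z c →
      ∃ j ∈ J, ∃ a ∈ memGroup Z c, h = j * g * j⁻¹ * a := fun g hg h hh hgE hhE => by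
    obtain ⟨j, hj, ha⟩ := exists_class hCC hw hc hy hmem hcard hle hcen hsq hmsq hJ hg hh hgE hhE
    exact ⟨j, hj, _, ha, (mul_inv_cancel_left _ _).symm⟩
  refine ⟨Q, ⟨hmem, hcard, hle, hcen, hsq, hcomm, hmsq, fun g hg hgc => ?_,
    fun g hg => ((hmem g).1 hg).2.1, fun g hg => commute_memCent ((hmem g).1 hg).1, hfree, htr,
    fun g hg h hh hgh => ?_⟩⟩
  · by_contra hgE
    obtain ⟨x, hx, z, hz, hxz⟩ := hna
    refine hxz (?_ : Commute x z).eq
    by_cases hxE : x ∈ memGroup Z c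
    · exact hcen x hxE z hz
    obtain ⟨j, hj, a, ha, rfl⟩ := hclass g hg x hx hgE hxE
    have h1 : Commute g (j⁻¹ * z * j) := hgc _ (by
      have := torus_norm hCC hw hc hy hmem hJ (inv_mem hj) hz
      rwa [inv_inv] at this)
    have h2 : Commute (j * g * j⁻¹) z := by
      show j * g * j⁻¹ * z = z * (j * g * j⁻¹)
      calc j * g * j⁻¹ * z = j * (g * (j⁻¹ * z * j)) * j⁻¹ := by group
        _ = j * ((j⁻¹ * z * j) * g) * j⁻¹ := by rw [h1.eq]
        _ = z * (j * g * j⁻¹) := by group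
    exact h2.mul_left (hcen a ha z hz)
  · have hEsq := fun {a : G} (ha : a ∈ memGroup Z c) =>
      hC.base.mul_self_memGroup hC.faith hCC.comm ha
    by_cases hgE : g ∈ memGroup Z c
    · exact mul_mem (inv_mem hgE) (hmsq h hh (hgh ▸ hEsq hgE))
    by_cases hhE : h ∈ memGroup Z c
    · exact mul_mem (inv_mem (hmsq g hg (hgh.trans (hEsq hhE)))) hhE
    obtain ⟨j, hj, a, ha, rfl⟩ := hclass g hg h hh hgE hhE
    have hcm : Commute (j * g * j⁻¹) a :=
      (hcen a ha _ (torus_norm hCC hw hc hy hmem hJ hj hg)).symm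
    have h2 : j * (g * g) * j⁻¹ = g * g := by
      conv_rhs => rw [hgh, ← pow_two, hcm.mul_pow, pow_two a, hEsq ha, mul_one, conj_pow, pow_two]
    have hj1 : j = 1 := by
      rcases (mem_memGroup hCC).1 (hsq g hg) with h3 | h3
      · exact absurd (hmsq g hg h3) hgE
      · exact hJ.regular j hj _ h3 h2
    subst hj1
    rw [one_mul, inv_one, mul_one, inv_mul_cancel_left]
    exact ha

/-- The torus is transitive on the non-trivial classes of a kernel. -/
theorem class_trans {w : G} (hw : IsBad Ω w) {c y : Ω} (hc : w • c = c) (hy : w • y = y)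
    {Q J : Subgroup G} (hQ : Kernel Ω Z w c e Q) (hJ : Torus Ω Z c y e J) {g h : G} (hg : g ∈ Q)
    (hh : h ∈ Q) (hgE : g ∉ memGroup Z c) (hhE : h ∉ memGroup Z c) :
    ∃ j ∈ J, (j * g * j⁻¹)⁻¹ * h ∈ memGroup Z c :=
  exists_class hCC hw hc hy hQ.mem_iff hQ.card hQ.le hQ.central hQ.sq hQ.mem_of_sq hJ hg hh hgE hhE

/-- There are more than four elements in the group of the members at a point. -/
theorem three_le_exp : 3 ≤ e := by
  by_contra he
  obtain rfl : e = 2 := by have := hCC.two_le; omega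
  have hC := hCC.crit
  obtain ⟨w, hw⟩ := hCC.exists_bad
  obtain ⟨-, c, y, hcy, hc, hy⟩ := id hw
  obtain ⟨Q, hQ⟩ := exists_kernel hCC hw hc
  obtain ⟨J, hJ⟩ := exists_torus hCC hcy.symm
  obtain ⟨Q', hmem, -, -, -, -, -, -, ⟨x, hx, z, hz, hxz⟩, -, -⟩ := exists_preKernel hCC hw hc
  obtain rfl : Q' = Q := Subgroup.ext fun g => (hmem g).trans (hQ.mem_iff g).symm
  have hxE : x ∉ memGroup Z c := fun h => hxz (hQ.central x h z hz).eq
  have hzE : z ∉ memGroup Z c := fun h => hxz (hQ.central z h x hx).eq.symm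
  obtain ⟨j, hj, ha⟩ := class_trans hCC hw hc hy hQ hJ hx hz hxE hzE
  have hzdef : z = j * x * j⁻¹ * ((j * x * j⁻¹)⁻¹ * z) := (mul_inv_cancel_left _ _).symm
  set a := (j * x * j⁻¹)⁻¹ * z with hadef
  have hjQ := fun {i : G} (hi : i ∈ J) {g : G} (hg : g ∈ Q') =>
    torus_norm hCC hw hc hy hQ.mem_iff hJ hi hg
  have hj1 : j ≠ 1 := fun h => by
    apply hxz
    rw [hzdef, h, one_mul, inv_one, mul_one]
    exact ((Commute.refl x).mul_right (hQ.central a ha x hx).symm).eq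
  have hxzE : x * z ∉ memGroup Z c := fun h => hxz (by
    have h1 : Commute x (x * z) := (hQ.central _ h x hx).symm
    exact mul_left_cancel (a := x) (by rw [h1.eq, mul_assoc]))
  obtain ⟨i, hi, hb⟩ := class_trans hCC hw hc hy hQ hJ hx (mul_mem hx hz) hxE hxzE
  have hxzdef : x * z = i * x * i⁻¹ * ((i * x * i⁻¹)⁻¹ * (x * z)) :=
    (mul_inv_cancel_left _ _).symm
  set b := (i * x * i⁻¹)⁻¹ * (x * z) with hbdef
  have hi1 : i ≠ 1 := fun h => hzE (by
    have h1 : x * z = x * b := by rw [hxzdef, h]; simp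
    rw [mul_left_cancel h1]; exact hb)
  have hij : i ≠ j := fun h => hxE (by
    have h2 : x * z = z * a⁻¹ * b := by rw [hxzdef, h, hzdef]; group
    have h3 : Commute (a⁻¹ * b) z := hQ.central _ (mul_mem (inv_mem ha) hb) z hz
    have h4 : x = a⁻¹ * b := mul_right_cancel (b := z) (by rw [h2, mul_assoc, h3.eq])
    rw [h4]; exact mul_mem (inv_mem ha) hb)
  have hijj : i = j * j := by
    have hJ3 : Nat.card J = 3 := by rw [hJ.card]; rfl
    have : Fact (Nat.Prime 3) := ⟨Nat.prime_three⟩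
    have hj' : (⟨j, hj⟩ : J) ≠ 1 := fun h => hj1 (congrArg Subtype.val h)
    obtain ⟨n, hn⟩ := mem_powers_of_prime_card hJ3 hj' (g' := ⟨i, hi⟩)
    have hn' : j ^ n = i := congrArg Subtype.val hn
    have hj3 : j ^ 3 = 1 := by
      have h1 : (⟨j, hj⟩ : J) ^ Nat.card J = 1 := pow_card_eq_one'
      rw [hJ3] at h1
      exact congrArg Subtype.val h1
    rw [← hn', pow_eq_pow_mod n hj3] at hi1 hij ⊢
    have h3 : n % 3 < 3 := Nat.mod_lt _ (by norm_num)
    interval_cases h : n % 3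
    · exact absurd (pow_zero j) hi1
    · exact absurd (pow_one j) hij
    · exact pow_two j
  have hE := fun {i g : G} (hi : i ∈ J) (hg : g ∈ memGroup Z c) =>
    hC.base.conj_mem_memGroup (hJ.fix i hi).1 hg
  have hx1 : j * x * j⁻¹ = z * a⁻¹ := by rw [hzdef]; group
  have hz1 : j * z * j⁻¹ = x * z * b⁻¹ * (j * a * j⁻¹) := by
    rw [hxzdef, hijj, hzdef]; group
  have hc1 : j * ⁅x, z⁆ * j⁻¹ = ⁅x, z⁆ := by
    have key : ∀ {g h d f : G}, g ∈ Q' → h ∈ Q' → d ∈ memGroup Z c → f ∈ memGroup Z c →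
        ⁅g * d, h * f⁆ = ⁅g, h⁆ := by
      intro g h d f hg hh hd hf
      have e1 : Commute d (h * f) := hQ.central d hd _ (mul_mem hh (hQ.le hf))
      have e2 : Commute f g := hQ.central f hf g hg
      calc ⁅g * d, h * f⁆ = g * (d * (h * f) * d⁻¹) * g⁻¹ * (h * f)⁻¹ := by
            rw [commutatorElement_def]; group
        _ = g * h * (f * g⁻¹) * f⁻¹ * h⁻¹ := by rw [e1.eq]; group
        _ = g * h * (g⁻¹ * f) * f⁻¹ * h⁻¹ := by rw [e2.inv_right.eq]
        _ = ⁅g, h⁆ := by rw [commutatorElement_def]; group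
    calc j * ⁅x, z⁆ * j⁻¹ = ⁅j * x * j⁻¹, j * z * j⁻¹⁆ := by
          simp only [commutatorElement_def]; group
      _ = ⁅z * a⁻¹, x * z * (b⁻¹ * (j * a * j⁻¹))⁆ := by rw [hx1, hz1, mul_assoc (x * z)]
      _ = ⁅z, x * z⁆ := key hz (mul_mem hx hz) (inv_mem ha) (mul_mem (inv_mem hb) (hE hj ha))
      _ = ⁅z, x⁆ := by simp only [commutatorElement_def]; group
      _ = ⁅x, z⁆ := by
        rw [← commutatorElement_inv, inv_eq_of_mul_eq_one_right]
        exact hC.base.mul_self_memGroup hC.faith hCC.comm (hQ.comm x hx z hz)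
  rcases (mem_memGroup hCC).1 (hQ.comm x hx z hz) with h | h
  · exact hxz (commutatorElement_eq_one_iff_mul_comm.1 h)
  · exact hj1 (hJ.regular j hj _ h hc1)

/-- Bad involutions with two common fixed points have the same fixed points. -/
theorem fixedBy_eq {u w : G} (hu : IsBad Ω u) (hw : IsBad Ω w) {c y : Ω} (hcy : c ≠ y)
    (huc : u • c = c) (huy : u • y = y) (hwc : w • c = c) (hwy : w • y = y) :
    fixedBy Ω u = fixedBy Ω w := by
  classical
  have hC := hCC.crit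
  have hS := hC.sectSetting_bad (secComm hCC) (one_lt_memAt hCC) hu
  let D : Ω → Ω → Subgroup G := fun p r => Subgroup.closure (memAt Z p ∪ memAt Z r)
  let O : Ω → Ω → Set Ω := fun p r => {z | ∃ d ∈ D p r, d • p = z}
  have hDle : ∀ {v : G}, IsBad Ω v → ∀ {p r : Ω}, v • p = p → v • r = r → D p r ≤ memCent Z v :=
    fun {v} hv {p r} hp hr => (Subgroup.closure_le _).2 fun a ha => ha.elim
      (fun h => mem_memCent_of_fix hCC hv hp h) fun h => mem_memCent_of_fix hCC hv hr h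
  have hOfix : ∀ {v : G}, IsBad Ω v → ∀ {p r : Ω}, v • p = p → v • r = r →
      O p r ⊆ fixedBy Ω v := by
    rintro v hv p r hp hr _ ⟨d, hd, rfl⟩
    show v • d • p = d • p
    rw [smul_smul, (commute_memCent (hDle hv hp hr hd)).eq, mul_smul, hp]
  have hself : ∀ p r : Ω, p ∈ O p r := fun p r => ⟨1, one_mem _, one_smul G p⟩
  have hsnd : ∀ {p r : Ω}, p ≠ r → r ∈ O p r := by
    intro p r hpr
    obtain ⟨a, ha⟩ := hC.base.exists_memAt p
    obtain ⟨b, hb⟩ := hC.base.exists_memAt r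
    obtain ⟨g, hg, -, hgp⟩ := hC.base.exists_conj_of_ne ha hb hpr
    refine ⟨g, (Subgroup.closure_le _).2 ?_ hg, hgp⟩
    rintro x (rfl | rfl)
    · exact Subgroup.subset_closure (Or.inl ha)
    · exact Subgroup.subset_closure (Or.inr hb)
  have hconjD : ∀ {g : G} {p r : Ω}, ∀ d ∈ D p r, g * d * g⁻¹ ∈ D (g • p) (g • r) := by
    intro g p r d hd
    have hle : (D p r).map (MulAut.conj g).toMonoidHom ≤ D (g • p) (g • r) := by
      simp only [D]
      rw [MonoidHom.map_closure, Subgroup.closure_le]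
      rintro _ ⟨a, ha | ha, rfl⟩
      · exact Subgroup.subset_closure (Or.inl (hC.base.conj_memAt ha))
      · exact Subgroup.subset_closure (Or.inr (hC.base.conj_memAt ha))
    exact hle ⟨d, hd, rfl⟩
  have hequiv : ∀ {g : G} {p r z : Ω}, z ∈ O p r → g • z ∈ O (g • p) (g • r) := by
    rintro g p r _ ⟨d, hd, rfl⟩
    exact ⟨_, hconjD d hd, by rw [mul_smul, mul_smul, inv_smul_smul]⟩
  -- a block is small or everything
  have hblock : ∀ {p r : Ω}, u • p = p → u • r = r → p ≠ r → ¬ fixedBy Ω u ⊆ O p r →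
      (O p r).ncard = 2 ^ e + 1 := by
    intro p r hp hr hpr hnot
    obtain ⟨Q, hQ⟩ := exists_kernel hCC hu hp
    obtain ⟨J, hJ⟩ := exists_torus hCC hpr.symm
    have hsm : ∀ d ∈ D p r, ∀ z ∈ O p r, d • z ∈ O p r := by
      rintro d hd _ ⟨d', hd', rfl⟩
      exact ⟨d * d', mul_mem hd hd', mul_smul d d' p⟩
    have hED : memGroup Z p ≤ D p r :=
      (Subgroup.closure_le _).2 fun a ha => Subgroup.subset_closure (Or.inl ha)
    have hEp : ∀ a ∈ memGroup Z p, a • p = p := fun a ha => hQ.fix a (hQ.le ha)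
    set S : Set Ω := (fun a : memGroup Z p => (a : G) • r) '' Set.univ with hSdef
    have hsub : insert p S ⊆ O p r := by
      rintro z (rfl | ⟨a, -, rfl⟩)
      · exact hself _ _
      · exact hsm _ (hED a.2) _ (hsnd hpr)
    by_cases hall : O p r ⊆ insert p S
    · have hinj : Function.Injective (fun a : memGroup Z p => (a : G) • r) := fun a b hab =>
        Subtype.ext (inv_mul_eq_one.1 (hC.base.eq_one_of_memGroup_fix hC.faith hCC.comm
          (mul_mem (inv_mem b.2) a.2) (x := r)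
          (by rw [mul_smul, show (a : G) • r = (b : G) • r from hab, inv_smul_smul])
          hpr.symm)).symm
      have hpS : p ∉ S := by
        rintro ⟨a, -, ha⟩
        exact hpr (MulAction.injective (a : G) ((hEp a a.2).trans ha.symm))
      rw [hall.antisymm hsub, Set.ncard_insert_of_notMem hpS, hSdef,
        Set.ncard_image_of_injective _ hinj, Set.ncard_univ, CentralThree.card_memGroup hCC p]
    · exfalso
      apply hnot
      obtain ⟨z, hz, hzS⟩ := Set.not_subset.1 hall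
      obtain ⟨x, hx, hxr⟩ := hQ.trans r z hr (hOfix hu hp hr hz) hpr.symm
        fun e => hzS (Or.inl e)
      have hxE : x ∉ memGroup Z p := fun h => hzS (Or.inr ⟨⟨x, h⟩, trivial, hxr⟩)
      intro q hq
      rcases eq_or_ne q p with rfl | hqp
      · exact hself _ _
      obtain ⟨x', hx', rfl⟩ := hQ.trans r q hr hq hpr.symm hqp
      by_cases hx'E : x' ∈ memGroup Z p
      · exact hsm _ (hED hx'E) _ (hsnd hpr)
      obtain ⟨j, hj, ha⟩ := class_trans hCC hu hp hr hQ hJ hx hx' hxE hx'E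
      have hjx : j * x * j⁻¹ ∈ Q := torus_norm hCC hu hp hr hQ.mem_iff hJ hj hx
      obtain ⟨a, ha, hxx⟩ : ∃ a ∈ memGroup Z p, x' = a * (j * x * j⁻¹) :=
        ⟨_, ha, by rw [(hQ.central _ ha _ hjx).eq, mul_inv_cancel_left]⟩
      have hjz : j • z ∈ O p r := by
        have := hequiv (g := j) hz
        rwa [(hJ.fix j hj).1, (hJ.fix j hj).2] at this
      rw [hxx, mul_smul, mul_smul, mul_smul, inv_smul_eq_iff.2 (hJ.fix j hj).2.symm, hxr]
      exact hsm _ (hED ha) _ hjz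
  by_cases hfull : fixedBy Ω u ⊆ O c y
  · exact CentralThree.fixedBy_eq_of_subset hCC hu hw (hfull.trans (hOfix hw hwc hwy))
  exfalso
  have hsmall : ∀ {p r : Ω}, u • p = p → u • r = r → p ≠ r → (O p r).ncard = 2 ^ e + 1 := by
    intro p r hp hr hpr
    refine hblock hp hr hpr fun hF => hfull ?_
    obtain ⟨g₁, hg₁, hg₁c⟩ := hS.trans c huc p hp
    obtain ⟨Q, hQ⟩ := exists_kernel hCC hu hp
    obtain ⟨x, hx, hxy⟩ := hQ.trans (g₁ • y) r (hS.stable g₁ hg₁ y huy) hr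
      (fun e => hcy (MulAction.injective g₁ (hg₁c.trans e.symm))) hpr.symm
    have hgL : x * g₁ ∈ memCent Z u := mul_mem ((hQ.mem_iff x).1 hx).1 hg₁
    have hgc : (x * g₁) • c = p := by rw [mul_smul, hg₁c, hQ.fix x hx]
    have hgy : (x * g₁) • y = r := by rw [mul_smul, hxy]
    intro z hz
    have h1 := hequiv (g := (x * g₁)⁻¹) (hF (hS.stable _ hgL z hz))
    rwa [inv_smul_smul, inv_smul_eq_iff.2 hgc.symm, inv_smul_eq_iff.2 hgy.symm] at h1
  set Ff : Finset Ω := (Set.toFinite (fixedBy Ω u)).toFinset with hFf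
  have hFmem : ∀ {z : Ω}, z ∈ Ff ↔ u • z = z := fun {z} => by
    rw [hFf, Set.Finite.mem_toFinset]; rfl
  let φ : Ω × Ω → Finset Ω := fun pr => (Set.toFinite (O pr.1 pr.2)).toFinset
  have hfibre : ∀ B ∈ Ff.offDiag.image φ,
      (Ff.offDiag.filter fun pr => φ pr = B).card = (2 ^ e + 1) * 2 ^ e := by
    intro B hB
    obtain ⟨⟨p, r⟩, hpr, rfl⟩ := Finset.mem_image.1 hB
    obtain ⟨hp, hr, hne⟩ := Finset.mem_offDiag.1 hpr
    have h0 : (φ (p, r)).card = 2 ^ e + 1 := by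
      rw [← Set.ncard_eq_toFinset_card _]
      exact hsmall (hFmem.1 hp) (hFmem.1 hr) hne
    have hset : (Ff.offDiag.filter fun pr => φ pr = φ (p, r)) = (φ (p, r)).offDiag := by
      ext ⟨p', r'⟩
      simp only [Finset.mem_filter, Finset.mem_offDiag, φ, Set.Finite.toFinset_inj,
        Set.Finite.mem_toFinset]
      constructor
      · rintro ⟨⟨-, -, hne'⟩, heq⟩
        exact ⟨heq ▸ hself p' r', heq ▸ hsnd hne', hne'⟩
      · rintro ⟨hp', hr', hne'⟩
        have hpF := hOfix hu (hFmem.1 hp) (hFmem.1 hr) hp'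
        have hrF := hOfix hu (hFmem.1 hp) (hFmem.1 hr) hr'
        refine ⟨⟨hFmem.2 hpF, hFmem.2 hrF, hne'⟩, Set.eq_of_subset_of_ncard_le ?_
          (by rw [hsmall hpF hrF hne', hsmall (hFmem.1 hp) (hFmem.1 hr) hne]) (Set.toFinite _)⟩
        obtain ⟨dp, hdp, rfl⟩ := hp'
        obtain ⟨dr, hdr, rfl⟩ := hr'
        have hconjin : ∀ {d : G}, d ∈ D p r → ∀ a ∈ memAt Z (d • p), a ∈ D p r := by
          intro d hd a ha
          have h1 := hC.base.conj_memAt (g := d⁻¹) ha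
          rw [inv_smul_smul] at h1
          have h2 : d * (d⁻¹ * a * d⁻¹⁻¹) * d⁻¹ ∈ D p r :=
            mul_mem (mul_mem hd (Subgroup.subset_closure (Or.inl h1))) (inv_mem hd)
          rwa [show d * (d⁻¹ * a * d⁻¹⁻¹) * d⁻¹ = a by group] at h2
        have hle : D (dp • p) (dr • p) ≤ D p r :=
          (Subgroup.closure_le _).2 fun a ha => ha.elim (hconjin hdp a) (hconjin hdr a)
        rintro _ ⟨d, hd, rfl⟩
        exact ⟨d * dp, mul_mem (hle hd) hdp, mul_smul d dp p⟩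
    rw [hset, Finset.offDiag_card, h0,
      show (2 ^ e + 1) * (2 ^ e + 1) = (2 ^ e + 1) * 2 ^ e + (2 ^ e + 1) by ring,
      Nat.add_sub_cancel]
  have hFc : Ff.card = 2 ^ (e * 2) + 1 := by
    rw [← Set.ncard_eq_toFinset_card _]
    exact hCC.card_fix u hu
  have htot := Finset.card_eq_sum_card_image φ Ff.offDiag
  rw [Finset.sum_congr rfl hfibre, Finset.sum_const, smul_eq_mul, Finset.offDiag_card, hFc] at htot
  set k := (Ff.offDiag.image φ).card
  rw [pow_mul] at htot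
  set q := 2 ^ e with hq
  have hq4 : 4 ≤ q := four_le hCC
  have h1 : (q ^ 2 + 1) * q ^ 2 = k * ((q + 1) * q) := by
    rw [← htot]
    zify [Nat.le_mul_self (q ^ 2 + 1)]
    ring
  have hd : q + 1 ∣ (q ^ 2 + 1) * q ^ 2 := ⟨k * q, by rw [h1]; ring⟩
  have h2 : q + 1 ∣ q ^ 2 + 1 := (Nat.Coprime.pow_right 2
    (Nat.coprime_self_add_left.2 (Nat.coprime_one_left q))).dvd_of_dvd_mul_right hd
  have h3 : q + 1 ∣ q ^ 2 + 1 + q * 2 := ⟨q + 1, by ring⟩
  have h4 : q + 1 ∣ q * 2 := (Nat.dvd_add_right h2).1 h3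
  have h5 : q + 1 ∣ 2 :=
    (Nat.coprime_self_add_left.2 (Nat.coprime_one_left q)).dvd_of_dvd_mul_left h4
  have := Nat.le_of_dvd two_pos h5
  omega

/-- The line stabiliser fixes the line pointwise. -/
theorem stab_fix {w : G} (hw : IsBad Ω w) {c y : Ω} (hyc : y ≠ c) (hwc : w • c = c)
    (hwy : w • y = y) {p : G} (hp : p ∈ lineStab Z c y) {z : Ω} (hwz : w • z = z) :
    p • z = z := by
  have hC := hCC.crit
  obtain ⟨hpc, hpy, hpa⟩ := mem_lineStab.1 hp
  obtain ⟨Q, hQ⟩ := exists_kernel hCC hw hwc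
  obtain ⟨J, hJ⟩ := exists_torus hCC hyc
  have hFeq : fixedBy Ω (p * w * p⁻¹) = fixedBy Ω w :=
    fixedBy_eq hCC (isBad_conj hw p) hw hyc.symm
      (by rw [mul_smul, mul_smul, inv_smul_eq_iff.2 hpc.symm, hwc, hpc])
      (by rw [mul_smul, mul_smul, inv_smul_eq_iff.2 hpy.symm, hwy, hpy]) hwc hwy
  have hpL : ∀ g ∈ memCent Z w, p * g * p⁻¹ ∈ memCent Z w := by
    intro g hg
    have hle : (memCent Z w).map (MulAut.conj p).toMonoidHom ≤ memCent Z w := by
      rw [memCent, MonoidHom.map_closure, Subgroup.closure_le]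
      rintro _ ⟨t, ⟨htZ, hwt⟩, rfl⟩
      obtain ⟨d, hd⟩ := hC.base.exists_fix t htZ
      have hwd : w • d = d := hC.base.fix_of_commute ⟨htZ, hd⟩ hwt
      have hpd : p • d ∈ fixedBy Ω (p * w * p⁻¹) := by
        show (p * w * p⁻¹) • p • d = p • d
        rw [mul_smul, mul_smul, inv_smul_smul, hwd]
      rw [hFeq] at hpd
      exact mem_memCent_of_fix hCC hw hpd (hC.base.conj_memAt ⟨htZ, hd⟩)
    exact hle ⟨g, hg, rfl⟩
  have hpQ : ∀ x ∈ Q, p * x * p⁻¹ ∈ Q := by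
    intro x hx
    obtain ⟨hxL, hxc, k, hk⟩ := (hQ.mem_iff x).1 hx
    refine (hQ.mem_iff _).2 ⟨hpL x hxL, ?_, k, by rw [conj_pow, hk, mul_one, mul_inv_cancel]⟩
    rw [mul_smul, mul_smul, inv_smul_eq_iff.2 hpc.symm, hxc, hpc]
  have hpE : ∀ a ∈ memGroup Z c, Commute a p := by
    intro a ha
    rcases (mem_memGroup hCC).1 ha with rfl | ha
    · exact Commute.one_left p
    · exact hpa a ha
  have hE2 := fun {a : G} (ha : a ∈ memGroup Z c) =>
    hC.base.mul_self_memGroup hC.faith hCC.comm ha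
  have hδ : ∀ x ∈ Q, x⁻¹ * (p * x * p⁻¹) ∈ memGroup Z c := fun x hx =>
    hQ.sq_inj x hx _ (hpQ x hx) (by
      rw [← pow_two, ← pow_two, conj_pow, pow_two, ← (hpE _ (hQ.sq x hx)).eq,
        mul_inv_cancel_right])
  have hcomm : ∀ x ∈ Q, Commute p x := by
    by_contra hne
    push Not at hne
    obtain ⟨x₀, hx₀, hpx⟩ := hne
    have hx₀E : x₀ ∉ memGroup Z c := fun h => hpx (hpE x₀ h).symm
    set d₀ := x₀⁻¹ * (p * x₀ * p⁻¹) with hd₀
    have hd₀E : d₀ ∈ memGroup Z c := hδ x₀ hx₀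
    have hd₀m : d₀ ∈ memAt Z c := by
      rcases (mem_memGroup hCC).1 hd₀E with h | h
      · exact absurd (mul_inv_eq_iff_eq_mul.1 (inv_mul_eq_one.1 h).symm) hpx
      · exact h
    have hs₀ : x₀ * x₀ ∈ memAt Z c := by
      rcases (mem_memGroup hCC).1 (hQ.sq x₀ hx₀) with h | h
      · exact absurd (hQ.mem_of_sq x₀ hx₀ h) hx₀E
      · exact h
    obtain ⟨i, hi, hid⟩ := hJ.trans d₀ hd₀m _ hs₀
    have hJab : ∀ j ∈ J, Commute i j := fun j hj => by
      have := hJ.cyclic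
      exact congrArg Subtype.val (mul_comm' (⟨i, hi⟩ : J) ⟨j, hj⟩)
    -- squaring is the conjugate of `x ↦ ⁅x⁻¹, p⁆` by `i`
    have hprop : ∀ x ∈ Q, x * x = i * (x⁻¹ * (p * x * p⁻¹)) * i⁻¹ := by
      intro x hx
      by_cases hxE : x ∈ memGroup Z c
      · rw [← (hpE x hxE).eq, mul_inv_cancel_right, inv_mul_cancel, mul_one, mul_inv_cancel,
          hE2 hxE]
      obtain ⟨j, hj, ha⟩ := class_trans hCC hw hwc hwy hQ hJ hx₀ hx hx₀E hxE
      have hjQ : j * x₀ * j⁻¹ ∈ Q := torus_norm hCC hw hwc hwy hQ.mem_iff hJ hj hx₀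
      set a := (j * x₀ * j⁻¹)⁻¹ * x with hadef
      have hxdef : x = j * x₀ * j⁻¹ * a := (mul_inv_cancel_left _ _).symm
      have hca : Commute (j * x₀ * j⁻¹) a := (hQ.central a ha _ hjQ).symm
      have hjp : Commute j p := hJ.centralised j hj p hp
      have h1 : x * x = j * (x₀ * x₀) * j⁻¹ := by
        rw [hxdef, ← pow_two, hca.mul_pow, pow_two a, hE2 ha, mul_one, conj_pow, pow_two]
      have h2 : x⁻¹ * (p * x * p⁻¹) = j * d₀ * j⁻¹ := by
        have hca' : Commute a (j * d₀ * j⁻¹) :=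
          hQ.central a ha _ (hQ.le (hC.base.conj_mem_memGroup (hJ.fix j hj).1 hd₀E))
        calc x⁻¹ * (p * x * p⁻¹)
            = a⁻¹ * j * x₀⁻¹ * (j⁻¹ * p * j) * x₀ * (j⁻¹ * (a * p⁻¹)) := by rw [hxdef]; group
          _ = a⁻¹ * j * x₀⁻¹ * p * x₀ * (j⁻¹ * (p⁻¹ * a)) := by
            rw [mul_assoc j⁻¹, ← hjp.eq, inv_mul_cancel_left, ((hpE a ha).inv_right).eq]
          _ = a⁻¹ * j * x₀⁻¹ * p * x₀ * (j⁻¹ * p⁻¹) * a := by group
          _ = a⁻¹ * j * x₀⁻¹ * p * x₀ * (p⁻¹ * j⁻¹) * a := by rw [hjp.inv_inv.eq]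
          _ = a⁻¹ * ((j * d₀ * j⁻¹) * a) := by rw [hd₀]; group
          _ = j * d₀ * j⁻¹ := by rw [← hca'.eq, inv_mul_cancel_left]
      rw [h1, h2, ← hid]
      calc j * (i * d₀ * i⁻¹) * j⁻¹ = (j * i) * d₀ * (j * i)⁻¹ := by group
        _ = (i * j) * d₀ * (i * j)⁻¹ := by rw [(hJab j hj).eq]
        _ = i * (j * d₀ * j⁻¹) * i⁻¹ := by group
    have hab : ∀ x ∈ Q, ∀ x' ∈ Q, x * x' = x' * x := by
      intro x hx x' hx'
      have hcd : Commute (x⁻¹ * (p * x * p⁻¹)) x' := hQ.central _ (hδ x hx) x' hx'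
      have hmulδ : (x * x')⁻¹ * (p * (x * x') * p⁻¹) =
          (x⁻¹ * (p * x * p⁻¹)) * (x'⁻¹ * (p * x' * p⁻¹)) := by
        calc (x * x')⁻¹ * (p * (x * x') * p⁻¹)
            = x'⁻¹ * (x⁻¹ * (p * x * p⁻¹)) * (p * x' * p⁻¹) := by group
          _ = _ := by rw [← hcd.inv_right.eq, mul_assoc]
      have h1 : x * x' * (x * x') = x * x * (x' * x') := by
        rw [hprop _ (mul_mem hx hx'), hmulδ, hprop x hx, hprop x' hx']
        group
      have h3 : x * (x' * x) * x' = x * (x * x') * x' := by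
        simpa only [mul_assoc] using h1
      exact (mul_left_cancel (mul_right_cancel h3)).symm
    exact hx₀E (hQ.centre x₀ hx₀ fun h hh => hab x₀ hx₀ h hh)
  rcases eq_or_ne z c with rfl | hzc
  · exact hpc
  obtain ⟨x, hx, rfl⟩ := hQ.trans y z hwy hwz hyc hzc
  rw [smul_smul, (hcomm x hx).eq, mul_smul, hpy]

/-- The line stabiliser centralises the group generated by the members of the line. -/
theorem stab_commute {w : G} (hw : IsBad Ω w) {c y : Ω} (hyc : y ≠ c) (hwc : w • c = c)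
    (hwy : w • y = y) {p : G} (hp : p ∈ lineStab Z c y) {g : G} (hg : g ∈ memCent Z w) :
    Commute p g := by
  have hC := hCC.crit
  have hfix : ∀ z : Ω, w • z = z → p • z = z := fun z hz => stab_fix hCC hw hyc hwc hwy hp hz
  have hle : memCent Z w ≤ Subgroup.centralizer {p} := by
    rw [memCent, Subgroup.closure_le]
    rintro t ⟨ht, hwt⟩
    obtain ⟨d, hd⟩ := hC.base.exists_fix t ht
    have hwd : w • d = d := hC.base.fix_of_commute ⟨ht, hd⟩ hwt
    have hmem : p * t * p⁻¹ ∈ memAt Z d := by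
      have h1 := hC.base.conj_memAt (g := p) (⟨ht, hd⟩ : t ∈ memAt Z d)
      rwa [hfix d hwd] at h1
    have h1 := hC.eq_of_same (secComm hCC) (one_lt_memAt hCC) hw hwd (b := t)
      ⟨hmem, hCC.central w hw d hwd _ hmem⟩ ⟨⟨ht, hd⟩, hwt⟩ fun z hz => by
        have htz : w • t • z = t • z := by rw [smul_smul, hwt.eq, mul_smul, hz]
        rw [mul_smul, mul_smul, inv_smul_eq_iff.2 (hfix z hz).symm, hfix _ htz]
    exact Subgroup.mem_centralizer_singleton_iff.2 (mul_inv_eq_iff_eq_mul.1 h1).symm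
  exact (Subgroup.mem_centralizer_singleton_iff.1 (hle hg)).symm

/-- The line stabiliser is semiregular outside the line. -/
theorem semiregular {w : G} (hw : IsBad Ω w) {c y : Ω} (hyc : y ≠ c) (hwc : w • c = c)
    (hwy : w • y = y) {p : G} (hp : p ∈ lineStab Z c y) {z : Ω} (hwz : w • z ≠ z)
    (hpz : p • z = z) : p = 1 := by
  have hC := hCC.crit
  have hsc := secComm hCC
  have hbig := one_lt_memAt hCC
  have hS := hC.sectSetting_bad hsc hbig hw
  -- every moved point lies on the line of `w * t` for a member `t` commuting with `w`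
  have hex : ∀ z' : Ω, w • z' ≠ z' → ∃ t d, t ∈ memAt Z d ∧ w • d = d ∧ Commute w t ∧
      IsBad Ω (w * t) ∧ (w * t) • d = d ∧ (w * t) • z' = z' ∧ z' ≠ d := by
    intro z' hz'
    have hww : w • w • z' = z' := by rw [smul_smul, mul_self_eq_one hw.1, one_smul]
    obtain ⟨t, ht, htc⟩ := hC.base.exists_swap_centralized (isPGroup_zpowers hw.1) (x := z')
      (y := w • z') (Ne.symm hz') (by
        intro g hg
        rw [Subgroup.zpowers_eq_closure] at hg
        refine pair_of_le_closure ?_ hg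
        rintro g rfl
        exact Or.inr ⟨rfl, hww⟩)
    have hwt : Commute w t := htc w (Subgroup.mem_zpowers w)
    obtain ⟨d, hd⟩ := hC.base.exists_fix t ht.1
    have hwd : w • d = d := hC.base.fix_of_commute ⟨ht.1, hd⟩ hwt
    exact ⟨t, d, ⟨ht.1, hd⟩, hwd, hwt, hC.base.isBad_mul hC.faith hw ht.1 hwt,
      by rw [mul_smul, hd, hwd], by rw [mul_smul, ht.2, hww], fun e => hz' (by rw [e]; exact hwd)⟩
  have hfixF : ∀ {x : Ω}, w • x = x → p • x = x := fun hx => stab_fix hCC hw hyc hwc hwy hp hx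
  have hline : ∀ {v : G}, IsBad Ω v → ∀ {d x : Ω}, w • d = d → v • d = d → x ≠ d → v • x = x →
      p • x = x → ∀ x' : Ω, v • x' = x' → p • x' = x' := fun {v} hv {d x} hwd hvd hxd hvx hpx x' hx' =>
    stab_fix hCC hv hxd hvd hvx (mem_lineStab.2 ⟨hfixF hwd, hpx, fun a ha =>
      (stab_commute hCC hw hyc hwc hwy hp (mem_memCent_of_fix hCC hw hwd ha)).symm⟩) hx'
  obtain ⟨t, d, ht, hwd, hwt, hbad, hvd, hvz, hzd⟩ := hex z hwz
  refine hC.faith p fun z' => ?_
  by_cases hz' : w • z' = z'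
  · exact hfixF hz'
  obtain ⟨t', d', ht', hwd', hwt', hbad', hvd', hvz', hzd'⟩ := hex z' hz'
  obtain ⟨g₁, hg₁, hg₁d⟩ := hS.trans d hwd d' hwd'
  have hmem : g₁ * t * g₁⁻¹ ∈ memAt Z d' := hg₁d ▸ hC.base.conj_memAt ht
  obtain ⟨y', hy', hy'd⟩ := hS.two d' hwd'
  obtain ⟨j, hjL, hjd, -, -, hjt⟩ := hC.exists_torus_conj hsc hbig hw hwd' hy' hy'd
    (a := g₁ * t * g₁⁻¹) (b := t') ⟨hmem, hCC.central w hw d' hwd' _ hmem⟩ ⟨ht', hwt'⟩
  set g := j * g₁ with hg
  have hgL : g ∈ memCent Z w := mul_mem hjL hg₁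
  have hgd : g • d = d' := by rw [hg, mul_smul, hg₁d, hjd]
  have hgv : g * (w * t) * g⁻¹ = w * t' := by
    rw [← hjt, ← mul_assoc g, ← (commute_memCent hgL).eq, hg]
    group
  have hgz : (w * t') • g • z = g • z := by
    rw [← hgv, mul_smul, mul_smul, inv_smul_smul, hvz]
  have hpgz : p • g • z = g • z := by
    rw [smul_smul, (stab_commute hCC hw hyc hwc hwy hp hgL).eq, mul_smul, hpz]
  exact hline hbad' hwd' hvd' (fun e => hzd (MulAction.injective g (e.trans hgd.symm))) hgz hpgz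
    z' hvz'

/-- The facts about lines. -/
theorem base_of_case : Base Ω Z e where
  case := hCC
  three_le := three_le_exp hCC
  twoTrans := hCC.crit.twoTrans hCC.pure hCC.exists_bad
  exists_bad := fun _ _ hcy => exists_bad_at hCC hcy.symm
  kernel := fun _ hw _ hc => exists_kernel hCC hw hc
  torus := fun _ _ hyc => exists_torus hCC hyc
  fix_eq := fun _ _ hu hw _ _ hcy huc huy hwc hwy => fixedBy_eq hCC hu hw hcy huc huy hwc hwy
  class_trans := fun _ hw _ _ hc hy _ _ _ hQ hJ _ hg _ hh hgE hhE =>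
    class_trans hCC hw hc hy hQ hJ hg hh hgE hhE
  stab_fix := fun _ hw _ _ hyc hwc hwy _ hp _ hz => stab_fix hCC hw hyc hwc hwy hp hz
  stab_commute := fun _ hw _ _ hyc hwc hwy _ hp _ hg => stab_commute hCC hw hyc hwc hwy hp hg
  semiregular := fun _ hw _ _ hyc hwc hwy _ hp _ hz hpz =>
    semiregular hCC hw hyc hwc hwy hp hz hpz
  decomp := fun w hw c y hyc hwc hwy Q hQ g hgc hgE hgy => by
    obtain ⟨x, hx, hxy⟩ := hQ.trans y (g • y) hwy hgy hyc
      fun e => hyc (MulAction.injective g (e.trans hgc.symm))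
    refine ⟨x, hx, x⁻¹ * g, mem_lineStab.2 ⟨?_, ?_, fun a ha => ?_⟩,
      (mul_inv_cancel_left x g).symm⟩
    · rw [mul_smul, hgc, inv_smul_eq_iff.2 (hQ.fix x hx).symm]
    · rw [mul_smul, ← hxy, inv_smul_smul]
    · exact ((hQ.central a (Subgroup.subset_closure ha) x hx).inv_right).mul_right (hgE a ha)

end CfsgLib.StrongCrit.CentralTwo
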