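import Cfsg.Agent.Lib.StrongCrit.Endgame
import Cfsg.Agent.Lib.StrongCrit.FourD

/-!
Interface for the Suzuki case of the central case of Aschbacher's criterion (fixed sets of
`q ^ 2 + 1` points): the kernel of a section, the torus of a pair of points, the stabiliser of a
line, and the translation group of a bad involution.
-/

set_option autoImplicit false

namespace CfsgLib.StrongCrit.CentralTwo

open CfsgLib.Involutions CfsgLib.BenderTrans MulAction
open scoped commutatorElement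

set_option linter.unusedSectionVars false
set_option linter.unusedVariables false

universe u

variable {G : Type u} [Group G] {Ω : Type u} [MulAction G Ω]

/-- The elements fixing `c` and `y` that centralise the members at `c`. -/
def lineStab (Z : Set G) (c y : Ω) : Subgroup G := two G c y ⊓ Subgroup.centralizer (memAt Z c)

theorem mem_lineStab {Z : Set G} {c y : Ω} {g : G} :
    g ∈ lineStab Z c y ↔ g • c = c ∧ g • y = y ∧ ∀ a ∈ memAt Z c, Commute a g := by
  simp only [lineStab, Subgroup.mem_inf, mem_two_iff, Subgroup.mem_centralizer_iff, and_assoc]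
  exact Iff.rfl

/-- The elements of the stabiliser of `c` centralising the members there and commuting with `u` up
to them. -/
def shiftGroup (Z : Set G) (c : Ω) (u : G) : Subgroup G where
  carrier := {g | g • c = c ∧ (∀ a ∈ memGroup Z c, Commute a g) ∧ ⁅g, u⁆ ∈ memGroup Z c}
  one_mem' := ⟨one_smul G c, fun a _ => Commute.one_right a,
    by rw [commutatorElement_one_left]; exact one_mem _⟩
  mul_mem' := by
    rintro g h ⟨hgc, hg, hgu⟩ ⟨hhc, hh, hhu⟩
    refine ⟨by rw [mul_smul, hhc, hgc], fun a ha => (hg a ha).mul_right (hh a ha), ?_⟩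
    have h1 : ⁅g * h, u⁆ = ⁅h, u⁆ * ⁅g, u⁆ := by
      have h2 : ⁅g * h, u⁆ = g * ⁅h, u⁆ * g⁻¹ * ⁅g, u⁆ := by
        simp only [commutatorElement_def]; group
      rw [h2, ← (hg _ hhu).eq, mul_inv_cancel_right]
    rw [h1]
    exact mul_mem hhu hgu
  inv_mem' := by
    rintro g ⟨hgc, hg, hgu⟩
    refine ⟨inv_smul_eq_iff.2 hgc.symm, fun a ha => (hg a ha).inv_right, ?_⟩
    have h1 : ⁅g⁻¹, u⁆ = g⁻¹ * ⁅g, u⁆⁻¹ * g := by
      simp only [commutatorElement_def]; group
    rw [h1, mul_assoc, ((hg _ hgu).inv_left).eq, inv_mul_cancel_left]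
    exact inv_mem hgu

theorem mem_shiftGroup {Z : Set G} {c : Ω} {u g : G} :
    g ∈ shiftGroup Z c u ↔
      g • c = c ∧ (∀ a ∈ memGroup Z c, Commute a g) ∧ ⁅g, u⁆ ∈ memGroup Z c := Iff.rfl

/-- In the translation group commutation with `u` is multiplicative. -/
theorem commutator_shift_mul {Z : Set G} {c : Ω} {u g h : G} (hg : g ∈ shiftGroup Z c u)
    (hh : h ∈ shiftGroup Z c u) : ⁅g * h, u⁆ = ⁅h, u⁆ * ⁅g, u⁆ := by
  have h2 : ⁅g * h, u⁆ = g * ⁅h, u⁆ * g⁻¹ * ⁅g, u⁆ := by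
    simp only [commutatorElement_def]; group
  rw [h2, ← (hg.2.1 _ hh.2.2).eq, mul_inv_cancel_right]

/-- The 2-part `Q` of the section of the bad involution `u` at its fixed point `c`. -/
structure Kernel (Ω : Type u) [MulAction G Ω] (Z : Set G) (u : G) (c : Ω) (e : ℕ) (Q : Subgroup G) :
    Prop where
  mem_iff : ∀ g : G, g ∈ Q ↔ g ∈ memCent Z u ∧ g • c = c ∧ ∃ j : ℕ, g ^ 2 ^ j = 1
  card : Nat.card Q = 2 ^ (e * 2)
  le : memGroup Z c ≤ Q
  central : ∀ a ∈ memGroup Z c, ∀ g ∈ Q, Commute a g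
  sq : ∀ g ∈ Q, g * g ∈ memGroup Z c
  comm : ∀ g ∈ Q, ∀ h ∈ Q, ⁅g, h⁆ ∈ memGroup Z c
  mem_of_sq : ∀ g ∈ Q, g * g = 1 → g ∈ memGroup Z c
  centre : ∀ g ∈ Q, (∀ h ∈ Q, Commute g h) → g ∈ memGroup Z c
  fix : ∀ g ∈ Q, g • c = c
  commute : ∀ g ∈ Q, Commute u g
  free : ∀ g ∈ Q, ∀ z : Ω, z ≠ c → g • z = z → g = 1
  trans : ∀ y z : Ω, u • y = y → u • z = z → y ≠ c → z ≠ c → ∃ g ∈ Q, g • y = z
  sq_inj : ∀ g ∈ Q, ∀ h ∈ Q, g * g = h * h → g⁻¹ * h ∈ memGroup Z c

/-- The torus `J` of two points. -/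
structure Torus (Ω : Type u) [MulAction G Ω] (Z : Set G) (c y : Ω) (e : ℕ) (J : Subgroup G) :
    Prop where
  card : Nat.card J = 2 ^ e - 1
  cyclic : IsCyclic J
  fix : ∀ j ∈ J, j • c = c ∧ j • y = y
  trans : ∀ a ∈ memAt Z c, ∀ a' ∈ memAt Z c, ∃ j ∈ J, j * a * j⁻¹ = a'
  regular : ∀ j ∈ J, ∀ a ∈ memAt Z c, j * a * j⁻¹ = a → j = 1
  centralised : ∀ j ∈ J, ∀ p ∈ lineStab Z c y, Commute j p
  le_memCent : ∀ w : G, IsBad Ω w → w • c = c → w • y = y → J ≤ memCent Z w
  norm : ∀ g ∈ two G c y, ∀ j ∈ J, g * j * g⁻¹ ∈ J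

/-- The facts about lines used in the Suzuki case: a line through two points is the fixed set of the
bad involutions fixing them, and `lineStab` fixes it pointwise. -/
structure Base (Ω : Type u) [MulAction G Ω] (Z : Set G) (e : ℕ) : Prop where
  case : CentralCase Ω Z 2 e
  three_le : 3 ≤ e
  twoTrans : TwoTrans G Ω
  exists_bad : ∀ c y : Ω, c ≠ y → ∃ w : G, IsBad Ω w ∧ w • c = c ∧ w • y = y
  kernel : ∀ w : G, IsBad Ω w → ∀ c : Ω, w • c = c → ∃ Q : Subgroup G, Kernel Ω Z w c e Q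
  torus : ∀ c y : Ω, y ≠ c → ∃ J : Subgroup G, Torus Ω Z c y e J
  fix_eq : ∀ u w : G, IsBad Ω u → IsBad Ω w → ∀ c y : Ω, c ≠ y → u • c = c → u • y = y →
    w • c = c → w • y = y → fixedBy Ω u = fixedBy Ω w
  class_trans : ∀ w : G, IsBad Ω w → ∀ c y : Ω, w • c = c → w • y = y → y ≠ c →
    ∀ Q J : Subgroup G, Kernel Ω Z w c e Q → Torus Ω Z c y e J →
    ∀ g ∈ Q, ∀ h ∈ Q, g ∉ memGroup Z c → h ∉ memGroup Z c →
      ∃ j ∈ J, (j * g * j⁻¹)⁻¹ * h ∈ memGroup Z c
  stab_fix : ∀ w : G, IsBad Ω w → ∀ c y : Ω, y ≠ c → w • c = c → w • y = y →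
    ∀ p ∈ lineStab Z c y, ∀ z : Ω, w • z = z → p • z = z
  stab_commute : ∀ w : G, IsBad Ω w → ∀ c y : Ω, y ≠ c → w • c = c → w • y = y →
    ∀ p ∈ lineStab Z c y, ∀ g ∈ memCent Z w, Commute p g
  semiregular : ∀ w : G, IsBad Ω w → ∀ c y : Ω, y ≠ c → w • c = c → w • y = y →
    ∀ p ∈ lineStab Z c y, ∀ z : Ω, w • z ≠ z → p • z = z → p = 1
  decomp : ∀ w : G, IsBad Ω w → ∀ c y : Ω, y ≠ c → w • c = c → w • y = y →
    ∀ Q : Subgroup G, Kernel Ω Z w c e Q → ∀ g : G, g • c = c → (∀ a ∈ memAt Z c, Commute a g) →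
      w • g • y = g • y → ∃ x ∈ Q, ∃ p ∈ lineStab Z c y, g = x * p

namespace Base

variable {Z : Set G} {e : ℕ} [Finite G] [Finite Ω] (hB : Base Ω Z e)
include hB

theorem faith : ∀ g : G, (∀ x : Ω, g • x = x) → g = 1 := hB.case.crit.faith

theorem setting : Setting Ω Z := hB.case.crit.base

/-- A bad involution commutes with the members at its fixed points. -/
theorem commute_bad {w : G} (hw : IsBad Ω w) {c : Ω} (hc : w • c = c) {a : G}
    (ha : a ∈ memGroup Z c) : Commute w a := by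
  rcases (hB.setting.mem_memGroup_iff hB.faith hB.case.comm).1 ha with rfl | ha
  · exact Commute.one_right w
  · exact hB.case.central w hw c hc a ha

/-- A bad involution fixing two points lies in their line stabiliser. -/
theorem mem_lineStab_of_bad {w : G} (hw : IsBad Ω w) {c y : Ω} (hc : w • c = c) (hy : w • y = y) :
    w ∈ lineStab Z c y :=
  mem_lineStab.2 ⟨hc, hy, fun a ha =>
    (hB.commute_bad hw hc (Subgroup.subset_closure ha)).symm⟩

/-- The group of the members at a point has `2 ^ e` elements. -/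
theorem card_memGroup (c : Ω) : Nat.card (memGroup Z c) = 2 ^ e := by
  rw [hB.setting.card_memGroup hB.faith hB.case.comm, hB.case.card_mem]

/-- The fixed set of a bad involution has `q ^ 2 + 1` points. -/
theorem card_fix {w : G} (hw : IsBad Ω w) : (fixedBy Ω w).ncard = 2 ^ (e * 2) + 1 :=
  hB.case.card_fix w hw

/-- A bad involution fixing `c` is no element of the group of the members there. -/
theorem not_mem_memGroup {w : G} (hw : IsBad Ω w) {c : Ω} : w ∉ memGroup Z c := by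
  intro hm
  obtain ⟨hw2, p, q, hpq, hp, hq⟩ := hw
  rcases (hB.setting.mem_memGroup_iff hB.faith hB.case.comm).1 hm with rfl | hm
  · exact ne_one_of_involution hw2 rfl
  · exact hpq (hB.setting.unique w hm.1 p q hp hq)

/-- An element of the line stabiliser in the kernel is trivial. -/
theorem eq_one_of_kernel_stab {w : G} {c y : Ω} (hyc : y ≠ c) {Q : Subgroup G}
    (hQ : Kernel Ω Z w c e Q) {g : G} (hgQ : g ∈ Q) (hg : g ∈ lineStab Z c y) : g = 1 :=
  hQ.free g hgQ y hyc (mem_lineStab.1 hg).2.1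

/-- The decomposition into kernel and line stabiliser is unique. -/
theorem decomp_unique {w : G} {c y : Ω} (hyc : y ≠ c) {Q : Subgroup G}
    (hQ : Kernel Ω Z w c e Q) {x x' p p' : G} (hx : x ∈ Q) (hx' : x' ∈ Q)
    (hp : p ∈ lineStab Z c y) (hp' : p' ∈ lineStab Z c y) (h : x * p = x' * p') :
    x = x' ∧ p = p' := by
  have h1 : x'⁻¹ * x = p' * p⁻¹ := by
    rw [eq_mul_inv_iff_mul_eq, mul_assoc, h, inv_mul_cancel_left]
  have h2 := hB.eq_one_of_kernel_stab hyc hQ (mul_mem (inv_mem hx') hx)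
    (h1 ▸ mul_mem hp' (inv_mem hp))
  have h3 : x = x' := (inv_mul_eq_one.1 h2).symm
  subst h3
  exact ⟨rfl, mul_left_cancel h⟩

/-- Line stabiliser and kernel commute. -/
theorem commute_stab_kernel {w : G} (hw : IsBad Ω w) {c y : Ω} (hyc : y ≠ c) (hc : w • c = c)
    (hy : w • y = y) {Q : Subgroup G} (hQ : Kernel Ω Z w c e Q) {p x : G}
    (hp : p ∈ lineStab Z c y) (hx : x ∈ Q) : Commute p x :=
  hB.stab_commute w hw c y hyc hc hy p hp x ((hQ.mem_iff x).1 hx).1

/-- A torus element normalises the kernel. -/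
theorem torus_norm_kernel {w : G} (hw : IsBad Ω w) {c y : Ω} (hc : w • c = c) (hy : w • y = y)
    {Q J : Subgroup G} (hQ : Kernel Ω Z w c e Q) (hJ : Torus Ω Z c y e J) {j x : G} (hj : j ∈ J)
    (hx : x ∈ Q) : j * x * j⁻¹ ∈ Q := by
  obtain ⟨hxL, hxc, k, hk⟩ := (hQ.mem_iff x).1 hx
  have hjL := hJ.le_memCent w hw hc hy hj
  refine (hQ.mem_iff _).2 ⟨mul_mem (mul_mem hjL hxL) (inv_mem hjL), ?_, k, ?_⟩
  · rw [mul_smul, mul_smul, inv_smul_eq_iff.2 (hJ.fix j hj).1.symm, hxc, (hJ.fix j hj).1]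
  · rw [conj_pow, hk, mul_one, mul_inv_cancel]

/-- A torus element fixing a kernel element modulo the members is trivial, or the element is in
the group of the members. -/
theorem torus_free_kernel {w : G} (hw : IsBad Ω w) {c y : Ω} (hc : w • c = c) (hy : w • y = y)
    {Q J : Subgroup G} (hQ : Kernel Ω Z w c e Q) (hJ : Torus Ω Z c y e J) {j x : G} (hj : j ∈ J)
    (hj1 : j ≠ 1) (hx : x ∈ Q) (h : x⁻¹ * (j * x * j⁻¹) ∈ memGroup Z c) : x ∈ memGroup Z c := by
  have hx' : j * x * j⁻¹ ∈ Q := hB.torus_norm_kernel hw hc hy hQ hJ hj hx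
  have hcm := (hQ.central _ h x hx)
  have h2 : j * (x * x) * j⁻¹ = x * x := by
    have ha := hB.setting.mul_self_memGroup hB.faith hB.case.comm h
    set a := x⁻¹ * (j * x * j⁻¹) with hadef
    have hjx : j * x * j⁻¹ = x * a := by rw [hadef, mul_inv_cancel_left]
    calc j * (x * x) * j⁻¹ = (j * x * j⁻¹) * (j * x * j⁻¹) := by group
      _ = x * (a * x) * a := by rw [hjx]; group
      _ = x * (x * a) * a := by rw [hcm.eq]
      _ = x * x := by rw [mul_assoc, mul_assoc, ha, mul_one]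
  refine hQ.mem_of_sq x hx ?_
  rcases (hB.setting.mem_memGroup_iff hB.faith hB.case.comm).1 (hQ.sq x hx) with h3 | h3
  · exact h3
  · exact absurd (hJ.regular j hj _ h3 h2) hj1

end Base

end CfsgLib.StrongCrit.CentralTwo
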