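import Cfsg.Agent.Lib.StrongCrit.CentralTwo.Defs

/-!
The Suzuki case: without four groups of bad involutions at two points and with all translations, the
part of the translation group centralising `u` is the kernel times `u`, and the translation group is
elementary modulo the members.
-/

set_option autoImplicit false

set_option linter.unusedSectionVars false

namespace CfsgLib.StrongCrit.CentralTwo

open CfsgLib.Involutions CfsgLib.BenderTrans MulAction
open scoped commutatorElement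

universe u

variable {G : Type u} [Group G] {Ω : Type u} [MulAction G Ω] {Z : Set G}

/-- A conjugate of an element commuting with `u` in the translation group commutes with `u`. -/
theorem shift_conj_commute {c : Ω} {u g z : G} (hg : g ∈ shiftGroup Z c u)
    (hz : z ∈ shiftGroup Z c u) (hzu : Commute z u) : Commute (g * z * g⁻¹) u := by
  rw [← commutatorElement_eq_one_iff_commute, commutator_shift_mul (mul_mem hg hz) (inv_mem hg),
    commutator_shift_mul hg hz, commutatorElement_eq_one_iff_commute.2 hzu, one_mul,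
    ← commutator_shift_mul hg (inv_mem hg), mul_inv_cancel, commutatorElement_one_left]

/-- The square of a product with a commuting element of order two. -/
theorem mul_mul_self_of_commute {x a : G} (h : Commute a x) (ha : a * a = 1) :
    x * a * (x * a) = x * x := by
  rw [mul_assoc x a, ← mul_assoc a x a, h.eq, mul_assoc x a a, ha, mul_one]

namespace Base

variable {e : ℕ} [Finite G] [Finite Ω] (hB : Base Ω Z e)
include hB

/-- The kernel lies in the translation group. -/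
theorem kernel_mem_shift {u : G} {c : Ω} {Q : Subgroup G} (hQ : Kernel Ω Z u c e Q) {x : G}
    (hx : x ∈ Q) : x ∈ shiftGroup Z c u :=
  ⟨hQ.fix x hx, fun a ha => hQ.central a ha x hx, by
    rw [commutatorElement_eq_one_iff_commute.2 (hQ.commute x hx).symm]; exact one_mem _⟩

/-- A line stabiliser element commuting with `u` lies in the translation group. -/
theorem lineStab_mem_shift {u : G} {c y : Ω} {p : G} (hp : p ∈ lineStab Z c y) (hpu : Commute p u) :
    p ∈ shiftGroup Z c u := by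
  obtain ⟨hpc, -, hpm⟩ := mem_lineStab.1 hp
  refine ⟨hpc, fun a ha => ?_, by
    rw [commutatorElement_eq_one_iff_commute.2 hpu]; exact one_mem _⟩
  rcases (hB.setting.mem_memGroup_iff hB.faith hB.case.comm).1 ha with rfl | ha
  · exact Commute.one_left p
  · exact hpm a ha

/-- An element of the translation group commuting with `u` is a product in the kernel and the line
stabiliser. -/
theorem shift_decomp {u : G} (hu : IsBad Ω u) {c y : Ω} (hyc : y ≠ c) (huc : u • c = c)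
    (huy : u • y = y) {Q : Subgroup G} (hQ : Kernel Ω Z u c e Q) {g : G}
    (hg : g ∈ shiftGroup Z c u) (hgu : Commute g u) :
    ∃ x ∈ Q, ∃ p ∈ lineStab Z c y, Commute p u ∧ g = x * p := by
  obtain ⟨x, hx, p, hp, rfl⟩ := hB.decomp u hu c y hyc huc huy Q hQ g hg.1
    (fun a ha => hg.2.1 a (Subgroup.subset_closure ha))
    (by rw [smul_smul, ← hgu.eq, mul_smul, huy])
  refine ⟨x, hx, p, hp, ?_, rfl⟩
  have h1 := (hQ.commute x hx).symm.inv_left.mul_left hgu
  rwa [inv_mul_cancel_left] at h1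

/-- The line stabiliser has no involution commuting with `u` but `u`. -/
theorem invol_eq_of_noFour (hnf : NoFour (G := G) Ω) {u : G} (hu : IsBad Ω u) {c y : Ω} (hyc : y ≠ c)
    (huc : u • c = c) (huy : u • y = y) {p : G} (hp : p ∈ lineStab Z c y) (hpu : Commute p u)
    (hp2 : p * p = 1) : p = 1 ∨ p = u := by
  obtain ⟨hpc, hpy, -⟩ := mem_lineStab.1 hp
  rcases eq_or_ne p 1 with h1 | h1
  · exact Or.inl h1
  · exact Or.inr (hnf p u ⟨orderOf_eq_two_iff_mul.2 ⟨h1, hp2⟩, c, y, hyc.symm, hpc, hpy⟩ hu hpu c y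
      hyc.symm hpc hpy huc huy)

/-- An element of the translation group conjugates a kernel element to itself times members and
perhaps `u`. -/
theorem shift_conj_kernel (hnf : NoFour (G := G) Ω) {u : G} (hu : IsBad Ω u) {c y : Ω} (hyc : y ≠ c)
    (huc : u • c = c) (huy : u • y = y) {Q : Subgroup G} (hQ : Kernel Ω Z u c e Q) {g x : G}
    (hg : g ∈ shiftGroup Z c u) (hx : x ∈ Q) :
    ∃ a ∈ memGroup Z c, g * x * g⁻¹ = x * a ∨ g * x * g⁻¹ = x * a * u := by
  have hxT := hB.kernel_mem_shift hQ hx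
  obtain ⟨x', hx', p, hp, hpu, he⟩ := hB.shift_decomp hu hyc huc huy hQ
    (mul_mem (mul_mem hg hxT) (inv_mem hg)) (shift_conj_commute hg hxT (hQ.commute x hx).symm)
  have hpx := hB.commute_stab_kernel hu hyc huc huy hQ hp hx'
  have hsq : x' * x' * (p * p) = x * x * 1 := by
    have h1 : x' * p * (x' * p) = x' * x' * (p * p) := by
      rw [mul_assoc, ← mul_assoc p, hpx.eq, mul_assoc x' p, ← mul_assoc]
    rw [← h1, ← he, mul_one]
    calc g * x * g⁻¹ * (g * x * g⁻¹) = g * (x * x) * g⁻¹ := by group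
      _ = x * x := by rw [← (hg.2.1 _ (hQ.sq x hx)).eq, mul_inv_cancel_right]
  obtain ⟨h2, h3⟩ := hB.decomp_unique hyc hQ (mul_mem hx' hx') (mul_mem hx hx) (mul_mem hp hp)
    (one_mem _) hsq
  have ha : x⁻¹ * x' ∈ memGroup Z c := hQ.sq_inj x hx x' hx' h2.symm
  refine ⟨_, ha, ?_⟩
  rcases hB.invol_eq_of_noFour hnf hu hyc huc huy hp hpu h3 with rfl | rfl
  · left; rw [he, mul_one, mul_inv_cancel_left]
  · right; rw [he, mul_inv_cancel_left]

/-- With all translations the line stabiliser centralising `u` has no element of order four. -/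
theorem ne_sq_of_translations (hnf : NoFour (G := G) Ω) {u : G} (hu : IsBad Ω u) {c y : Ω}
    (hyc : y ≠ c) (huc : u • c = c) (huy : u • y = y)
    (htr : ∀ a ∈ memGroup Z c, ∃ g ∈ shiftGroup Z c u, ⁅g, u⁆ = a) {Q : Subgroup G}
    (hQ : Kernel Ω Z u c e Q) {w : G} (hw : w ∈ lineStab Z c y) (hwu : Commute w u) :
    w * w ≠ u := by
  intro hww
  have huP : u ∈ lineStab Z c y := hB.mem_lineStab_of_bad hu huc huy
  -- conjugates of square roots of `u`
  have key : ∀ g ∈ shiftGroup Z c u, ∀ v ∈ lineStab Z c y, Commute v u → v * v = u →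
      ∃ x ∈ Q, ∃ p ∈ lineStab Z c y, Commute p u ∧ g * v * g⁻¹ = x * p ∧ x * x = ⁅g, u⁆ ∧
        p * p = u := by
    intro g hg v hv hvu hvv
    have hvT := hB.lineStab_mem_shift hv hvu
    obtain ⟨x, hx, p, hp, hpu, he⟩ := hB.shift_decomp hu hyc huc huy hQ
      (mul_mem (mul_mem hg hvT) (inv_mem hg)) (shift_conj_commute hg hvT hvu)
    have hpx := hB.commute_stab_kernel hu hyc huc huy hQ hp hx
    have hsq : x * x * (p * p) = ⁅g, u⁆ * u := by
      have h1 : x * p * (x * p) = x * x * (p * p) := by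
        rw [mul_assoc, ← mul_assoc p, hpx.eq, mul_assoc x p, ← mul_assoc]
      rw [← h1, ← he]
      calc g * v * g⁻¹ * (g * v * g⁻¹) = g * (v * v) * g⁻¹ := by group
        _ = ⁅g, u⁆ * u := by rw [hvv, commutatorElement_def, inv_mul_cancel_right]
    obtain ⟨h2, h3⟩ := hB.decomp_unique hyc hQ (mul_mem hx hx) (hQ.le hg.2.2) (mul_mem hp hp) huP hsq
    exact ⟨x, hx, p, hp, hpu, he, h2, h3⟩
  -- squaring is multiplicative on the kernel
  have hcomm : ∀ x ∈ Q, ∀ z ∈ Q, Commute x z := by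
    intro x hx z hz
    obtain ⟨g, hg, hgx⟩ := htr _ (hQ.sq x hx)
    obtain ⟨h, hh, hhz⟩ := htr _ (hQ.sq z hz)
    obtain ⟨x₂, hx₂, p₂, hp₂, hp₂u, he₂, hs₂, hp₂₂⟩ := key h hh w hw hwu hww
    obtain ⟨x₃, hx₃, p₃, hp₃, hp₃u, he₃, hs₃, hp₃₃⟩ := key g hg p₂ hp₂ hp₂u hp₂₂
    obtain ⟨x₄, hx₄, p₄, hp₄, -, he₄, hs₄, -⟩ := key (g * h) (mul_mem hg hh) w hw hwu hww
    rw [hhz] at hs₂
    rw [hgx] at hs₃
    rw [commutator_shift_mul hg hh, hgx, hhz] at hs₄
    obtain ⟨a, ha, hga⟩ := hB.shift_conj_kernel hnf hu hyc huc huy hQ hg hx₂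
    have hprod : x₄ * p₄ = g * x₂ * g⁻¹ * (x₃ * p₃) := by
      rw [← he₄, ← he₃, show g * h * w * (g * h)⁻¹ = g * (h * w * h⁻¹) * g⁻¹ by group, he₂]
      group
    have hx4 : x₄ = x₂ * a * x₃ := by
      rcases hga with hga | hga
      · refine (hB.decomp_unique hyc hQ hx₄ (mul_mem (mul_mem hx₂ (hQ.le ha)) hx₃) hp₄ hp₃ ?_).1
        rw [hprod, hga]; simp only [mul_assoc]
      · refine (hB.decomp_unique hyc hQ hx₄ (mul_mem (mul_mem hx₂ (hQ.le ha)) hx₃) hp₄
          (mul_mem huP hp₃) ?_).1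
        rw [hprod, hga, mul_assoc (x₂ * a), ← mul_assoc u x₃, (hQ.commute x₃ hx₃).eq]
        simp only [mul_assoc]
    have hA : ∀ {b : G}, b ∈ memGroup Z c → b * b = 1 := fun hb =>
      hB.setting.mul_self_memGroup hB.faith hB.case.comm hb
    have he2 := hQ.sq_inj z hz x₂ hx₂ hs₂.symm
    have he3 := hQ.sq_inj x hx x₃ hx₃ hs₃.symm
    have hsq : z * x * (z * x) = z * z * (x * x) := by
      rw [← hs₄, hx4]
      set b₂ := z⁻¹ * x₂
      set b₃ := x⁻¹ * x₃
      have h2 : x₂ = z * b₂ := (mul_inv_cancel_left z x₂).symm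
      have h3 : x₃ = x * b₃ := (mul_inv_cancel_left x x₃).symm
      have hm : b₂ * a * b₃ ∈ memGroup Z c := mul_mem (mul_mem he2 ha) he3
      have hsplit : x₂ * a * x₃ = z * x * (b₂ * a * b₃) := by
        rw [h2, h3, mul_assoc z b₂ a, mul_assoc z, ← mul_assoc (b₂ * a) x b₃,
          (hQ.central _ (mul_mem he2 ha) x hx).eq]
        simp only [mul_assoc]
      rw [hsplit, mul_mul_self_of_commute (hQ.central _ hm _ (mul_mem hz hx)) (hA hm)]
    have h5 : x * (z * x) = z * (x * x) := mul_left_cancel (a := z) (by rwa [mul_assoc, mul_assoc z z] at hsq)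
    rw [← mul_assoc, ← mul_assoc] at h5
    exact mul_right_cancel h5
  have hle : Q ≤ memGroup Z c := fun x hx => hQ.centre x hx (hcomm x hx)
  have h1 := Subgroup.card_le_of_le hle
  rw [hQ.card, hB.card_memGroup] at h1
  have h2 : e < e * 2 := by have := hB.three_le; omega
  exact absurd (Nat.pow_lt_pow_right one_lt_two h2) (not_lt.2 h1)

/-- The elements of the translation group commuting with `u` lie in the kernel times `u`. -/
theorem shift_ker_small (hnf : NoFour (G := G) Ω) {u : G} (hu : IsBad Ω u) {c : Ω} (huc : u • c = c)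
    (htr : ∀ a ∈ memGroup Z c, ∃ g ∈ shiftGroup Z c u, ⁅g, u⁆ = a) {Q : Subgroup G}
    (hQ : Kernel Ω Z u c e Q) {g : G} (hg : g ∈ shiftGroup Z c u) (hgu : Commute g u) :
    ∃ x ∈ Q, g = x ∨ g = x * u := by
  obtain ⟨hu2, p, q, hpq, hp, hq⟩ := id hu
  obtain ⟨y, huy, hyc⟩ : ∃ y, u • y = y ∧ y ≠ c := by
    rcases eq_or_ne p c with rfl | hpc
    · exact ⟨q, hq, hpq.symm⟩
    · exact ⟨p, hp, hpc⟩
  obtain ⟨x, hx, p, hp, hpu, rfl⟩ := hB.shift_decomp hu hyc huc huy hQ hg hgu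
  refine ⟨x, hx, ?_⟩
  obtain ⟨hpc, -, hpm⟩ := mem_lineStab.1 hp
  -- `p ^ 4 = 1` from the line of `u` times a member
  obtain ⟨a, ha⟩ := hB.setting.exists_memAt c
  have hua := hB.commute_bad hu huc (Subgroup.subset_closure ha)
  have hbad : IsBad Ω (u * a) := hB.setting.isBad_mul hB.faith hu ha.1 hua
  have hbc : (u * a) • c = c := by rw [mul_smul, ha.2, huc]
  obtain ⟨-, r, s, hrs, hr, hs⟩ := id hbad
  obtain ⟨z, hz, hzc⟩ : ∃ z, (u * a) • z = z ∧ z ≠ c := by
    rcases eq_or_ne r c with rfl | hrc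
    · exact ⟨s, hs, hrs.symm⟩
    · exact ⟨r, hr, hrc⟩
  have huz : u • z ≠ z := fun e1 => hzc <| hB.setting.unique a ha.1 z c
    (MulAction.injective u (show u • (a • z) = u • z by rw [smul_smul, hz, e1])) ha.2
  have hp4 : p * p * (p * p) = 1 := by
    obtain ⟨Q', hQ'⟩ := hB.kernel (u * a) hbad c hbc
    obtain ⟨x', hx', p', hp', he⟩ := hB.decomp (u * a) hbad c z hzc hbc hz Q' hQ' p hpc hpm (by
      rw [smul_smul, ← (hpu.mul_right (hpm a ha).symm).eq, mul_smul, hz])
    have hpx := hB.commute_stab_kernel hbad hzc hbc hz hQ' hp' hx'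
    have hpp : p * p = x' * x' * (p' * p') := by
      rw [he, mul_assoc, ← mul_assoc p', hpx.eq, mul_assoc x' p', ← mul_assoc]
    have hm := hQ'.sq x' hx'
    have hp'' : p * p * (p * p) ∈ lineStab Z c z := by
      have hc : Commute (x' * x') (p' * p') := (hpx.symm.mul_left hpx.symm).mul_right
        (hpx.symm.mul_left hpx.symm)
      rw [hpp, mul_mul_self_of_commute hc (hB.setting.mul_self_memGroup hB.faith hB.case.comm hm)
        |> fun e2 => show x' * x' * (p' * p') * (x' * x' * (p' * p')) = p' * p' * (p' * p') by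
          rw [hc.eq]; exact e2]
      exact mul_mem (mul_mem hp' hp') (mul_mem hp' hp')
    exact hB.semiregular u hu c y hyc huc huy _ (mul_mem (mul_mem hp hp) (mul_mem hp hp)) z huz
      (mem_lineStab.1 hp'').2.1
  rcases hB.invol_eq_of_noFour hnf hu hyc huc huy (mul_mem hp hp) (hpu.mul_left hpu) hp4 with h | h
  · rcases hB.invol_eq_of_noFour hnf hu hyc huc huy hp hpu h with rfl | rfl
    · exact Or.inl (mul_one x)
    · exact Or.inr rfl
  · exact absurd h (hB.ne_sq_of_translations hnf hu hyc huc huy htr hQ hp hpu)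

/-- With all translations the translation group fixes the kernel modulo the members. -/
theorem shift_conj_kernel_eq (hnf : NoFour (G := G) Ω) {u : G} (hu : IsBad Ω u) {c y : Ω}
    (hyc : y ≠ c) (huc : u • c = c) (huy : u • y = y)
    (htr : ∀ a ∈ memGroup Z c, ∃ g ∈ shiftGroup Z c u, ⁅g, u⁆ = a) {Q : Subgroup G}
    (hQ : Kernel Ω Z u c e Q) {g x₀ : G} (hg : g ∈ shiftGroup Z c u) (hx₀ : x₀ ∈ Q) :
    ∃ a ∈ memGroup Z c, g * x₀ * g⁻¹ = x₀ * a := by
  obtain ⟨a₀, ha₀, h₀ | h₀⟩ := hB.shift_conj_kernel hnf hu hyc huc huy hQ hg hx₀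
  · exact ⟨a₀, ha₀, h₀⟩
  exfalso
  have hh := hB.setting
  have huP : u ∈ lineStab Z c y := hB.mem_lineStab_of_bad hu huc huy
  have hu2 : u * u = 1 := mul_self_eq_one hu.1
  have hA : ∀ {b : G}, b ∈ memGroup Z c → b * b = 1 := fun hb =>
    hh.mul_self_memGroup hB.faith hB.case.comm hb
  set t := ⁅g, u⁆ with ht
  have htE : t ∈ memGroup Z c := hg.2.2
  have hgu : g * u * g⁻¹ = t * u := by rw [ht, commutatorElement_def, inv_mul_cancel_right]
  have ht1 : t ≠ 1 := by
    intro e1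
    have hgu' : Commute g u := commutatorElement_eq_one_iff_commute.1 e1
    obtain ⟨x, hx, hgx⟩ := hB.shift_ker_small hnf hu huc htr hQ hg hgu'
    have hmem : g * x₀ * g⁻¹ ∈ Q := by
      rcases hgx with rfl | rfl
      · exact mul_mem (mul_mem hx hx₀) (inv_mem hx)
      · rw [show x * u * x₀ * (x * u)⁻¹ = x * (u * x₀ * u⁻¹) * x⁻¹ by group,
          (hQ.commute x₀ hx₀).eq, mul_inv_cancel_right]
        exact mul_mem (mul_mem hx hx₀) (inv_mem hx)
    rw [h₀] at hmem
    have huQ : u ∈ Q := by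
      have h1 := mul_mem (inv_mem (mul_mem hx₀ (hQ.le ha₀))) hmem
      rwa [inv_mul_cancel_left] at h1
    exact ne_one_of_involution hu.1 (hB.eq_one_of_kernel_stab hyc hQ huQ huP)
  -- the square of `g`
  obtain ⟨r, hr, hgr⟩ := hB.shift_ker_small hnf hu huc htr hQ (mul_mem hg hg) (by
    rw [← commutatorElement_eq_one_iff_commute, commutator_shift_mul hg hg]; exact hA htE)
  have hconj : ∀ x ∈ Q, r * x * r⁻¹ = g * (g * x * g⁻¹) * g⁻¹ := by
    intro x hx
    rw [show g * (g * x * g⁻¹) * g⁻¹ = g * g * x * (g * g)⁻¹ by group]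
    rcases hgr with e1 | e1 <;> rw [e1]
    rw [show r * u * x * (r * u)⁻¹ = r * (u * x * u⁻¹) * r⁻¹ by group, (hQ.commute x hx).eq,
      mul_inv_cancel_right]
  have hgE : ∀ b ∈ memGroup Z c, g * b * g⁻¹ = b := fun b hb => by
    rw [← (hg.2.1 b hb).eq, mul_inv_cancel_right]
  have hone : ∀ x a : G, a ∈ memGroup Z c → g * x * g⁻¹ = x * a * u → g * (x * a * u) * g⁻¹ = x * t := by
    intro x a ha e1
    calc g * (x * a * u) * g⁻¹ = g * x * g⁻¹ * (g * a * g⁻¹) * (g * u * g⁻¹) := by group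
      _ = x * a * u * a * (t * u) := by rw [e1, hgE a ha, hgu]
      _ = x * (a * a) * (u * (t * u)) := by
          rw [mul_assoc (x * a) u a, (hB.commute_bad hu huc ha).eq]; simp only [mul_assoc]
      _ = x * t := by
          rw [hA ha, mul_one, ← mul_assoc u t, (hB.commute_bad hu huc htE).eq, mul_assoc t, hu2, mul_one]
  have hr₀ : r * x₀ * r⁻¹ = x₀ * t := by rw [hconj x₀ hx₀, h₀, hone x₀ a₀ ha₀ h₀]
  have hrbin : ∀ x ∈ Q, r * x * r⁻¹ = x ∨ r * x * r⁻¹ = x * t := by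
    intro x hx
    obtain ⟨a, ha, e1 | e1⟩ := hB.shift_conj_kernel hnf hu hyc huc huy hQ hg hx
    · left
      calc r * x * r⁻¹ = g * x * g⁻¹ * (g * a * g⁻¹) := by
            rw [hconj x hx]; conv_lhs => rw [e1]
            group
        _ = x := by rw [e1, hgE a ha, mul_assoc, hA ha, mul_one]
    · right; rw [hconj x hx, e1, hone x a ha e1]
  have hrE : r ∉ memGroup Z c := fun hm => ht1 (by
    rw [(hQ.central r hm x₀ hx₀).eq, mul_inv_cancel_right] at hr₀
    exact mul_eq_left.1 hr₀.symm)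
  obtain ⟨J, hJ⟩ := hB.torus c y hyc
  have htm : t ∈ memAt Z c := ((hh.mem_memGroup_iff hB.faith hB.case.comm).1 htE).resolve_left ht1
  -- every other kernel element has one commutator value
  have hval : ∀ r' ∈ Q, r' ∉ memGroup Z c → ∃ j ∈ J, (j * r * j⁻¹)⁻¹ * r' ∈ memGroup Z c ∧
      ∀ x ∈ Q, r' * x * r'⁻¹ = x ∨ r' * x * r'⁻¹ = x * (j * t * j⁻¹) := by
    intro r' hr' hr'E
    obtain ⟨j, hj, hjr⟩ := hB.class_trans u hu c y huc huy hyc Q J hQ hJ r hr r' hr' hrE hr'E
    refine ⟨j, hj, hjr, fun x hx => ?_⟩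
    set b := (j * r * j⁻¹)⁻¹ * r'
    have hr'b : r' = j * r * j⁻¹ * b := (mul_inv_cancel_left _ _).symm
    have hx' : j⁻¹ * x * j ∈ Q := by
      simpa using hB.torus_norm_kernel hu huc huy hQ hJ (inv_mem hj) hx
    have h1 : r' * x * r'⁻¹ = j * (r * (j⁻¹ * x * j) * r⁻¹) * j⁻¹ := by
      rw [hr'b, show j * r * j⁻¹ * b * x * (j * r * j⁻¹ * b)⁻¹ =
        j * r * j⁻¹ * (b * x * b⁻¹) * (j * r * j⁻¹)⁻¹ by group, (hQ.central b hjr x hx).eq,
        mul_inv_cancel_right]
      group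
    rcases hrbin _ hx' with e1 | e1
    · left; rw [h1, e1]; group
    · right; rw [h1, e1]; group
  refine hrE (hQ.centre r hr fun r₂ hr₂ => ?_)
  by_cases h2E : r₂ ∈ memGroup Z c
  · exact (hQ.central r₂ h2E r hr).symm
  by_cases h3E : r * r₂ ∈ memGroup Z c
  · have := hQ.central _ h3E r hr
    have h4 : r * (r₂ * r) = r * (r * r₂) := by rw [← mul_assoc]; exact this.eq
    exact (mul_left_cancel h4).symm
  obtain ⟨j₂, hj₂, hjr₂, hv₂⟩ := hval r₂ hr₂ h2E
  obtain ⟨j₃, hj₃, hjr₃, hv₃⟩ := hval (r * r₂) (mul_mem hr hr₂) h3E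
  rcases hv₂ r hr with e2 | e2
  · exact (mul_inv_eq_iff_eq_mul.1 e2).symm
  exfalso
  have hjt : ∀ j ∈ J, j * t * j⁻¹ ∈ memAt Z c := fun j hj => by
    have := hh.conj_memAt (g := j) htm
    rwa [(hJ.fix j hj).1] at this
  have h5 : r * r₂ * r * (r * r₂)⁻¹ = r * (j₂ * t * j₂⁻¹) := by
    rw [show r * r₂ * r * (r * r₂)⁻¹ = r * (r₂ * r * r₂⁻¹) * r⁻¹ by group, e2,
      mul_assoc r (r * _) r⁻¹, mul_assoc r _ r⁻¹,
      (hQ.central _ (Subgroup.subset_closure (hjt j₂ hj₂)) r⁻¹ (inv_mem hr)).eq, mul_inv_cancel_left]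
  rcases hv₃ r hr with e3 | e3
  · rw [h5] at e3
    exact ne_one_of_involution (hh.invol _ (hjt j₂ hj₂).1) (mul_eq_left.1 e3)
  rw [h5] at e3
  have h6 : (j₃⁻¹ * j₂) * t * (j₃⁻¹ * j₂)⁻¹ = t := by
    calc (j₃⁻¹ * j₂) * t * (j₃⁻¹ * j₂)⁻¹ = j₃⁻¹ * (j₂ * t * j₂⁻¹) * j₃ := by group
      _ = t := by rw [mul_left_cancel e3]; group
  have hj : j₃ = j₂ := inv_mul_eq_one.1 (hJ.regular _ (mul_mem (inv_mem hj₃) hj₂) t htm h6)
  subst hj
  have h7 := mul_mem hjr₃ (inv_mem hjr₂)
  rw [show (j₃ * r * j₃⁻¹)⁻¹ * (r * r₂) * ((j₃ * r * j₃⁻¹)⁻¹ * r₂)⁻¹ =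
    (j₃ * r * j₃⁻¹)⁻¹ * r * (j₃ * r * j₃⁻¹) by group] at h7
  have h8 := hQ.central _ h7 _ (hB.torus_norm_kernel hu huc huy hQ hJ hj₃ hr)
  refine hrE ?_
  have h9 : (j₃ * r * j₃⁻¹)⁻¹ * r * (j₃ * r * j₃⁻¹) = r := by
    have := h8.eq
    rw [show (j₃ * r * j₃⁻¹) * ((j₃ * r * j₃⁻¹)⁻¹ * r * (j₃ * r * j₃⁻¹)) = r * (j₃ * r * j₃⁻¹) by group]
      at this
    exact mul_right_cancel this
  rwa [h9] at h7

/-- With all translations the translation group is elementary modulo the members. -/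
theorem shift_elementary (hnf : NoFour (G := G) Ω) {u : G} (hu : IsBad Ω u) {c : Ω}
    (huc : u • c = c) (htr : ∀ a ∈ memGroup Z c, ∃ g ∈ shiftGroup Z c u, ⁅g, u⁆ = a) :
    (∀ g ∈ shiftGroup Z c u, g * g ∈ memGroup Z c) ∧
      ∀ g ∈ shiftGroup Z c u, ∀ h ∈ shiftGroup Z c u, ⁅g, h⁆ ∈ memGroup Z c := by
  classical
  obtain ⟨-, p, q, hpq, hp, hq⟩ := id hu
  obtain ⟨y, huy, hyc⟩ : ∃ y, u • y = y ∧ y ≠ c := by
    rcases eq_or_ne p c with rfl | hpc
    · exact ⟨q, hq, hpq.symm⟩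
    · exact ⟨p, hp, hpc⟩
  obtain ⟨Q, hQ⟩ := hB.kernel u hu c huc
  obtain ⟨J, hJ⟩ := hB.torus c y hyc
  set T := shiftGroup Z c u
  set E : Subgroup T := (memGroup Z c).subgroupOf T with hE
  have hEn : E.Normal := ⟨fun b hb g => by
    show (g : G) * b * (g : G)⁻¹ ∈ memGroup Z c
    rw [← (g.2.2.1 (b : G) hb).eq, mul_inv_cancel_right]; exact hb⟩
  let π := QuotientGroup.mk' E
  have hu2 : u * u = 1 := mul_self_eq_one hu.1
  have huT : u ∈ T := hB.lineStab_mem_shift (hB.mem_lineStab_of_bad hu huc huy) (Commute.refl u)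
  set z : T ⧸ E := π ⟨u, huT⟩ with hzdef
  have hA : ∀ {b : G}, b ∈ memGroup Z c → b * b = 1 := fun hb =>
    hB.setting.mul_self_memGroup hB.faith hB.case.comm hb
  have hπ : ∀ g : T, π g = 1 ↔ (g : G) ∈ memGroup Z c := fun g => QuotientGroup.eq_one_iff g
  have hzz : z * z = 1 := by
    rw [hzdef, ← map_mul, hπ]
    show u * u ∈ memGroup Z c
    rw [hu2]; exact one_mem _
  have hzc : ∀ X : T ⧸ E, X * z = z * X := by
    intro X
    obtain ⟨g, rfl⟩ := QuotientGroup.mk'_surjective E X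
    rw [hzdef, ← commutatorElement_eq_one_iff_mul_comm, ← map_commutatorElement, hπ]
    exact g.2.2.2
  have hz1 : z ≠ 1 := fun e1 => hB.not_mem_memGroup hu ((hπ _).1 e1)
  -- squares lie in the members times `u`
  have hsq : ∀ g : T, π g * π g = 1 ∨ π g * π g = z := by
    intro g
    obtain ⟨r, hr, hgr⟩ := hB.shift_ker_small hnf hu huc htr hQ (mul_mem g.2 g.2) (by
      rw [← commutatorElement_eq_one_iff_commute, commutator_shift_mul g.2 g.2]; exact hA g.2.2.2)
    have hrE : r ∈ memGroup Z c := by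
      refine hQ.centre r hr fun x hx => ?_
      obtain ⟨a, ha, e1⟩ := hB.shift_conj_kernel_eq hnf hu hyc huc huy htr hQ g.2 hx
      have h1 : (g : G) * g * x * ((g : G) * g)⁻¹ = x := by
        calc (g : G) * g * x * ((g : G) * g)⁻¹ = g * (g * x * (g : G)⁻¹) * (g : G)⁻¹ := by group
          _ = g * x * (g : G)⁻¹ * (g * a * (g : G)⁻¹) := by
            conv_lhs => rw [e1]
            group
          _ = x := by rw [e1, ← (g.2.2.1 a ha).eq, mul_inv_cancel_right, mul_assoc, hA ha, mul_one]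
      rcases hgr with e2 | e2 <;> rw [e2] at h1
      · exact mul_inv_eq_iff_eq_mul.1 h1
      · rw [show r * u * x * (r * u)⁻¹ = r * (u * x * u⁻¹) * r⁻¹ by group, (hQ.commute x hx).eq,
          mul_inv_cancel_right] at h1
        exact mul_inv_eq_iff_eq_mul.1 h1
    rcases hgr with e2 | e2
    · left; rw [← map_mul, hπ]; show (g : G) * g ∈ memGroup Z c; rw [e2]; exact hrE
    · right
      rw [← map_mul, hzdef, ← mul_inv_eq_one, ← map_inv, ← map_mul, hπ]
      show (g : G) * g * u⁻¹ ∈ memGroup Z c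
      rw [e2, mul_inv_cancel_right]; exact hrE
  have hker : ∀ g : T, Commute (g : G) u → π g * π g = 1 := by
    intro g hg
    obtain ⟨x, hx, hgx⟩ := hB.shift_ker_small hnf hu huc htr hQ g.2 hg
    rw [← map_mul, hπ]
    show (g : G) * g ∈ memGroup Z c
    rcases hgx with e1 | e1 <;> rw [e1]
    · exact hQ.sq x hx
    · rw [mul_mul_self_of_commute (hQ.commute x hx) hu2]; exact hQ.sq x hx
  -- the square depends only on the translation
  have hdep : ∀ g h : T, ⁅(g : G), u⁆ = ⁅(h : G), u⁆ → π g * π g = π h * π h := by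
    intro g h hgh
    have hk : Commute ((g⁻¹ * h : T) : G) u := by
      rw [← commutatorElement_eq_one_iff_commute, Subgroup.coe_mul,
        commutator_shift_mul (g⁻¹ : T).2 h.2, ← hgh,
        ← commutator_shift_mul (g⁻¹ : T).2 g.2, Subgroup.coe_inv, inv_mul_cancel,
        commutatorElement_one_left]
    have hK := hker _ hk
    obtain ⟨x, hx, hgx⟩ := hB.shift_ker_small hnf hu huc htr hQ (g⁻¹ * h : T).2 hk
    have hcomm : π g * π (g⁻¹ * h) = π (g⁻¹ * h) * π g := by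
      have hxT : x ∈ T := hB.kernel_mem_shift hQ hx
      have h1 : π g * π ⟨x, hxT⟩ = π ⟨x, hxT⟩ * π g := by
        obtain ⟨a, ha, e1⟩ := hB.shift_conj_kernel_eq hnf hu hyc huc huy htr hQ g.2 hx
        rw [← commutatorElement_eq_one_iff_mul_comm, ← map_commutatorElement, hπ]
        show (g : G) * x * (g : G)⁻¹ * x⁻¹ ∈ memGroup Z c
        rw [e1, ← (hQ.central a ha x hx).eq, mul_inv_cancel_right]; exact ha
      rcases hgx with e1 | e1
      · rwa [show g⁻¹ * h = (⟨x, hxT⟩ : T) from Subtype.ext e1]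
      · rw [show g⁻¹ * h = (⟨x, hxT⟩ : T) * ⟨u, huT⟩ from Subtype.ext e1, map_mul, ← hzdef,
          ← mul_assoc, h1, mul_assoc, hzc, mul_assoc]
    calc π g * π g = π g * π g * (π (g⁻¹ * h) * π (g⁻¹ * h)) := by rw [hK, mul_one]
      _ = π g * (π g * π (g⁻¹ * h)) * π (g⁻¹ * h) := by simp only [mul_assoc]
      _ = π g * π (g⁻¹ * h) * (π g * π (g⁻¹ * h)) := by
        conv_lhs => rw [hcomm]
        simp only [mul_assoc]
      _ = π h * π h := by rw [← map_mul π g (g⁻¹ * h), mul_inv_cancel_left]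
  -- no square is `u`
  have hone : ∀ g : T, π g * π g = 1 := by
    intro g
    by_contra hne
    have hg0 : π g * π g = z := (hsq g).resolve_left hne
    have ht : ⁅(g : G), u⁆ ∈ memAt Z c :=
      ((hB.setting.mem_memGroup_iff hB.faith hB.case.comm).1 g.2.2.2).resolve_left fun e1 =>
        hne (hker g (commutatorElement_eq_one_iff_commute.1 e1))
    have hall : ∀ h : T, ⁅(h : G), u⁆ ≠ 1 → π h * π h = z := by
      intro h hh
      refine (hsq h).resolve_left fun h0 => ?_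
      obtain ⟨j, hj, hjt⟩ := hJ.trans _ ht _
        (((hB.setting.mem_memGroup_iff hB.faith hB.case.comm).1 h.2.2.2).resolve_left hh)
      have hju : Commute j u := (commute_memCent (hJ.le_memCent u hu huc huy hj)).symm
      have hju' : j * u * j⁻¹ = u := by rw [hju.eq, mul_inv_cancel_right]
      have hcj : ⁅j * (g : G) * j⁻¹, u⁆ = j * ⁅(g : G), u⁆ * j⁻¹ := by
        calc ⁅j * (g : G) * j⁻¹, u⁆ = ⁅j * (g : G) * j⁻¹, j * u * j⁻¹⁆ := by rw [hju']
          _ = j * ⁅(g : G), u⁆ * j⁻¹ := by simp only [commutatorElement_def]; group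
      have hjm : ∀ b ∈ memGroup Z c, j⁻¹ * b * j ∈ memGroup Z c := fun b hb => by
        simpa using hB.setting.conj_mem_memGroup (g := j⁻¹) (hJ.fix _ (inv_mem hj)).1 hb
      have hgj : j * (g : G) * j⁻¹ ∈ T := by
        refine ⟨?_, fun b hb => ?_, by rw [hcj, hjt]; exact h.2.2.2⟩
        · rw [mul_smul, mul_smul, inv_smul_eq_iff.2 (hJ.fix j hj).1.symm, g.2.1, (hJ.fix j hj).1]
        · have h1 := g.2.2.1 _ (hjm b hb)
          calc b * (j * g * j⁻¹) = j * ((j⁻¹ * b * j) * g) * j⁻¹ := by group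
            _ = j * (g * (j⁻¹ * b * j)) * j⁻¹ := by rw [h1.eq]
            _ = j * g * j⁻¹ * b := by group
      have h2 := hdep ⟨_, hgj⟩ h (hcj.trans hjt)
      rw [h0, ← map_mul, hπ] at h2
      refine hne ?_
      rw [← map_mul, hπ]
      have h3 : j * (g : G) * j⁻¹ * (j * g * j⁻¹) ∈ memGroup Z c := h2
      have := hjm _ h3
      rwa [show j⁻¹ * (j * (g : G) * j⁻¹ * (j * g * j⁻¹)) * j = (g : G) * g by group] at this
    have hpair : ∀ X Y : T, ⁅(X : G), u⁆ ≠ 1 → ⁅(Y : G), u⁆ ≠ 1 →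
        ⁅(X : G), u⁆ ≠ ⁅(Y : G), u⁆ → π X * π Y = z * (π Y * π X) := by
      intro X Y hX hY hXY
      have h1 : π (X * Y) * π (X * Y) = z := hall _ (by
        rw [Subgroup.coe_mul, commutator_shift_mul X.2 Y.2]
        intro e1
        exact hXY ((eq_inv_of_mul_eq_one_right e1).trans (inv_eq_of_mul_eq_one_right (hA Y.2.2.2))))
      rw [map_mul] at h1
      have hXi : (π X)⁻¹ = z * π X := inv_eq_of_mul_eq_one_right (by
        rw [← mul_assoc, hzc, mul_assoc, hall X hX, hzz])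
      have hYi : (π Y)⁻¹ = z * π Y := inv_eq_of_mul_eq_one_right (by
        rw [← mul_assoc, hzc, mul_assoc, hall Y hY, hzz])
      calc π X * π Y = z * (π X * π Y)⁻¹ := eq_mul_inv_of_mul_eq h1
        _ = z * (π Y * π X) := by
          rw [mul_inv_rev, hXi, hYi, mul_assoc z (π Y), ← mul_assoc (π Y) z, hzc (π Y),
            mul_assoc z (π Y), ← mul_assoc z z, hzz, one_mul]
    -- three translations
    have hcardE : 8 ≤ Nat.card (memGroup Z c) := by
      rw [hB.card_memGroup, show (8 : ℕ) = 2 ^ 3 by norm_num]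
      exact Nat.pow_le_pow_right two_pos hB.three_le
    rw [show Nat.card (memGroup Z c) = ((memGroup Z c : Set G)).ncard from Nat.card_coe_set_eq _]
      at hcardE
    obtain ⟨b, hb, hb1⟩ := Set.exists_ne_of_one_lt_ncard (show 1 < ((memGroup Z c : Set G)).ncard by omega) (1 : G)
    obtain ⟨b', hb', hbb'⟩ : ∃ b' ∈ (memGroup Z c : Set G), b' ∉ ({1, b} : Set G) :=
      Set.exists_mem_notMem_of_ncard_lt_ncard (by
        have h1 := Set.ncard_insert_le (1 : G) ({b} : Set G)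
        rw [Set.ncard_singleton] at h1; omega)
    obtain ⟨a, ha, hab⟩ : ∃ a ∈ (memGroup Z c : Set G), a ∉ ({1, b, b', b * b'} : Set G) :=
      Set.exists_mem_notMem_of_ncard_lt_ncard (by
        have h1 := Set.ncard_insert_le (1 : G) ({b, b', b * b'} : Set G)
        have h2 := Set.ncard_insert_le b ({b', b * b'} : Set G)
        have h3 := Set.ncard_insert_le b' ({b * b'} : Set G)
        rw [Set.ncard_singleton] at h3; omega)
    simp only [Set.mem_insert_iff, Set.mem_singleton_iff, not_or] at hbb' hab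
    obtain ⟨Xa, hXa, hxa⟩ := htr a ha
    obtain ⟨Xb, hXb, hxb⟩ := htr b hb
    obtain ⟨Xc, hXc, hxc⟩ := htr b' hb'
    let X : T := ⟨Xa, hXa⟩
    let Y : T := ⟨Xb, hXb⟩
    let W : T := ⟨Xc, hXc⟩
    have htX : ⁅(X : G), u⁆ = a := hxa
    have htY : ⁅(Y : G), u⁆ = b := hxb
    have htW : ⁅(W : G), u⁆ = b' := hxc
    have htYW : ⁅((Y * W : T) : G), u⁆ = b * b' := by
      rw [Subgroup.coe_mul, commutator_shift_mul Y.2 W.2, htY, htW]
      exact ((hB.setting.commute_memGroup hB.faith hB.case.comm hb' hb)).eq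
    have e1 := hpair X Y (htX ▸ hab.1) (htY ▸ hb1) (by rw [htX, htY]; exact hab.2.1)
    have e2 := hpair X W (htX ▸ hab.1) (htW ▸ hbb'.1) (by rw [htX, htW]; exact hab.2.2.1)
    have e3 := hpair X (Y * W) (htX ▸ hab.1)
      (htYW ▸ fun e4 => hbb'.2 ((eq_inv_of_mul_eq_one_right e4).trans
        (inv_eq_of_mul_eq_one_right (hA hb))))
      (by rw [htX, htYW]; exact hab.2.2.2)
    rw [map_mul] at e3
    have e5 : π X * (π Y * π W) = π Y * π W * π X := by
      rw [← mul_assoc, e1, mul_assoc z, mul_assoc (π Y), e2, ← mul_assoc (π Y) z, hzc (π Y),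
        mul_assoc z (π Y), ← mul_assoc z z, hzz, one_mul, mul_assoc]
    rw [e5] at e3
    exact hz1 (right_eq_mul.1 e3)
  refine ⟨fun g hg => ?_, fun g hg h hh => ?_⟩
  · have h1 := hone ⟨g, hg⟩
    rwa [← map_mul, hπ] at h1
  · have hab : π ⟨g, hg⟩ * π ⟨h, hh⟩ = π ⟨h, hh⟩ * π ⟨g, hg⟩ := by
      have h1 := hone (⟨g, hg⟩ * ⟨h, hh⟩)
      rw [map_mul] at h1
      calc π ⟨g, hg⟩ * π ⟨h, hh⟩ = (π ⟨g, hg⟩ * π ⟨h, hh⟩)⁻¹ :=
            (inv_eq_of_mul_eq_one_right h1).symm
        _ = (π ⟨h, hh⟩)⁻¹ * (π ⟨g, hg⟩)⁻¹ := mul_inv_rev _ _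
        _ = π ⟨h, hh⟩ * π ⟨g, hg⟩ := by
          rw [inv_eq_of_mul_eq_one_right (hone ⟨g, hg⟩), inv_eq_of_mul_eq_one_right (hone ⟨h, hh⟩)]
    rw [← commutatorElement_eq_one_iff_mul_comm, ← map_commutatorElement, hπ] at hab
    exact hab

end Base

end CfsgLib.StrongCrit.CentralTwo
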