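import Cfsg.Agent.Lib.StrongCrit.FixTorus

/-!
Two lemmas on groups acting on finite abelian groups: an odd group on an elementary 2-group of order
`2 ^ (2e+1)` with a torus fixing `u` and sum free orbit of `u` fixes `u`; an abelian group of odd order
inverted by an element killed by the linear characters has square order.
-/

set_option autoImplicit false
set_option linter.style.haveILetI false

namespace CfsgLib.StrongCrit

universe u v

namespace OddAct

/-- A nontrivial finite solvable group has a nontrivial normal subgroup of prime exponent. -/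
theorem exists_normal_prime_exponent {M : Type u} [Group M] [Finite M] [Nontrivial M]
    [Group.IsSolvable M] : ∃ l : ℕ, l.Prime ∧ l ∣ Nat.card M ∧
      ∃ A : Subgroup M, A.Normal ∧ A ≠ ⊥ ∧ ∀ a ∈ A, a ^ l = 1 := by
  classical
  obtain ⟨n, hn⟩ := (inferInstance : Group.IsSolvable M).solvable
  obtain ⟨i, hi, hi1⟩ : ∃ i, derivedSeries M i ≠ ⊥ ∧ derivedSeries M (i + 1) = ⊥ := by
    by_contra hc
    push Not at hc
    have hall : ∀ i, derivedSeries M i ≠ ⊥ := by
      intro i
      induction i with
      | zero => rw [derivedSeries_zero]; exact bot_ne_top.symm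
      | succ i ih => exact hc i ih
    exact hall n hn
  set B := derivedSeries M i with hB
  have hcomm : ∀ a ∈ B, ∀ b ∈ B, Commute a b := by
    intro a ha b hb
    rw [derivedSeries_succ, ← hB, Subgroup.commutator_eq_bot_iff_le_centralizer] at hi1
    exact (Subgroup.mem_centralizer_iff.1 (hi1 hb) a ha)
  haveI := Subgroup.nontrivial_iff_ne_bot B |>.2 hi
  obtain ⟨l, hl, hdvd⟩ := Nat.exists_prime_and_dvd (Finite.one_lt_card (α := B)).ne'
  haveI : Fact l.Prime := ⟨hl⟩
  let A : Subgroup M :=
    { carrier := {a | a ∈ B ∧ a ^ l = 1}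
      one_mem' := ⟨B.one_mem, one_pow l⟩
      mul_mem' := fun {a b} ha hb => ⟨B.mul_mem ha.1 hb.1, by
        rw [(hcomm a ha.1 b hb.1).mul_pow, ha.2, hb.2, one_mul]⟩
      inv_mem' := fun {a} ha => ⟨B.inv_mem ha.1, by rw [inv_pow, ha.2, inv_one]⟩ }
  refine ⟨l, hl, hdvd.trans (Subgroup.card_subgroup_dvd_card B), A, ⟨fun a ha g => ?_⟩, ?_,
    fun a ha => ha.2⟩
  · exact ⟨(derivedSeries_normal M i).conj_mem a ha.1 g, by rw [conj_pow, ha.2, mul_one, mul_inv_cancel]⟩
  · intro hA
    obtain ⟨x, hx⟩ := exists_prime_orderOf_dvd_card' l hdvd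
    have hxA : (x : M) ∈ A := ⟨x.2, by
      have := congrArg (fun z : B => (z : M)) (hx ▸ pow_orderOf_eq_one x)
      simpa using this⟩
    rw [hA, Subgroup.mem_bot, OneMemClass.coe_eq_one] at hxA
    rw [hxA, orderOf_one] at hx
    exact hl.one_lt.ne hx

variable {N : Type u} [Group N] {V : Type v} [AddCommGroup V] [Finite V] [DistribMulAction N V]

/-- The case of order `2 ^ 7`. -/
theorem fixed_of_seven [Finite N] (hV : Nat.card V = 128) (h2 : ∀ v : V, v + v = 0)
    (hN : Odd (Nat.card N)) {u : V} (hu : u ≠ 0) {τ : N} (hτu : τ • u = u)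
    (hτ7 : ∀ v : V, τ ^ 7 • v = v) (hτ : ∀ v : V, τ • v = v → v = 0 ∨ v = u)
    (hsum : ∀ g h : N, g • u ≠ h • u → ∀ f : N, f • u ≠ g • u + h • u) (g : N) : g • u = u := by
  classical
  haveI : Fact (Nat.Prime 7) := ⟨by norm_num⟩
  haveI : Fact (Nat.Prime 2) := ⟨Nat.prime_two⟩
  by_contra hg
  set T := Subgroup.zpowers τ with hT
  -- invariant sets have fixed points `0` and `u` only, modulo seven
  have hcong : ∀ s : Set V, (∀ v ∈ s, τ • v ∈ s) →
      s.ncard ≡ (s ∩ {0, u}).ncard [MOD 7] := by
    intro s hs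
    let e : Equiv.Perm s := {
      toFun := fun v => ⟨τ • (v : V), hs v v.2⟩
      invFun := fun v => ⟨τ ^ 6 • (v : V), by
        have h1 : ∀ k : ℕ, ∀ w ∈ s, τ ^ k • w ∈ s := by
          intro k
          induction k with
          | zero => intro w hw; simpa using hw
          | succ k ih => intro w hw; rw [pow_succ', mul_smul]; exact hs _ (ih w hw)
        exact h1 6 v v.2⟩
      left_inv := fun v => Subtype.ext (by
        show τ ^ 6 • τ • (v : V) = v
        rw [← mul_smul, ← pow_succ, hτ7])
      right_inv := fun v => Subtype.ext (by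
        show τ • τ ^ 6 • (v : V) = v
        rw [← mul_smul, ← pow_succ', hτ7]) }
    haveI : Fintype s := Fintype.ofFinite s
    have he : ∀ (k : ℕ) (v : s), (((e ^ k) v : s) : V) = τ ^ k • (v : V) := by
      intro k
      induction k with
      | zero => intro v; simp
      | succ k ih =>
        intro v
        rw [pow_succ', Equiv.Perm.mul_apply, pow_succ', mul_smul, ← ih]
        rfl
    have he7 : e ^ 7 ^ 1 = 1 := by
      ext v
      rw [pow_one, he, hτ7]
      rfl
    have hp : IsPGroup 7 (Subgroup.zpowers e) := by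
      intro x
      refine ⟨1, Subtype.ext ?_⟩
      obtain ⟨x, hx⟩ := x
      obtain ⟨j, rfl⟩ := Subgroup.mem_zpowers_iff.1 hx
      show (e ^ j) ^ (7 ^ 1) = 1
      rw [← zpow_natCast, ← zpow_mul, mul_comm, zpow_mul, zpow_natCast, he7, one_zpow]
    have h := hp.card_modEq_card_fixedPoints s
    rw [Nat.card_coe_set_eq] at h
    refine h.trans (congrArg (fun x => x % 7) ?_)
    rw [← Nat.card_coe_set_eq (s ∩ {0, u})]
    refine Nat.card_congr
      { toFun := fun v => ⟨v.1.1, v.1.2, ?_⟩
        invFun := fun v => ⟨⟨v.1, v.2.1⟩, ?_⟩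
        left_inv := fun v => rfl
        right_inv := fun v => rfl }
    · have h1 := congrArg Subtype.val (v.2 ⟨e, Subgroup.mem_zpowers e⟩)
      exact hτ _ h1
    · rintro ⟨x, hx⟩
      obtain ⟨j, rfl⟩ := Subgroup.mem_zpowers_iff.1 hx
      have h1 : e ⟨v.1, v.2.1⟩ = ⟨v.1, v.2.1⟩ := Subtype.ext (by
        show τ • v.1 = v.1
        rcases v.2.2 with h | h
        · rw [h, smul_zero]
        · rw [Set.mem_singleton_iff.1 h, hτu])
      exact Function.IsFixedPt.perm_zpow h1 j
  set O := MulAction.orbit N u with hO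
  have huO : u ∈ O := MulAction.mem_orbit_self u
  have hO0 : (0 : V) ∉ O := by
    rintro ⟨k, hk⟩
    exact hu (by rwa [smul_eq_zero_iff_eq] at hk)
  have hO7 : O.ncard ≡ 1 [MOD 7] := by
    refine (hcong O fun v hv => ?_).trans (congrArg (fun x => x % 7) ?_)
    · obtain ⟨k, rfl⟩ := hv
      exact ⟨τ * k, mul_smul τ k u⟩
    · rw [show O ∩ {0, u} = {u} by
        ext v
        simp only [Set.mem_inter_iff, Set.mem_insert_iff, Set.mem_singleton_iff]
        exact ⟨fun h => h.2.resolve_left fun h0 => hO0 (h0 ▸ h.1), fun h => ⟨h ▸ huO, Or.inr h⟩⟩,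
        Set.ncard_singleton]
  have hOodd : Odd O.ncard := by
    rw [← Nat.card_coe_set_eq]
    exact hN.of_dvd_nat (by
      rw [hO, Nat.card_congr (MulAction.orbitEquivQuotientStabilizer N u)]
      exact Subgroup.card_quotient_dvd_card _)
  have hO2 : 1 < O.ncard := Set.one_lt_ncard (Set.toFinite O) |>.2 ⟨u, huO, _, ⟨g, rfl⟩, Ne.symm hg⟩
  -- the span
  let W : AddSubgroup V := AddSubgroup.closure O
  have hOW : O ⊆ W := AddSubgroup.subset_closure
  have hWinv : ∀ (k : N), ∀ w ∈ W, k • w ∈ W := by
    intro k w hw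
    induction hw using AddSubgroup.closure_induction with
    | mem x hx =>
      obtain ⟨h, rfl⟩ := hx
      exact hOW ⟨k * h, mul_smul k h u⟩
    | zero => rw [smul_zero]; exact W.zero_mem
    | add x y _ _ hx hy => rw [smul_add]; exact W.add_mem hx hy
    | neg x _ hx => rw [smul_neg]; exact W.neg_mem hx
  have hW7 : (W : Set V).ncard ≡ 2 [MOD 7] := by
    refine (hcong W fun v hv => hWinv τ v hv).trans (congrArg (fun x => x % 7) ?_)
    rw [show (W : Set V) ∩ {0, u} = {0, u} from Set.inter_eq_right.2 (by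
      rintro v (rfl | rfl)
      · exact W.zero_mem
      · exact hOW huO), Set.ncard_pair hu.symm]
  -- the orbit and its translate are disjoint
  have hdisj : 2 * O.ncard ≤ (W : Set V).ncard := by
    have hd : Disjoint O ((fun v => u + v) '' O) := by
      rw [Set.disjoint_left]
      rintro _ ⟨f, rfl⟩ ⟨_, ⟨k, rfl⟩, hk⟩
      rcases eq_or_ne u (k • u) with h | h
      · refine hO0 ⟨f, ?_⟩
        show f • u = 0
        simp only at hk
        rw [← hk, ← h, h2]
      · refine hsum 1 k (by rwa [one_smul]) f ?_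
        rw [one_smul]
        exact hk.symm
    calc 2 * O.ncard = (O ∪ (fun v => u + v) '' O).ncard := by
          rw [Set.ncard_union_eq hd (Set.toFinite _) (Set.toFinite _),
            Set.ncard_image_of_injective _ (add_right_injective u), two_mul]
      _ ≤ (W : Set V).ncard := by
          refine Set.ncard_le_ncard ?_ (Set.toFinite _)
          rintro v (hv | ⟨w, hw, rfl⟩)
          · exact hOW hv
          · exact W.add_mem (hOW huO) (hOW hw)
  obtain ⟨j, hj, hWj⟩ : ∃ j ≤ 7, (W : Set V).ncard = 2 ^ j := by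
    refine (Nat.dvd_prime_pow Nat.prime_two).1 ?_
    rw [← Nat.card_coe_set_eq, show (2 : ℕ) ^ 7 = 128 by norm_num, ← hV]
    exact AddSubgroup.card_addSubgroup_dvd_card W
  have hWtop : W = ⊤ := by
    refine AddSubgroup.eq_top_of_card_eq W ?_
    rw [hV, show Nat.card W = (W : Set V).ncard from Nat.card_coe_set_eq _, hWj]
    obtain ⟨c, hc⟩ := hOodd
    simp only [Nat.ModEq] at hO7 hW7
    rw [hWj] at hdisj hW7
    interval_cases j <;> omega
  -- the image of `N` in the permutations
  let φ := MulAction.toPermHom N V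
  have hφ : ∀ (k : N) (v : V), φ k v = k • v := fun _ _ => rfl
  haveI : Nontrivial φ.range := by
    refine ⟨⟨1, ⟨⟨φ g, g, rfl⟩, fun h => hg ?_⟩⟩⟩
    have h1 := congrArg (fun x : φ.range => (x : Equiv.Perm V) u) h
    exact h1.symm
  haveI : Group.IsSolvable φ.range :=
    haveI := CfsgLib.PF.oddSolvable N hN
    Group.isSolvable_of_surjective (f := φ.rangeRestrict) φ.rangeRestrict_surjective
  obtain ⟨l, hl, hldvd, A, hAn, hA1, hAl⟩ := exists_normal_prime_exponent (M := φ.range)
  haveI : Fact l.Prime := ⟨hl⟩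
  have hlodd : Odd l := by
    have h1 : Odd (Nat.card φ.range) := hN.of_dvd_nat (Subgroup.card_range_dvd φ)
    exact h1.of_dvd_nat hldvd
  have hAp : IsPGroup l A := fun a => ⟨1, Subtype.ext (by rw [pow_one]; exact hAl a a.2)⟩
  have hfix : ∀ v : V, (∀ a : A, (a : φ.range).1 v = v) → v = 0 := by
    intro v hv
    by_contra hv0
    haveI : Fintype A := Fintype.ofFinite A
    let P : V →+ V :=
      { toFun := fun w => ∑ a : A, (a : φ.range).1 w
        map_zero' := Finset.sum_eq_zero fun a _ => by
          obtain ⟨k, hk⟩ := (a : φ.range).2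
          rw [← hk, hφ, smul_zero]
        map_add' := fun x y => by
          rw [← Finset.sum_add_distrib]
          refine Finset.sum_congr rfl fun a _ => ?_
          obtain ⟨k, hk⟩ := (a : φ.range).2
          rw [← hk, hφ, hφ, hφ, smul_add] }
    have hPk : ∀ (k : N) (w : V), P (k • w) = k • P w := by
      intro k w
      show ∑ a : A, _ = k • ∑ a : A, _
      rw [Finset.smul_sum]
      let kk : φ.range := ⟨φ k, k, rfl⟩
      refine Fintype.sum_equiv
        { toFun := fun a : A => ⟨kk⁻¹ * a * kk, by simpa using hAn.conj_mem a a.2 kk⁻¹⟩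
          invFun := fun a : A => ⟨kk * a * kk⁻¹, hAn.conj_mem a a.2 kk⟩
          left_inv := fun a => Subtype.ext (by simp [mul_assoc])
          right_inv := fun a => Subtype.ext (by simp [mul_assoc]) } _ _ fun a => ?_
      show (a : φ.range).1 (k • w) = k • ((φ k)⁻¹ * (a : φ.range).1 * φ k) w
      simp only [Equiv.Perm.mul_apply, hφ, Equiv.Perm.inv_def]
      rw [← hφ k ((φ k).symm _), Equiv.apply_symm_apply]
    have hPu : P u = 0 := by
      refine (hτ (P u) ?_).resolve_right fun hPu => hA1 ((Subgroup.eq_bot_iff_forall _).2 fun a ha => ?_)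
      · rw [← hPk, hτu]
      · have hu' : ∀ b : A, (b : φ.range).1 u = u := by
          intro b
          conv_lhs => rw [← hPu]
          conv_rhs => rw [← hPu]
          show (b : φ.range).1 (∑ a : A, (a : φ.range).1 u) = _
          obtain ⟨k, hk⟩ := (b : φ.range).2
          rw [← hk, hφ, Finset.smul_sum]
          refine Fintype.sum_equiv (Equiv.mulLeft b) _ _ fun a => ?_
          show k • (a : φ.range).1 u = ((b : φ.range).1 * (a : φ.range).1) u
          rw [← hk, Equiv.Perm.mul_apply, hφ]
        refine Subtype.ext (Equiv.ext fun w => ?_)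
        have hw : w ∈ W := hWtop ▸ AddSubgroup.mem_top w
        obtain ⟨k₀, hk₀⟩ := a.2
        show (a : Equiv.Perm V) w = w
        induction hw using AddSubgroup.closure_induction with
        | mem x hx =>
          obtain ⟨h, rfl⟩ := hx
          let hh : φ.range := ⟨φ h, h, rfl⟩
          have h3 : hh⁻¹ * a * hh ∈ A := by simpa using hAn.conj_mem a ha hh⁻¹
          have h4 : ((φ h)⁻¹ * (a : Equiv.Perm V) * φ h) u = u := hu' ⟨_, h3⟩
          rw [Equiv.Perm.mul_apply, Equiv.Perm.mul_apply, Equiv.Perm.inv_eq_iff_eq] at h4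
          exact h4
        | zero => rw [← hk₀, hφ, smul_zero]
        | add x y _ _ hx hy =>
          rw [← hk₀, hφ] at hx hy ⊢
          rw [smul_add, hx, hy]
        | neg x _ hx =>
          rw [← hk₀, hφ] at hx ⊢
          rw [smul_neg, hx]
    have hP0 : ∀ w : V, P w = 0 := by
      intro w
      have hw : w ∈ W := hWtop ▸ AddSubgroup.mem_top w
      induction hw using AddSubgroup.closure_induction with
      | mem x hx => obtain ⟨h, rfl⟩ := hx; rw [hPk, hPu, smul_zero]
      | zero => exact map_zero P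
      | add x y _ _ hx hy => rw [map_add, hx, hy, add_zero]
      | neg x _ hx => rw [map_neg, hx, neg_zero]
    refine hv0 ?_
    rw [← hP0 v]
    show v = ∑ a : A, (a : φ.range).1 v
    rw [Finset.sum_congr rfl fun a _ => hv a, Finset.sum_const, Finset.card_univ]
    obtain ⟨c, hc⟩ := (hN.of_dvd_nat (Subgroup.card_range_dvd φ)).of_dvd_nat
      (Subgroup.card_subgroup_dvd_card A)
    rw [← Nat.card_eq_fintype_card, hc, add_nsmul, mul_comm, mul_nsmul', one_nsmul, two_nsmul, h2,
      smul_zero, zero_add]
  letI : MulAction A V := MulAction.compHom V ((Subgroup.subtype φ.range).comp A.subtype)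
  have h127 : l = 127 := by
    have h := hAp.card_modEq_card_fixedPoints V
    rw [hV] at h
    have h1 : Nat.card (MulAction.fixedPoints A V) = 1 := by
      rw [Nat.card_coe_set_eq, show MulAction.fixedPoints A V = {(0 : V)} by
        ext v
        refine ⟨fun hv => hfix v hv, ?_⟩
        rintro rfl a
        obtain ⟨k, hk⟩ := (a : φ.range).2
        show (a : φ.range).1 0 = 0
        rw [← hk, hφ, smul_zero], Set.ncard_singleton]
    rw [h1] at h
    have h3 : l ∣ 127 := (Nat.modEq_iff_dvd' (by norm_num)).1 h.symm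
    exact (Nat.prime_dvd_prime_iff_eq hl (by norm_num)).1 h3
  have hmove : ∃ a : A, a • u ≠ u := by
    by_contra hc
    push Not at hc
    exact hu (hfix u hc)
  obtain ⟨n, hn⟩ := hAp.card_orbit u
  have hsub : MulAction.orbit A u ⊆ O := by
    rintro _ ⟨a, rfl⟩
    obtain ⟨k, hk⟩ := (a : φ.range).2
    exact ⟨k, by show k • u = (a : φ.range).1 u; rw [← hk, hφ]⟩
  have hle := Set.ncard_le_ncard hsub (Set.toFinite O)
  rw [← Nat.card_coe_set_eq, hn] at hle
  rcases n with - | n
  · obtain ⟨a, ha⟩ := hmove
    rw [pow_zero, Nat.card_coe_set_eq, Set.ncard_eq_one] at hn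
    obtain ⟨w, hw⟩ := hn
    exact ha (((hw ▸ MulAction.mem_orbit u a : a • u ∈ ({w} : Set V))).trans
      ((hw ▸ MulAction.mem_orbit_self u : u ∈ ({w} : Set V))).symm)
  · have h1 : 127 ≤ l ^ (n + 1) := by
      rw [h127]; exact Nat.le_self_pow n.succ_ne_zero 127
    have h64 : (W : Set V).ncard ≤ 128 := hWj ▸ Nat.pow_le_pow_right (by norm_num) hj
    omega

/-- An odd group fixes `u` if it contains a torus fixing only `0, u` and the orbit of `u` is sum
free, on an elementary group of order `2 ^ (2e+1)`. -/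
theorem fixed_of_fpf_torus [Finite N] {e : ℕ} (he : 3 ≤ e) (hV : Nat.card V = 2 ^ (2 * e + 1))
    (h2 : ∀ v : V, v + v = 0) (hN : Odd (Nat.card N)) {u : V} (hu : u ≠ 0) {τ : N} (hτu : τ • u = u)
    (hτm : ∀ v : V, τ ^ (2 ^ e - 1) • v = v)
    (hfix : ∀ k : ℕ, ¬ 2 ^ e - 1 ∣ k → ∀ v : V, τ ^ k • v = v → v = 0 ∨ v = u)
    (hsum : ∀ g h : N, g • u ≠ h • u → ∀ f : N, f • u ≠ g • u + h • u) (g : N) : g • u = u := by
  have hq : 7 ≤ 2 ^ e - 1 := by
    have : 2 ^ 3 ≤ 2 ^ e := Nat.pow_le_pow_right two_pos he
    omega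
  have h1 : ∀ v : V, τ • v = v → v = 0 ∨ v = u := fun v hv =>
    hfix 1 (fun h => by have := Nat.le_of_dvd one_pos h; omega) v (by rwa [pow_one])
  rcases eq_or_lt_of_le he with rfl | he4
  · exact fixed_of_seven (by rw [hV]; norm_num) h2 hN hu hτu (by simpa using hτm) h1 hsum g
  · refine fixed_of_torus hN h2 hτu h1 (fun k hk hkV f hf => ?_) g
    rw [hV, Nat.pow_le_pow_iff_right (by norm_num)] at hkV
    have hlt : k < 2 ^ e - 1 := by
      have key : ∀ m, 4 ≤ m → 2 * m + 3 ≤ 2 ^ m := by
        intro m hm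
        induction m, hm using Nat.le_induction with
        | base => norm_num
        | succ m _ ih => rw [pow_succ]; omega
      have := key e he4
      omega
    refine (hfix k (fun h => by have := Nat.le_of_dvd hk h; omega) _ hf).resolve_left fun h0 => hu ?_
    rwa [smul_eq_zero_iff_eq] at h0

/-- A group of prime exponent inverted by `u`, where `u` is killed by the linear characters killing
`S` and `S` acts trivially, has order an even power of the prime. -/
theorem card_eq_even_pow {H : Type u} [Group H] {W : Type v} [AddCommGroup W] [Finite W] {p : ℕ}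
    [Fact p.Prime] [Module (ZMod p) W] (hp2 : p ≠ 2) (ρ : H →* AddMonoid.End W) {u : H}
    (hu : ∀ w : W, ρ u w = -w) {S : Set H} (hS : ∀ s ∈ S, ρ s = 1)
    (hhom : ∀ φ : H →* (ZMod p)ˣ, (∀ s ∈ S, φ s = 1) → φ u = 1) :
    ∃ d, Nat.card W = p ^ d ∧ Even d := by
  haveI : Module.Finite (ZMod p) W := Module.Finite.of_finite
  let ψ : H →* Module.End (ZMod p) W :=
    { toFun := fun h => (ρ h : W →+ W).toZModLinearMap p
      map_one' := LinearMap.ext fun w => by
        show ρ 1 w = w
        rw [map_one]; rfl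
      map_mul' := fun h k => LinearMap.ext fun w => by
        show ρ (h * k) w = ρ h (ρ k w)
        rw [map_mul]; rfl }
  let δ : H →* (ZMod p)ˣ := (LinearMap.det.comp ψ).toHomUnits
  have hδ : δ u = 1 := by
    refine hhom δ fun s hs => Units.ext ?_
    show LinearMap.det (ψ s) = 1
    rw [show ψ s = 1 from LinearMap.ext fun w => by show ρ s w = w; rw [hS s hs]; rfl, map_one]
  refine ⟨Module.finrank (ZMod p) W, by rw [Module.natCard_eq_pow_finrank (K := ZMod p) (V := W),
    Nat.card_zmod], ?_⟩
  have hψu : ψ u = (-1 : ZMod p) • LinearMap.id := LinearMap.ext fun w => by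
    rw [LinearMap.smul_apply, neg_one_smul, LinearMap.id_apply]
    exact hu w
  have h : LinearMap.det (ψ u) = 1 := congrArg Units.val hδ
  rw [hψu, LinearMap.det_smul, LinearMap.det_id, mul_one] at h
  by_contra hodd
  rw [(Nat.not_even_iff_odd.1 hodd).neg_one_pow] at h
  haveI : Fact (2 < p) := ⟨lt_of_le_of_ne (Fact.out : p.Prime).two_le (Ne.symm hp2)⟩
  exact ZMod.neg_one_ne_one h

/-- An abelian group of odd order inverted by an element killed by linear characters has square
order. -/
theorem isSquare_card_of_inverted_aux : ∀ (n : ℕ) {H : Type u} [Group H] {A : Type v} [CommGroup A]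
    [Finite A] [MulDistribMulAction H A], Nat.card A ≤ n → Odd (Nat.card A) → ∀ {u : H},
    (∀ a : A, u • a = a⁻¹) → ∀ {S : Set H}, (∀ s ∈ S, ∀ a : A, s • a = a) →
    (∀ (p : ℕ) [Fact p.Prime] (φ : H →* (ZMod p)ˣ), (∀ s ∈ S, φ s = 1) → φ u = 1) →
    IsSquare (Nat.card A) := by
  intro n
  induction n with
  | zero =>
    intro H _ A _ _ _ h
    exact absurd (Nat.card_pos (α := A)) (by omega)
  | succ n ih =>
    intro H _ A _ _ _ hn hA u hinv S hS hhom
    rcases (Nat.eq_or_lt_of_le (Nat.one_le_iff_ne_zero.2 (Nat.card_pos (α := A)).ne')).symm with h1 | h1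
    swap
    · rw [← h1]; exact IsSquare.one
    obtain ⟨p, hp, hdvd⟩ := Nat.exists_prime_and_dvd h1.ne'
    haveI : Fact p.Prime := ⟨hp⟩
    have hp2 : p ≠ 2 := fun e => by
      rw [e] at hdvd
      exact absurd (hA.of_dvd_nat hdvd) (by decide)
    let π : A →* A := powMonoidHom p
    -- the elements of order dividing `p`
    letI : MulDistribMulAction H π.ker :=
      { smul := fun h a => ⟨h • (a : A), by
          show (h • (a : A)) ^ p = 1
          rw [← smul_pow', show (a : A) ^ p = 1 from a.2, smul_one]⟩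
        one_smul := fun a => Subtype.ext (one_smul H (a : A))
        mul_smul := fun h k a => Subtype.ext (mul_smul h k (a : A))
        smul_mul := fun h a b => Subtype.ext (smul_mul' h (a : A) b)
        smul_one := fun h => Subtype.ext (smul_one h) }
    let ψh : H → AddMonoid.End (Additive π.ker) := fun h =>
      { toFun := fun a => Additive.ofMul (h • a.toMul)
        map_zero' := congrArg Additive.ofMul (smul_one h)
        map_add' := fun a b => congrArg Additive.ofMul (smul_mul' h a.toMul b.toMul) }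
    let ρ : H →* AddMonoid.End (Additive π.ker) :=
      { toFun := ψh
        map_one' := AddMonoidHom.ext fun a => congrArg Additive.ofMul (one_smul H a.toMul)
        map_mul' := fun h k => AddMonoidHom.ext fun a => congrArg Additive.ofMul (mul_smul h k a.toMul) }
    haveI : Finite (Additive π.ker) := Finite.of_equiv π.ker Additive.ofMul
    haveI hmod := AddCommGroup.zmodModule (n := p) (G := Additive π.ker)
      (fun a => congrArg Additive.ofMul (Subtype.ext a.toMul.2 : a.toMul ^ p = 1))
    obtain ⟨d, hd, heven⟩ := card_eq_even_pow (p := p) hp2 ρ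
      (fun a => congrArg Additive.ofMul (Subtype.ext (hinv a.toMul.1) : u • a.toMul = a.toMul⁻¹))
      (fun s hs => AddMonoidHom.ext fun a =>
        congrArg Additive.ofMul (Subtype.ext (hS s hs a.toMul.1) : s • a.toMul = a.toMul)) (hhom p)
    have hker : Nat.card π.ker = p ^ d := (Nat.card_congr (Additive.ofMul (α := π.ker))).trans hd
    -- the `p`-th powers
    letI : MulDistribMulAction H π.range :=
      { smul := fun h a => ⟨h • (a : A), by
          obtain ⟨b, hb⟩ := a.2
          exact ⟨h • b, by show (h • b) ^ p = _; rw [← smul_pow', ← hb]; rfl⟩⟩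
        one_smul := fun a => Subtype.ext (one_smul H (a : A))
        mul_smul := fun h k a => Subtype.ext (mul_smul h k (a : A))
        smul_mul := fun h a b => Subtype.ext (smul_mul' h (a : A) b)
        smul_one := fun h => Subtype.ext (smul_one h) }
    have hcard : Nat.card A = Nat.card π.range * Nat.card π.ker := by
      rw [← Subgroup.card_mul_index π.ker, Subgroup.index_ker, mul_comm]
    have hkp : p ≤ Nat.card π.ker := by
      obtain ⟨a, ha⟩ := exists_prime_orderOf_dvd_card' p hdvd
      have haker : a ∈ π.ker := by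
        show a ^ p = 1
        rw [← ha, pow_orderOf_eq_one]
      rw [← ha]
      exact Nat.le_of_dvd Nat.card_pos (Subgroup.orderOf_dvd_natCard π.ker haker)
    have hrange : Nat.card π.range ≤ n := by
      have h2 : Nat.card π.range * 2 ≤ Nat.card A := by
        rw [hcard]
        exact Nat.mul_le_mul_left _ (hp.two_le.trans hkp)
      have := Nat.card_pos (α := π.range)
      omega
    obtain ⟨c, hc⟩ := heven
    rw [hcard, hker, hc, pow_add]
    exact (ih hrange (hA.of_dvd_nat (Subgroup.card_subgroup_dvd_card _))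
      (fun a => Subtype.ext (hinv a.1)) (fun s hs a => Subtype.ext (hS s hs a.1)) hhom).mul ⟨_, rfl⟩

theorem isSquare_card_of_inverted {H : Type u} [Group H] {A : Type v} [CommGroup A] [Finite A]
    [MulDistribMulAction H A] (hA : Odd (Nat.card A)) {u : H} (hinv : ∀ a : A, u • a = a⁻¹)
    {S : Set H} (hS : ∀ s ∈ S, ∀ a : A, s • a = a)
    (hhom : ∀ (p : ℕ) [Fact p.Prime] (φ : H →* (ZMod p)ˣ), (∀ s ∈ S, φ s = 1) → φ u = 1) :
    IsSquare (Nat.card A) :=
  isSquare_card_of_inverted_aux (Nat.card A) le_rfl hA hinv hS hhom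

end OddAct

end CfsgLib.StrongCrit
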