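import Cfsg.Agent.Lib.StrongCrit.CentralTwo.Lines
import Cfsg.Agent.Lib.StrongCrit.CentralTwo.Elementary
import Cfsg.Agent.Lib.StrongCrit.CentralTwo.OddAct
import Cfsg.Agent.Lib.StrongCrit.Transfer

/-!
The end of the Suzuki case: the translation group is a Sylow 2-subgroup in which all bad involutions
lie in one coset of the members, so the transfer into it gives a contradiction.
-/

set_option autoImplicit false

namespace CfsgLib.StrongCrit.CentralTwo

open CfsgLib.Involutions CfsgLib.BenderTrans MulAction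
open scoped commutatorElement

set_option linter.unusedSectionVars false

universe u

variable {G : Type u} [Group G] {Ω : Type u} [MulAction G Ω] {Z : Set G}

/-- Conjugation by an element fixing `c` moves translation groups. -/
theorem conj_mem_shift [Finite G] [Finite Ω] (hh : Setting Ω Z) {c : Ω} {h u g : G} (hc : h • c = c)
    (hg : g ∈ shiftGroup Z c u) : h * g * h⁻¹ ∈ shiftGroup Z c (h * u * h⁻¹) := by
  refine ⟨by rw [mul_smul, mul_smul, inv_smul_eq_iff.2 hc.symm, hg.1, hc], fun a ha => ?_, ?_⟩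
  · have h1 := hg.2.1 _ (hh.conj_mem_memGroup (g := h⁻¹) (inv_smul_eq_iff.2 hc.symm) ha)
    calc a * (h * g * h⁻¹) = h * ((h⁻¹ * a * h⁻¹⁻¹) * g) * h⁻¹ := by group
      _ = h * (g * (h⁻¹ * a * h⁻¹⁻¹)) * h⁻¹ := by rw [h1.eq]
      _ = h * g * h⁻¹ * a := by group
  · rw [show ⁅h * g * h⁻¹, h * u * h⁻¹⁆ = h * ⁅g, u⁆ * h⁻¹ by
      simp only [commutatorElement_def]; group]
    exact hh.conj_mem_memGroup hc hg.2.2

namespace Base

variable {e : ℕ} [Finite G] [Finite Ω] (hB : Base Ω Z e)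
include hB

/-- Without four groups of bad involutions at two points the bad involutions at a point are
conjugate in its stabiliser. -/
theorem isConj_bad (hnf : NoFour (G := G) Ω) {u v : G} (hu : IsBad Ω u) (hv : IsBad Ω v) {c : Ω}
    (huc : u • c = c) (hvc : v • c = c) : ∃ h : G, h • c = c ∧ h * u * h⁻¹ = v := by
  have hother : ∀ {w : G}, IsBad Ω w → ∃ y, w • y = y ∧ y ≠ c := fun {w} hw => by
    obtain ⟨-, p, r, hpr, hp, hr⟩ := hw
    rcases eq_or_ne p c with rfl | hpc
    · exact ⟨r, hr, hpr.symm⟩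
    · exact ⟨p, hp, hpc⟩
  obtain ⟨y, huy, hyc⟩ := hother hu
  obtain ⟨y', hvy', hy'c⟩ := hother hv
  obtain ⟨m, hmc, hmy⟩ := hB.twoTrans c y y' hyc hy'c
  set u' := m * u * m⁻¹
  have hu' : IsBad Ω u' := isBad_conj hu m
  have hu'c : u' • c = c := by rw [mul_smul, mul_smul, inv_smul_eq_iff.2 hmc.symm, huc, hmc]
  have hu'y : u' • y' = y' := by rw [mul_smul, mul_smul, inv_smul_eq_iff.2 hmy.symm, huy, hmy]
  have hodd : Odd (orderOf (u' * v)) := by
    by_contra ho
    obtain ⟨hz2, hz1, hz3⟩ := central_involution hu'.1 hv.1 (Nat.not_odd_iff_even.1 ho)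
    set z := (u' * v) ^ (orderOf (u' * v) / 2)
    have hzS : z ∈ two G c y' := pow_mem (mul_mem (mem_two_iff.2 ⟨hu'c, hu'y⟩)
      (mem_two_iff.2 ⟨hvc, hvy'⟩)) _
    obtain ⟨hzc, hzy⟩ := mem_two_iff.1 hzS
    have hzb : IsBad Ω z := ⟨hz2, c, y', hy'c.symm, hzc, hzy⟩
    have e1 := hnf z u' hzb hu' hz1 c y' hy'c.symm hzc hzy hu'c hu'y
    have e2 := hnf z v hzb hv hz3 c y' hy'c.symm hzc hzy hvc hvy'
    rw [e1] at e2
    rw [← e2, mul_self_eq_one hu'.1, orderOf_one] at ho
    exact ho odd_one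
  obtain ⟨g, hg, hgv⟩ := conj_of_odd_order hu'.1 hv.1 hodd
  have hgc : g • c = c := mem_stabilizer_iff.1 ((Subgroup.closure_le (stabilizer G c)).2 (by
    rintro z (rfl | rfl)
    · exact hu'c
    · exact hvc) hg)
  refine ⟨g * m, by rw [mul_smul, hmc, hgc], ?_⟩
  rw [← hgv, show u' = m * u * m⁻¹ from rfl]
  group

variable (hnf : NoFour (G := G) Ω)
  (htr : ∀ u : G, IsBad Ω u → ∀ c : Ω, u • c = c → ∀ a ∈ memGroup Z c,
    ∃ g ∈ shiftGroup Z c u, ⁅g, u⁆ = a)
include hnf htr

/-- A bad involution of a translation group has the same translation group. -/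
theorem shift_eq {u v : G} (hu : IsBad Ω u) (hv : IsBad Ω v) {c : Ω} (huc : u • c = c)
    (hvT : v ∈ shiftGroup Z c u) : shiftGroup Z c v = shiftGroup Z c u := by
  have hvc : v • c = c := hvT.1
  have huT : u ∈ shiftGroup Z c u :=
    ⟨huc, fun a ha => (hB.commute_bad hu huc ha).symm, by
      rw [commutatorElement_self]; exact one_mem _⟩
  have key : ∀ {a b : G}, IsBad Ω a → a • c = c → b ∈ shiftGroup Z c a →
      shiftGroup Z c a ≤ shiftGroup Z c b := fun {a b} ha hac hb g hg =>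
    ⟨hg.1, hg.2.1, (hB.shift_elementary hnf ha hac (htr a ha c hac)).2 g hg b hb⟩
  exact le_antisymm (key hv hvc (key hu huc hvT huT)) (key hu huc hvT)

/-- The product of two bad involutions of a translation group in different cosets of the members is
not congruent to a bad involution. -/
theorem mul_not_bad {u v₁ v₂ v₃ : G} (hu : IsBad Ω u) {c : Ω} (huc : u • c = c)
    (h1 : IsBad Ω v₁) (h2 : IsBad Ω v₂) (h3 : IsBad Ω v₃) (m1 : v₁ ∈ shiftGroup Z c u)
    (m2 : v₂ ∈ shiftGroup Z c u) (m3 : v₃ ∈ shiftGroup Z c u) (hne : v₁⁻¹ * v₂ ∉ memGroup Z c) :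
    v₃⁻¹ * (v₁ * v₂) ∉ memGroup Z c := by
  intro h
  set b := v₃⁻¹ * (v₁ * v₂) with hb
  have hcm : Commute v₃ b := hB.commute_bad h3 m3.1 h
  have hsq : v₁ * v₂ * (v₁ * v₂) = 1 := by
    rw [show v₁ * v₂ = v₃ * b by rw [hb, mul_inv_cancel_left], ← pow_two, hcm.mul_pow, pow_two,
      pow_two, mul_self_eq_one h3.1, hB.setting.mul_self_memGroup hB.faith hB.case.comm h, one_mul]
  have hvv : Commute v₂ v₁ := by
    have e1 := inv_eq_of_mul_eq_one_right hsq
    rw [mul_inv_rev, inv_eq_self_of_involution h1.1, inv_eq_self_of_involution h2.1] at e1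
    exact e1
  rw [← hB.shift_eq hnf htr hu h1 huc m1] at m2
  obtain ⟨Q, hQ⟩ := hB.kernel v₁ h1 c m1.1
  obtain ⟨x, hx, hx'⟩ := hB.shift_ker_small hnf h1 m1.1 (htr v₁ h1 c m1.1) hQ m2 hvv
  rcases hx' with rfl | rfl
  · exact hB.not_mem_memGroup h2 (hQ.mem_of_sq v₂ hx (mul_self_eq_one h2.1))
  · have hcx := hQ.commute x hx
    have hx2 : x * x = 1 := by
      have e1 := mul_self_eq_one h2.1
      rwa [mul_mul_self_of_commute hcx (mul_self_eq_one h1.1)] at e1
    rw [← hcx.eq, inv_mul_cancel_left] at hne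
    exact hne (hQ.mem_of_sq x hx hx2)

/-- The translation group modulo the members has `2 ^ (2 * e + 1)` elements. -/
theorem card_shift_quot {u : G} (hu : IsBad Ω u) {c : Ω} (huc : u • c = c) :
    Nat.card (shiftGroup Z c u ⧸ (memGroup Z c).subgroupOf (shiftGroup Z c u)) =
      2 ^ (2 * e + 1) := by
  set T := shiftGroup Z c u with hT
  obtain ⟨Q, hQ⟩ := hB.kernel u hu c huc
  obtain ⟨-, p, r, hpr, hp, hr⟩ := id hu
  obtain ⟨y, huy, hyc⟩ : ∃ y, u • y = y ∧ y ≠ c := by
    rcases eq_or_ne p c with rfl | hpc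
    · exact ⟨r, hr, hpr.symm⟩
    · exact ⟨p, hp, hpc⟩
  have huT : u ∈ T := hB.lineStab_mem_shift (hB.mem_lineStab_of_bad hu huc huy) (Commute.refl u)
  have hEc : ∀ a ∈ memGroup Z c, ∀ b ∈ memGroup Z c, Commute a b := fun a ha b hb =>
    hB.setting.commute_memGroup hB.faith hB.case.comm ha hb
  let τ : T →* memGroup Z c := MonoidHom.mk' (fun g => ⟨⁅(g : G), u⁆, g.2.2.2⟩) fun g h =>
    Subtype.ext (by
      show ⁅(g : G) * h, u⁆ = ⁅(g : G), u⁆ * ⁅(h : G), u⁆
      rw [commutator_shift_mul g.2 h.2]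
      exact (hEc _ h.2.2.2 _ g.2.2.2).eq)
  have hτ : Function.Surjective τ := fun a => by
    obtain ⟨g, hg, hga⟩ := htr u hu c huc a a.2
    exact ⟨⟨g, hg⟩, Subtype.ext hga⟩
  have hET : memGroup Z c ≤ T := fun a ha => hB.kernel_mem_shift hQ (hQ.le ha)
  have hker : (fun g : τ.ker => ((g : T) : G)) '' Set.univ =
      (Q : Set G) ∪ (fun x => x * u) '' (Q : Set G) := by
    ext g
    constructor
    · rintro ⟨⟨⟨g, hg⟩, hk⟩, -, rfl⟩
      obtain ⟨x, hx, hgx⟩ := hB.shift_ker_small hnf hu huc (htr u hu c huc) hQ hg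
        (commutatorElement_eq_one_iff_commute.1 (congrArg Subtype.val (MonoidHom.mem_ker.1 hk)))
      rcases hgx with rfl | rfl
      · exact Or.inl hx
      · exact Or.inr ⟨x, hx, rfl⟩
    · have key : ∀ g ∈ T, Commute g u → g ∈ (fun g : τ.ker => ((g : T) : G)) '' Set.univ :=
        fun g hg hgu => ⟨⟨⟨g, hg⟩, MonoidHom.mem_ker.2
          (Subtype.ext (commutatorElement_eq_one_iff_commute.2 hgu))⟩, trivial, rfl⟩
      rintro (hg | ⟨x, hx, rfl⟩)
      · exact key g (hB.kernel_mem_shift hQ hg) (hQ.commute g hg).symm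
      · exact key _ (mul_mem (hB.kernel_mem_shift hQ hx) huT)
          ((hQ.commute x hx).symm.mul_left (Commute.refl u))
  have hk : Nat.card τ.ker = 2 ^ (2 * e + 1) := by
    rw [← Set.ncard_univ, ← Set.ncard_image_of_injective _
        (fun a b h => Subtype.ext (Subtype.ext h) : Function.Injective fun g : τ.ker => ((g : T) : G)),
      hker, Set.ncard_union_eq ?_ (Set.toFinite _) (Set.toFinite _),
      Set.ncard_image_of_injective _ (mul_left_injective u), ← Nat.card_coe_set_eq, pow_succ,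
      Nat.mul_comm 2 e]
    · have hc : Nat.card ((Q : Set G) : Type u) = 2 ^ (e * 2) := hQ.card
      omega
    · rw [Set.disjoint_left]
      rintro _ hx ⟨x, hx', rfl⟩
      exact ne_one_of_involution hu.1 (hB.eq_one_of_kernel_stab hyc hQ
        (by simpa using mul_mem (inv_mem hx') hx) (hB.mem_lineStab_of_bad hu huc huy))
  have h1 := Subgroup.card_eq_card_quotient_mul_card_subgroup τ.ker
  rw [Nat.card_congr (QuotientGroup.quotientKerEquivOfSurjective τ hτ).toEquiv, hk,
    Subgroup.card_eq_card_quotient_mul_card_subgroup ((memGroup Z c).subgroupOf T),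
    Nat.card_congr (Subgroup.subgroupOfEquivOfLe hET).toEquiv, hB.card_memGroup,
    Nat.mul_comm (2 ^ e)] at h1
  exact Nat.eq_of_mul_eq_mul_right (Nat.two_pow_pos e) h1

/-- All bad involutions in a translation group are congruent to `u`. -/
theorem bad_mem_coset {u : G} (hu : IsBad Ω u) {c : Ω} (huc : u • c = c)
    (hidx : Odd (shiftGroup Z c u).index) {v : G} (hv : IsBad Ω v) (hvT : v ∈ shiftGroup Z c u) :
    u⁻¹ * v ∈ memGroup Z c := by
  classical
  have hh := hB.setting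
  set T := shiftGroup Z c u with hT
  set E := (memGroup Z c).subgroupOf T with hE
  obtain ⟨hsq, hcm⟩ := hB.shift_elementary hnf hu huc (htr u hu c huc)
  have : E.Normal := ⟨fun b hb g => by
    show (g : G) * b * (g : G)⁻¹ ∈ memGroup Z c
    rw [← (g.2.2.1 (b : G) hb).eq, mul_inv_cancel_right]; exact hb⟩
  let π := QuotientGroup.mk' E
  have hπ : ∀ g : T, π g = 1 ↔ (g : G) ∈ memGroup Z c := fun g => QuotientGroup.eq_one_iff g
  have hπ2 : ∀ g h : T, π g = π h ↔ (g : G)⁻¹ * h ∈ memGroup Z c := fun g h => QuotientGroup.eq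
  let cg : CommGroup (T ⧸ E) :=
    { (inferInstance : Group (T ⧸ E)) with
      mul_comm := fun X Y => by
        obtain ⟨g, rfl⟩ := QuotientGroup.mk'_surjective E X
        obtain ⟨h, rfl⟩ := QuotientGroup.mk'_surjective E Y
        rw [← commutatorElement_eq_one_iff_mul_comm, ← map_commutatorElement, QuotientGroup.mk'_apply,
          QuotientGroup.eq_one_iff]
        exact hcm g g.2 h h.2 }
  -- the stabiliser of the translation group acting on it modulo the members
  let N : Subgroup G := stabilizer G c ⊓ Subgroup.normalizer (T : Set G)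
  have hN : ∀ {n : G}, n ∈ N → ∀ g ∈ T, n * g * n⁻¹ ∈ T := fun hn g hg =>
    (Subgroup.mem_normalizer_iff.1 hn.2 g).1 hg
  let cT : N → T →* T := fun n => MonoidHom.mk' (fun g => ⟨n * g * (n : G)⁻¹, hN n.2 g g.2⟩)
    fun g h => Subtype.ext (by
      show (n : G) * (g * h) * (n : G)⁻¹ = n * g * (n : G)⁻¹ * (n * h * (n : G)⁻¹)
      group)
  have hcE : ∀ n : N, E ≤ E.comap (cT n) := fun n g hg =>
    hh.conj_mem_memGroup (mem_stabilizer_iff.1 n.2.1) hg
  let act : N → (T ⧸ E) →* (T ⧸ E) := fun n => QuotientGroup.map E E (cT n) (hcE n)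
  have hact : ∀ (n : N) (g : T), act n (π g) = π (cT n g) := fun n g => rfl
  have act_one : ∀ X, act 1 X = X := fun X => by
    obtain ⟨g, rfl⟩ := QuotientGroup.mk'_surjective E X
    rw [hact]
    exact congrArg π (Subtype.ext (show (1 : G) * g * (1 : G)⁻¹ = g by group))
  have act_mul : ∀ m n X, act (m * n) X = act m (act n X) := fun m n X => by
    obtain ⟨g, rfl⟩ := QuotientGroup.mk'_surjective E X
    rw [hact, hact, hact]
    exact congrArg π (Subtype.ext (show (m : G) * n * g * ((m : G) * n)⁻¹ =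
      m * (n * g * (n : G)⁻¹) * (m : G)⁻¹ by group))
  let ψ : N →* MulAut (T ⧸ E) := MonoidHom.mk' (fun n =>
      { toFun := act n
        invFun := act n⁻¹
        left_inv := fun X => by rw [← act_mul, inv_mul_cancel, act_one]
        right_inv := fun X => by rw [← act_mul, mul_inv_cancel, act_one]
        map_mul' := map_mul (act n) })
    fun m n => MulEquiv.ext fun X => act_mul m n X
  have hTN : T ≤ N := le_inf (fun g hg => mem_stabilizer_iff.2 hg.1) Subgroup.le_normalizer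
  have hodd : Odd (Nat.card ψ.range) := by
    have hker : T.subgroupOf N ≤ ψ.ker := fun n hn => MonoidHom.mem_ker.2 (MulEquiv.ext fun X => by
      obtain ⟨g, rfl⟩ := QuotientGroup.mk'_surjective E X
      show act n (π g) = π g
      rw [hact, hπ2]
      have e1 : ((n : G) * g * (n : G)⁻¹)⁻¹ * g = ⁅(n : G), (g : G)⁻¹⁆ := by
        rw [commutatorElement_def]; group
      show ((n : G) * g * (n : G)⁻¹)⁻¹ * g ∈ memGroup Z c
      rw [e1]
      exact hcm n hn _ (inv_mem g.2))
    have h1 : ψ.ker.index ∣ T.index :=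
      (Subgroup.index_dvd_of_le hker).trans (Subgroup.relIndex_dvd_index_of_le hTN)
    rw [Subgroup.index_ker] at h1
    exact hidx.of_dvd_nat h1
  let act' : DistribMulAction ψ.range (Additive (T ⧸ E)) :=
    { smul := fun g X => Additive.ofMul ((g : MulAut (T ⧸ E)) X.toMul)
      one_smul := fun X => rfl
      mul_smul := fun g h X => rfl
      smul_zero := fun g => congrArg Additive.ofMul (map_one (g : MulAut (T ⧸ E)))
      smul_add := fun g X Y => congrArg Additive.ofMul (map_mul (g : MulAut (T ⧸ E)) X.toMul Y.toMul) }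
  -- `u` and the torus
  obtain ⟨Q, hQ⟩ := hB.kernel u hu c huc
  obtain ⟨-, p, r, hpr, hp, hr⟩ := id hu
  obtain ⟨y, huy, hyc⟩ : ∃ y, u • y = y ∧ y ≠ c := by
    rcases eq_or_ne p c with rfl | hpc
    · exact ⟨r, hr, hpr.symm⟩
    · exact ⟨p, hp, hpc⟩
  have huT : u ∈ T := hB.lineStab_mem_shift (hB.mem_lineStab_of_bad hu huc huy) (Commute.refl u)
  obtain ⟨J, hJ⟩ := hB.torus c y hyc
  have := hJ.cyclic
  obtain ⟨⟨j, hj⟩, hjgen⟩ := IsCyclic.exists_ofOrder_eq_natCard (α := J)
  rw [Subgroup.orderOf_mk, hJ.card] at hjgen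
  have hmN : ∀ {h : G}, h • c = c → shiftGroup Z c (h * u * h⁻¹) = T → h ∈ N := fun {h} hc hT' => by
    refine ⟨mem_stabilizer_iff.2 hc, Subgroup.mem_normalizer_fintype fun g hg => ?_⟩
    rw [← hT']
    exact conj_mem_shift hh hc hg
  have hju : Commute j u := (commute_memCent (hJ.le_memCent u hu huc huy hj)).symm
  have hjN : j ∈ N := hmN (hJ.fix j hj).1 (by rw [hju.eq, mul_inv_cancel_right])
  set τ : ψ.range := ⟨ψ ⟨j, hjN⟩, ⟨_, rfl⟩⟩ with hτ
  have hτpow : ∀ (k : ℕ) (g : T), τ ^ k • Additive.ofMul (π g) =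
      Additive.ofMul (π (cT (⟨j, hjN⟩ ^ k) g)) := fun k g => by
    have e1 : ((τ ^ k : ψ.range) : MulAut (T ⧸ E)) = ψ (⟨j, hjN⟩ ^ k) := by
      rw [hτ, map_pow]; rfl
    show Additive.ofMul (((τ ^ k : ψ.range) : MulAut (T ⧸ E)) (π g)) = _
    rw [e1]; rfl
  -- bad involutions are the orbit of `u`
  have horb : ∀ g : ψ.range, ∃ w : T, IsBad Ω (w : G) ∧
      g • Additive.ofMul (π ⟨u, huT⟩) = Additive.ofMul (π w) := by
    rintro ⟨_, n, rfl⟩
    exact ⟨cT n ⟨u, huT⟩, isBad_conj hu n, rfl⟩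
  have hmain := OddAct.fixed_of_fpf_torus (N := ψ.range) (V := Additive (T ⧸ E)) hB.three_le
    (hB.card_shift_quot hnf htr hu huc)
    (fun X => by
      obtain ⟨g, hg⟩ := QuotientGroup.mk'_surjective E X.toMul
      show X.toMul * X.toMul = 1
      rw [← hg, ← map_mul, hπ]
      exact hsq g g.2)
    hodd (u := Additive.ofMul (π ⟨u, huT⟩))
    (fun e1 => hB.not_mem_memGroup hu ((hπ _).1 e1)) (τ := τ)
    (by
      have h1 := hτpow 1 ⟨u, huT⟩
      rw [pow_one, pow_one] at h1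
      rw [h1]
      exact congrArg (Additive.ofMul ∘ π) (Subtype.ext
        (show j * u * j⁻¹ = u by rw [hju.eq, mul_inv_cancel_right])))
    (fun X => by
      obtain ⟨g, hg⟩ := QuotientGroup.mk'_surjective E X.toMul
      obtain rfl : X = Additive.ofMul (π g) := hg.symm
      rw [hτpow]
      refine congrArg (Additive.ofMul ∘ π) (Subtype.ext ?_)
      show ((⟨j, hjN⟩ : N) ^ (2 ^ e - 1) : N) * (g : G) *
        (((⟨j, hjN⟩ : N) ^ (2 ^ e - 1) : N) : G)⁻¹ = g
      rw [Subgroup.coe_pow]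
      show j ^ (2 ^ e - 1) * (g : G) * (j ^ (2 ^ e - 1))⁻¹ = g
      rw [← hjgen, pow_orderOf_eq_one, one_mul, inv_one, mul_one])
    ?_ ?_
  rotate_left
  · intro k hk X hX
    obtain ⟨g, hg⟩ := QuotientGroup.mk'_surjective E X.toMul
    obtain rfl : X = Additive.ofMul (π g) := hg.symm
    rw [hτpow] at hX
    have hX' : (j ^ k * (g : G) * (j ^ k)⁻¹)⁻¹ * g ∈ memGroup Z c :=
      (hπ2 _ _).1 (Additive.ofMul.injective hX)
    have hjk : j ^ k ∈ J := pow_mem hj k
    have hjk1 : j ^ k ≠ 1 := fun e1 => hk (hjgen ▸ orderOf_dvd_of_pow_eq_one e1)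
    have hjku : j ^ k * u * (j ^ k)⁻¹ = u := by rw [(hju.pow_left k).eq, mul_inv_cancel_right]
    set d := j ^ k with hd
    set a := (d * (g : G) * d⁻¹)⁻¹ * g with ha
    have hdg : d * (g : G) * d⁻¹ = g * a⁻¹ := by rw [ha]; group
    have hconj : d * ⁅(g : G), u⁆ * d⁻¹ = ⁅(g : G), u⁆ := by
      calc d * ⁅(g : G), u⁆ * d⁻¹ = ⁅d * (g : G) * d⁻¹, d * u * d⁻¹⁆ := by
            simp only [commutatorElement_def]; group
        _ = ⁅(g : G) * a⁻¹, u⁆ := by rw [hdg, hjku]
        _ = (g : G) * (a⁻¹ * u * a⁻¹⁻¹) * (g : G)⁻¹ * u⁻¹ := by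
            rw [commutatorElement_def]; group
        _ = ⁅(g : G), u⁆ := by
            rw [← (hB.commute_bad hu huc (inv_mem hX')).eq, mul_inv_cancel_right,
              commutatorElement_def]
    have hgu : Commute (g : G) u := by
      rcases (hh.mem_memGroup_iff hB.faith hB.case.comm).1 g.2.2.2 with h1 | h1
      · exact commutatorElement_eq_one_iff_commute.1 h1
      · exact absurd (hJ.regular d hjk _ h1 hconj) hjk1
    obtain ⟨x, hx, hgx⟩ := hB.shift_ker_small hnf hu huc (htr u hu c huc) hQ g.2 hgu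
    have hxd : x⁻¹ * (d * x * d⁻¹) ∈ memGroup Z c := by
      rcases hgx with e1 | e1
      · rw [← e1, hdg, inv_mul_cancel_left]; exact inv_mem hX'
      · have e2 : d * (g : G) * d⁻¹ = d * x * d⁻¹ * u := by
          calc d * (g : G) * d⁻¹ = d * x * d⁻¹ * (d * u * d⁻¹) := by rw [e1]; group
            _ = _ := by rw [hjku]
        have e3 : d * x * d⁻¹ = x * a⁻¹ := by
          refine mul_right_cancel (b := u) ?_
          rw [← e2, hdg, e1, mul_assoc, (hB.commute_bad hu huc (inv_mem hX')).eq, ← mul_assoc]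
        rw [e3, inv_mul_cancel_left]
        exact inv_mem hX'
    have hxE := hB.torus_free_kernel hu huc huy hQ hJ hjk hjk1 hx hxd
    rcases hgx with e1 | e1
    · exact Or.inl (congrArg Additive.ofMul ((hπ g).2 (e1 ▸ hxE)))
    · refine Or.inr (congrArg Additive.ofMul ((hπ2 _ _).2 ?_))
      show (g : G)⁻¹ * u ∈ memGroup Z c
      rw [e1, mul_inv_rev, mul_assoc, ← (hQ.commute x hx).inv_right.eq, inv_mul_cancel_left]
      exact inv_mem hxE
  · intro g h hne f hf
    obtain ⟨w₁, hw₁, e1⟩ := horb g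
    obtain ⟨w₂, hw₂, e2⟩ := horb h
    obtain ⟨w₃, hw₃, e3⟩ := horb f
    rw [e1, e2] at hne
    rw [e1, e2, e3] at hf
    refine hB.mul_not_bad hnf htr hu huc hw₁ hw₂ hw₃ w₁.2 w₂.2 w₃.2
      (fun h1 => hne (congrArg Additive.ofMul ((hπ2 _ _).2 h1))) ?_
    exact (hπ2 w₃ (w₁ * w₂)).1 ((Additive.ofMul.injective hf).trans (map_mul π w₁ w₂).symm)
  obtain ⟨h, hc, hhu⟩ := hB.isConj_bad hnf hu hv huc hvT.1
  have hhN : h ∈ N := hmN hc (by rw [hhu]; exact hB.shift_eq hnf htr hu hv huc hvT)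
  have hfix := hmain ⟨ψ ⟨h, hhN⟩, ⟨_, rfl⟩⟩
  have h1 : π (cT ⟨h, hhN⟩ ⟨u, huT⟩) = π ⟨u, huT⟩ := Additive.ofMul.injective hfix
  rw [hπ2] at h1
  have h2 : (h * u * h⁻¹)⁻¹ * u ∈ memGroup Z c := h1
  rw [hhu] at h2
  simpa using inv_mem h2

/-- The case is impossible once the translations exist and the translation groups are Sylow. -/
theorem false_of_shift
    (hsyl : ∀ u : G, IsBad Ω u → ∀ c : Ω, u • c = c → Odd (shiftGroup Z c u).index) : False := by
  have : Fact (Nat.Prime 2) := ⟨Nat.prime_two⟩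
  obtain ⟨u, hu⟩ := hB.case.exists_bad
  obtain ⟨-, c, y, hcy, huc, huy⟩ := id hu
  set T := shiftGroup Z c u with hT
  set E := (memGroup Z c).subgroupOf T with hE
  obtain ⟨-, hcm⟩ := hB.shift_elementary hnf hu huc (htr u hu c huc)
  have : E.Normal := ⟨fun b hb g => by
    show (g : G) * b * (g : G)⁻¹ ∈ memGroup Z c
    rw [← (g.2.2.1 (b : G) hb).eq, mul_inv_cancel_right]; exact hb⟩
  let cg : CommGroup (T ⧸ E) :=
    { (inferInstance : Group (T ⧸ E)) with
      mul_comm := fun X Y => by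
        obtain ⟨g, rfl⟩ := QuotientGroup.mk'_surjective E X
        obtain ⟨h, rfl⟩ := QuotientGroup.mk'_surjective E Y
        rw [← commutatorElement_eq_one_iff_mul_comm, ← map_commutatorElement, QuotientGroup.mk'_apply,
          QuotientGroup.eq_one_iff]
        exact hcm g g.2 h h.2 }
  have huT : u ∈ T := hB.lineStab_mem_shift (hB.mem_lineStab_of_bad hu huc huy) (Commute.refl u)
  have hP : IsPGroup 2 T := hB.isPGroup_shift hu huc hcy.symm huy
  have hidx : ¬ 2 ∣ T.index := fun h =>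
    (Nat.not_even_iff_odd.2 (hsyl u hu c huc)) (even_iff_two_dvd.2 h)
  refine hB.setting.false_of_sylow_hom hB.faith (hP.toSylow hidx) (A := T ⧸ E)
    (QuotientGroup.mk' E) (i := QuotientGroup.mk' E ⟨u, huT⟩)
    (fun e1 => hB.not_mem_memGroup hu ((QuotientGroup.eq_one_iff (N := E) ⟨u, huT⟩).1 e1))
    (fun x hx => ?_) hu
    (by rw [hB.case.crit.gen]; trivial)
  refine (QuotientGroup.eq (s := E)).2 ?_
  show (x : G)⁻¹ * u ∈ memGroup Z c
  simpa using inv_mem (hB.bad_mem_coset hnf htr hu huc (hsyl u hu c huc) hx x.2)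

end Base

end CfsgLib.StrongCrit.CentralTwo
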