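import Cfsg.Agent.Lib.StrongCrit.CentralTwo.Lines
import Cfsg.Agent.Lib.StrongCrit.CentralTwo.OddAct
import Cfsg.Agent.Lib.StrongCrit.Hom2
import Cfsg.Agent.Lib.StrongCrit.Semilinear
import Cfsg.Agent.Lib.StrongCrit.Orbit

/-!
The Suzuki case of the central case: every bad involution at `c` is moved to each of its multiples by
members at `c` inside the centraliser of those members, the elements of 2-power order fixing `c`
centralise them, and the translation group of a bad involution has odd index.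
-/

set_option autoImplicit false

namespace CfsgLib.StrongCrit.CentralTwo

open CfsgLib.Involutions CfsgLib.BenderTrans MulAction
open scoped commutatorElement

universe u

variable {G : Type u} [Group G] {Ω : Type u} [MulAction G Ω] {Z : Set G} {e : ℕ}

/-- The centraliser in the stabiliser of `c` of the members at `c`. -/
def cenStab (Z : Set G) (c : Ω) : Subgroup G := stabilizer G c ⊓ Subgroup.centralizer (memAt Z c)

theorem mem_cenStab {c : Ω} {g : G} :
    g ∈ cenStab Z c ↔ g • c = c ∧ ∀ a ∈ memAt Z c, Commute a g := by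
  simp only [cenStab, Subgroup.mem_inf, mem_stabilizer_iff, Subgroup.mem_centralizer_iff]
  exact Iff.rfl

theorem lineStab_le_cenStab {c y : Ω} : lineStab Z c y ≤ cenStab Z c := fun g hg =>
  mem_cenStab.2 ⟨(mem_lineStab.1 hg).1, (mem_lineStab.1 hg).2.2⟩

/-- An element centralising the members centralises the group they generate. -/
theorem commute_cenStab {c : Ω} {a g : G} (hg : g ∈ cenStab Z c) (ha : a ∈ memGroup Z c) :
    Commute a g := by
  induction ha using Subgroup.closure_induction with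
  | mem x hx => exact (mem_cenStab.1 hg).2 x hx
  | one => exact Commute.one_left g
  | mul x y _ _ hx hy => exact hx.mul_left hy
  | inv x _ hx => exact hx.inv_left

theorem mem_shiftGroup_of_cenStab {c : Ω} {u g : G} (hg : g ∈ cenStab Z c)
    (hgu : ⁅g, u⁆ ∈ memGroup Z c) : g ∈ shiftGroup Z c u :=
  ⟨(mem_cenStab.1 hg).1, fun _ ha => commute_cenStab hg ha, hgu⟩

theorem shiftGroup_le_cenStab {c : Ω} {u : G} : shiftGroup Z c u ≤ cenStab Z c := fun g hg =>
  mem_cenStab.2 ⟨hg.1, fun a ha => hg.2.1 a (Subgroup.subset_closure ha)⟩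

namespace Base

variable [Finite G] [Finite Ω] (hB : Base Ω Z e)
include hB

theorem memGroup_le_cenStab (c : Ω) : memGroup Z c ≤ cenStab Z c := by
  rw [memGroup, Subgroup.closure_le]
  intro a ha
  refine mem_cenStab.2 ⟨ha.2, fun b hb => ?_⟩
  exact hB.case.comm c b hb a ha

theorem bad_mem_cenStab {w : G} (hw : IsBad Ω w) {c : Ω} (hc : w • c = c) : w ∈ cenStab Z c :=
  mem_cenStab.2 ⟨hc, fun a ha => (hB.commute_bad hw hc (Subgroup.subset_closure ha)).symm⟩

theorem kernel_le_cenStab {w : G} {c : Ω} {Q : Subgroup G} (hQ : Kernel Ω Z w c e Q) :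
    Q ≤ cenStab Z c := fun g hg =>
  mem_cenStab.2 ⟨hQ.fix g hg, fun a ha => hQ.central a (Subgroup.subset_closure ha) g hg⟩

omit [Finite G] [Finite Ω] in
theorem conj_mem_cenStab {c : Ω} {g k : G} (hg : g • c = c) (hk : k ∈ cenStab Z c) :
    g * k * g⁻¹ ∈ cenStab Z c := by
  have hgi : g⁻¹ • c = c := inv_smul_eq_iff.2 hg.symm
  refine mem_cenStab.2 ⟨by rw [mul_smul, mul_smul, hgi, (mem_cenStab.1 hk).1, hg], fun a ha => ?_⟩
  have h1 : g⁻¹ * a * g⁻¹⁻¹ ∈ memAt Z c := hgi ▸ hB.case.crit.base.conj_memAt (g := g⁻¹) ha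
  rw [inv_inv] at h1
  have h2 := (mem_cenStab.1 hk).2 _ h1
  calc a * (g * k * g⁻¹) = g * (g⁻¹ * a * g * k) * g⁻¹ := by group
    _ = g * (k * (g⁻¹ * a * g)) * g⁻¹ := by rw [h2.eq]
    _ = g * k * g⁻¹ * a := by group

theorem exists_other {u : G} (hu : IsBad Ω u) {c : Ω} (_huc : u • c = c) :
    ∃ y : Ω, y ≠ c ∧ u • y = y := by
  obtain ⟨-, p, r, hpr, hp, hr⟩ := hu
  rcases eq_or_ne p c with rfl | hpc
  · exact ⟨r, hpr.symm, hr⟩
  · exact ⟨p, hpc, hp⟩

/-- `n - 1 = q ^ 3 (q ^ 2 - q + 1)`. -/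
theorem card_sub_one :
    Nat.card Ω - 1 = 2 ^ (e * 3) * ((2 ^ e - 1) * 2 ^ e + 1) := by
  have h := hB.case.card_omega
  obtain ⟨r, hr⟩ := Nat.exists_eq_add_of_le (show 1 ≤ 2 ^ e from Nat.one_le_two_pow)
  rw [hr, Nat.add_sub_cancel_left, pow_mul, hr] at h
  rw [h, hr, Nat.add_sub_cancel_left, pow_mul, hr]
  apply Nat.sub_eq_of_eq_add
  ring

variable (hnf : NoFour (G := G) Ω)
include hnf

/-- Two bad involutions at the same two points are conjugate in the line stabiliser. -/
theorem conj_of_bad {v w : G} (hv : IsBad Ω v) (hw : IsBad Ω w) {c z : Ω} (hzc : z ≠ c)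
    (hvc : v • c = c) (hvz : v • z = z) (hwc : w • c = c) (hwz : w • z = z) :
    ∃ p ∈ lineStab Z c z, p * v * p⁻¹ = w := by
  have hvP := hB.mem_lineStab_of_bad hv hvc hvz
  have hwP := hB.mem_lineStab_of_bad hw hwc hwz
  rcases Nat.even_or_odd (orderOf (v * w)) with he | ho
  · have hv2 := mul_self_eq_one hv.1
    have hw2 := mul_self_eq_one hw.1
    set d := v * w
    set i := d ^ (orderOf d / 2) with hi
    obtain ⟨j, hj⟩ := he
    have hjpos : 0 < orderOf d := orderOf_pos d
    have hi1 : i ≠ 1 := fun e0 => by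
      have h1 := Nat.le_of_dvd (by omega) (orderOf_dvd_of_pow_eq_one e0)
      omega
    have hii : i * i = 1 := by
      rw [hi, ← pow_add, show orderOf d / 2 + orderOf d / 2 = orderOf d by omega, pow_orderOf_eq_one]
    have hiP : i ∈ lineStab Z c z := pow_mem (mul_mem hvP hwP) _
    have hbad : IsBad Ω i :=
      ⟨orderOf_eq_two_iff_mul.2 ⟨hi1, hii⟩, c, z, hzc.symm, (mem_lineStab.1 hiP).1,
        (mem_lineStab.1 hiP).2.1⟩
    have hiinv : i⁻¹ = i := inv_eq_of_mul_eq_one_right hii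
    have hconj : v * d * v⁻¹ = d⁻¹ := by
      simp only [d, mul_inv_rev, inv_eq_of_mul_eq_one_right hv2, inv_eq_of_mul_eq_one_right hw2]
      rw [← mul_assoc v v, hv2, one_mul]
    have hvi : Commute v i := by
      have h1 : v * i * v⁻¹ = i := by
        rw [hi, ← conj_pow, hconj, inv_pow, ← hi, hiinv]
      exact mul_inv_eq_iff_eq_mul.1 h1
    have hwi : Commute w i := by
      have h1 : w = v * d := by simp only [d]; rw [← mul_assoc, hv2, one_mul]
      rw [h1]
      exact hvi.mul_left ((Commute.refl d).pow_right _)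
    have e1 := hnf v i hv hbad hvi c z hzc.symm hvc hvz (mem_lineStab.1 hiP).1 (mem_lineStab.1 hiP).2.1
    have e2 := hnf w i hw hbad hwi c z hzc.symm hwc hwz (mem_lineStab.1 hiP).1 (mem_lineStab.1 hiP).2.1
    exact ⟨1, one_mem _, by rw [one_mul, inv_one, mul_one, e1, e2]⟩
  · obtain ⟨p, hp, hpv⟩ := conj_of_odd_order hv.1 hw.1 ho
    refine ⟨p, ?_, hpv⟩
    exact (Subgroup.closure_le (K := lineStab Z c z)).2
      (Set.insert_subset hvP (Set.singleton_subset_iff.2 hwP)) hp

/-- A conjugate of `u` meeting the line of `u * a` gives a translation by `a`. -/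
theorem translation_of_meet {u : G} (hu : IsBad Ω u) {c : Ω} (huc : u • c = c) {g a : G}
    (hg : g ∈ cenStab Z c) (ha : a ∈ memGroup Z c) (hbad : IsBad Ω (u * a)) {z : Ω} (hzc : z ≠ c)
    (h1 : (g * u * g⁻¹) • z = z) (h2 : (u * a) • z = z) :
    ∃ k ∈ shiftGroup Z c u, ⁅k, u⁆ = a := by
  have hgc := (mem_cenStab.1 hg).1
  obtain ⟨p, hp, hpg⟩ := hB.conj_of_bad hnf (isBad_conj hu g) hbad hzc
    (by rw [mul_smul, mul_smul, inv_smul_eq_iff.2 hgc.symm, huc, hgc]) h1
    (by rw [mul_smul, (mem_cenStab.1 (hB.memGroup_le_cenStab c ha)).1, huc]) h2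
  have hk : p * g ∈ cenStab Z c := mul_mem (lineStab_le_cenStab hp) hg
  have hcomm : ⁅p * g, u⁆ = a := by
    rw [commutatorElement_def, show p * g * u * (p * g)⁻¹ = p * (g * u * g⁻¹) * p⁻¹ by group, hpg,
      (hB.commute_bad hu huc ha).eq, mul_inv_cancel_right]
  exact ⟨p * g, mem_shiftGroup_of_cenStab hk (hcomm.symm ▸ ha), hcomm⟩

omit hnf in
/-- One nontrivial translation gives all of them. -/
theorem translations_of_one {u : G} (hu : IsBad Ω u) {c y : Ω} (hyc : y ≠ c) (huc : u • c = c)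
    (huy : u • y = y) (h : ∃ a ∈ memAt Z c, ∃ g ∈ shiftGroup Z c u, ⁅g, u⁆ = a) :
    ∀ a ∈ memGroup Z c, ∃ g ∈ shiftGroup Z c u, ⁅g, u⁆ = a := by
  intro b hb
  rcases (hB.setting.mem_memGroup_iff hB.faith hB.case.comm).1 hb with rfl | hbm
  · exact ⟨1, one_mem _, commutatorElement_one_left u⟩
  obtain ⟨a, ha, g, hg, rfl⟩ := h
  obtain ⟨J, hJ⟩ := hB.torus c y hyc
  obtain ⟨j, hj, hjb⟩ := hJ.trans _ ha b hbm
  have hju := hJ.centralised j hj u (hB.mem_lineStab_of_bad hu huc huy)
  have hcomm : ⁅j * g * j⁻¹, u⁆ = b := by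
    rw [← hjb]
    have h1 : j⁻¹ * u * j = u := by rw [mul_assoc, ← hju.eq, inv_mul_cancel_left]
    have h2 : j⁻¹ * u⁻¹ * j = u⁻¹ := by
      rw [mul_assoc, ← hju.inv_right.eq, inv_mul_cancel_left]
    calc ⁅j * g * j⁻¹, u⁆ = j * g * (j⁻¹ * u * j) * g⁻¹ * (j⁻¹ * u⁻¹ * j) * j⁻¹ := by
          rw [commutatorElement_def]; group
      _ = j * ⁅g, u⁆ * j⁻¹ := by rw [h1, h2, commutatorElement_def]; group
  exact ⟨j * g * j⁻¹, mem_shiftGroup_of_cenStab
    (hB.conj_mem_cenStab (hJ.fix j hj).1 (shiftGroup_le_cenStab hg)) (hcomm.symm ▸ hb), hcomm⟩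

omit hnf in
/-- An element of odd prime order in a line stabiliser makes the centraliser of the members
transitive on the other points. -/
theorem smul_eq_of_prime {u : G} (hu : IsBad Ω u) {c y : Ω} (hyc : y ≠ c) (huc : u • c = c)
    (huy : u • y = y) {x : G} (hx : x ∈ lineStab Z c y) {p : ℕ} (hp : p.Prime) (hp2 : p ≠ 2)
    (hord : orderOf x = p) {z : Ω} (hzc : z ≠ c) : ∃ g ∈ cenStab Z c, g • y = z := by
  classical
  obtain ⟨Q, hQ⟩ := hB.kernel u hu c huc
  set K := cenStab Z c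
  have hxK : x ∈ K := lineStab_le_cenStab hx
  have hx1 : x ≠ 1 := fun e0 => hp.one_lt.ne (by rw [← hord, e0, orderOf_one])
  set F : Set Ω := fixedBy Ω u \ {c} with hF
  have hFcard : F.ncard = 2 ^ (e * 2) := by
    rw [hF, Set.ncard_sdiff_singleton_of_mem (show c ∈ fixedBy Ω u from huc), hB.card_fix hu,
      Nat.add_sub_cancel]
  have hxfix : ∀ v ∈ F, x • v = v := fun v hv => hB.stab_fix u hu c y hyc huc huy x hx v hv.1
  -- the orbits of `x` outside the line have `p` points
  have hlong : ∀ v : Ω, v ≠ c → v ∉ F → p ∣ (orbit (Subgroup.zpowers x) v).ncard := by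
    intro v hvc hvF
    have h1 : (orbit (Subgroup.zpowers x) v).ncard ∣ p := by
      rw [← hord, ← Nat.card_zpowers, ← index_stabilizer]
      exact Subgroup.index_dvd_card _
    rcases (Nat.dvd_prime hp).1 h1 with h2 | h2
    · obtain ⟨w, hw⟩ := Set.ncard_eq_one.1 h2
      have hfix : x • v = v := by
        have ha : (⟨x, Subgroup.mem_zpowers x⟩ : Subgroup.zpowers x) • v ∈ ({w} : Set Ω) :=
          hw ▸ ⟨_, rfl⟩
        have hb : v ∈ ({w} : Set Ω) := hw ▸ mem_orbit_self v
        exact (Set.mem_singleton_iff.1 ha).trans (Set.mem_singleton_iff.1 hb).symm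
      exact absurd (hB.semiregular u hu c y hyc huc huy x hx v (fun e0 => hvF ⟨e0, hvc⟩) hfix) hx1
    · rw [h2]
  have hne : ∀ g ∈ K, ∀ v : Ω, v ≠ c → g • v ≠ c := fun g hg v hv e0 =>
    hv (MulAction.injective g (e0.trans (mem_cenStab.1 hg).1.symm))
  have hFy : F ⊆ orbit K y := by
    intro v hv
    obtain ⟨g, hg, hgv⟩ := hQ.trans y v huy hv.1 hyc hv.2
    exact ⟨⟨g, hB.kernel_le_cenStab hQ hg⟩, hgv⟩
  have hinv : ∀ (v : Ω) (g : Subgroup.zpowers x) (t : Ω), t ∈ orbit K v → g • t ∈ orbit K v := by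
    rintro v g t ⟨k, rfl⟩
    exact ⟨⟨(g : G) * k, mul_mem ((Subgroup.zpowers_le.2 hxK) g.2) k.2⟩,
      mul_smul (g : G) (k : G) v⟩
  -- the orbit of `y` has order congruent to that of the line
  have hy : p ∣ (orbit K y \ F).ncard := by
    refine dvd_ncard_of_orbits (H := Subgroup.zpowers x) (orbit K y \ F) (fun g t ht => ⟨hinv y g t ht.1, fun hgt => ht.2 ?_⟩) fun t ht =>
      hlong t ?_ ht.2
    · obtain ⟨n, hn⟩ := Subgroup.mem_zpowers_iff.1 g.2
      have hst : (g : G) ∈ stabilizer G ((g : G) • t) := by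
        rw [← hn]
        refine zpow_mem (mem_stabilizer_iff.2 (hxfix _ ?_)) n
        rw [hn]; exact hgt
      have h2 : (g : G) • (g : G) • t = (g : G) • t := hst
      have h3 : (g : G) • t = t := MulAction.injective (g : G) h2
      exact h3 ▸ hgt
    · obtain ⟨k, hk⟩ := ht.1
      exact hk ▸ hne k k.2 y hyc
  by_contra hno
  push Not at hno
  obtain ⟨h, hhc, hhy⟩ := hB.twoTrans c y z hyc hzc
  have himg : orbit K z = (fun v => h • v) '' orbit K y := by
    ext v
    constructor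
    · rintro ⟨k, rfl⟩
      refine ⟨h⁻¹ • (k : G) • z, ⟨⟨h⁻¹ * k * h, ?_⟩, ?_⟩, smul_inv_smul _ _⟩
      · simpa using hB.conj_mem_cenStab (g := h⁻¹) (inv_smul_eq_iff.2 hhc.symm) k.2
      · show (h⁻¹ * (k : G) * h) • y = h⁻¹ • (k : G) • z
        rw [mul_smul, mul_smul, hhy]
    · rintro ⟨_, ⟨k, rfl⟩, rfl⟩
      refine ⟨⟨h * k * h⁻¹, hB.conj_mem_cenStab hhc k.2⟩, ?_⟩
      show (h * (k : G) * h⁻¹) • z = h • (k : G) • y
      rw [mul_smul, mul_smul, inv_smul_eq_iff.2 hhy.symm]
  have hz : p ∣ (orbit K z).ncard := by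
    refine dvd_ncard_of_orbits (H := Subgroup.zpowers x) (orbit K z) (fun g t ht => hinv z g t ht) fun t ht => hlong t ?_ ?_
    · obtain ⟨k, hk⟩ := ht
      exact hk ▸ hne k k.2 z hzc
    · intro htF
      obtain ⟨k, hk⟩ := ht
      obtain ⟨l, hl⟩ := hFy htF
      refine hno ((k : G)⁻¹ * l) (mul_mem (inv_mem k.2) l.2) ?_
      rw [mul_smul, show (l : G) • y = t from hl, inv_smul_eq_iff]
      exact hk.symm
  rw [himg, Set.ncard_image_of_injective _ (MulAction.injective h)] at hz
  have hsum := Set.ncard_sdiff_add_ncard_of_subset hFy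
  rw [← hsum, Nat.dvd_add_right hy, hFcard] at hz
  exact hp2 ((Nat.prime_dvd_prime_iff_eq hp Nat.prime_two).1 (hp.dvd_of_dvd_pow hz))

/-- Without translations a line stabiliser that is a 2-group has at most four elements and centralises
`u`. -/
theorem stab_small {u : G} (hu : IsBad Ω u) {c y : Ω} (hyc : y ≠ c) (huc : u • c = c)
    (huy : u • y = y) (hP : IsPGroup 2 (lineStab Z c y)) :
    (∀ g ∈ lineStab Z c y, Commute g u) ∧ (∀ g ∈ lineStab Z c y, g * g = 1 → g = 1 ∨ g = u) ∧
      ∀ g ∈ lineStab Z c y, ∀ h ∈ lineStab Z c y, Commute g h := by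
  have hPy : lineStab Z c y ≤ stabilizer G y := fun g hg => (mem_lineStab.1 hg).2.1
  have hPc : lineStab Z c y ≤ stabilizer G c := fun g hg => (mem_lineStab.1 hg).1
  have huP := hB.mem_lineStab_of_bad hu huc huy
  have hne : lineStab Z c y ≠ ⊥ := fun e0 =>
    ne_one_of_involution hu.1 (Subgroup.mem_bot.1 (e0 ▸ huP))
  obtain ⟨w, -, hw, hwc, hwy, hwcomm⟩ := exists_bad_central hP hne hyc hPy hPc
  have hwu := hnf u w hu hw (hwcomm u huP) c y hyc.symm huc huy hwc hwy
  rw [← hwu] at hwcomm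
  have hinvol : ∀ g ∈ lineStab Z c y, g * g = 1 → g = 1 ∨ g = u := fun g hg hgg => by
    refine or_iff_not_imp_left.2 fun hg1 => ?_
    exact hnf g u ⟨orderOf_eq_two_iff_mul.2 ⟨hg1, hgg⟩, c, y, hyc.symm, hPc hg, hPy hg⟩ hu
      (hwcomm g hg) c y hyc.symm (hPc hg) (hPy hg) huc huy
  refine ⟨hwcomm, hinvol, ?_⟩
  obtain ⟨a, ha⟩ := hB.setting.exists_memAt c
  obtain ⟨hbad, hbc, -, z, hzc, hz, -⟩ := hB.fixed_mul hu huc ha
  obtain ⟨Q', hQ'⟩ := hB.kernel _ hbad c hbc
  obtain ⟨f, hf, -, -⟩ := hB.exists_cenHom hu huc hyc huy ha hzc hz hQ'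
  have hmem : ∀ g ∈ lineStab Z c y, g ∈ lineStab Z c y ⊓ Subgroup.centralizer {u} := fun g hg =>
    ⟨hg, Subgroup.mem_centralizer_singleton_iff.2 (hwcomm g hg).eq⟩
  -- elements with the same square differ by a power of `u`
  have hsq : ∀ g h : ↥(lineStab Z c y ⊓ Subgroup.centralizer {u}), g * g = h * h → (g⁻¹ * h) * (g⁻¹ * h) = 1 := by
    intro g h e0
    have h1 := hQ'.sq_inj (f g) (f g).2 (f h) (f h).2 (by
      rw [← Subgroup.coe_mul, ← map_mul, e0, map_mul, Subgroup.coe_mul])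
    have h2 := hB.setting.mul_self_memGroup hB.faith hB.case.comm h1
    refine hf (Subtype.ext ?_)
    rw [map_mul, map_mul, map_inv, map_one]
    exact h2
  have h4 : ∀ g : ↥(lineStab Z c y ⊓ Subgroup.centralizer {u}), g * g * (g * g) = 1 := by
    intro g
    refine hf (Subtype.ext ?_)
    rw [map_mul, map_mul, map_one]
    exact hB.setting.mul_self_memGroup hB.faith hB.case.comm (hQ'.sq _ (f g).2)
  intro g hg h hh
  have hcase : ∀ k ∈ lineStab Z c y, k * k = 1 ∨ k * k = u := fun k hk => by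
    refine hinvol _ (mul_mem hk hk) ?_
    exact congrArg Subtype.val (h4 ⟨k, hmem k hk⟩)
  have hu1 : ∀ k ∈ lineStab Z c y, k = 1 ∨ k = u → ∀ l ∈ lineStab Z c y, Commute k l := by
    rintro k - (rfl | rfl) l hl
    · exact Commute.one_left l
    · exact (hwcomm l hl).symm
  rcases hcase g hg with hgg | hgg
  · exact hu1 g hg (hinvol g hg hgg) h hh
  rcases hcase h hh with hhh | hhh
  · exact (hu1 h hh (hinvol h hh hhh) g hg).symm
  have h3 : (g⁻¹ * h) * (g⁻¹ * h) = 1 :=
    congrArg Subtype.val (hsq ⟨g, hmem g hg⟩ ⟨h, hmem h hh⟩ (Subtype.ext (hgg.trans hhh.symm)))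
  have h5 : h = g * (g⁻¹ * h) := by rw [mul_inv_cancel_left]
  rw [h5]
  exact (Commute.refl g).mul_right (hu1 _ (mul_mem (inv_mem hg) hh)
    (hinvol _ (mul_mem (inv_mem hg) hh) h3) g hg).symm

/-- Without translations and with 2-groups as line stabilisers the number `q ^ 2 - q + 1` would be a
square. -/
theorem false_of_no_translation {u : G} (hu : IsBad Ω u) {c y : Ω} (hyc : y ≠ c) (huc : u • c = c)
    (huy : u • y = y) (hP : IsPGroup 2 (lineStab Z c y))
    (hno : ∀ g ∈ shiftGroup Z c u, Commute g u) : False := by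
  classical
  have : Fact (Nat.Prime 2) := ⟨Nat.prime_two⟩
  obtain ⟨hPu, hPinv, hPab⟩ := hB.stab_small hnf hu hyc huc huy hP
  obtain ⟨Q, hQ⟩ := hB.kernel u hu c huc
  have huP := hB.mem_lineStab_of_bad hu huc huy
  set T := shiftGroup Z c u with hTdef
  set E := memGroup Z c with hEdef
  have hEK : E ≤ cenStab Z c := hB.memGroup_le_cenStab c
  have hET : E ≤ T := fun a ha => mem_shiftGroup_of_cenStab (hEK ha) (by
    rw [commutatorElement_eq_one_iff_commute.2 (hB.commute_bad hu huc ha).symm]; exact one_mem _)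
  -- the translation group is the product of kernel and line stabiliser
  have hdec : ∀ g ∈ T, ∃ x ∈ Q, ∃ p ∈ lineStab Z c y, g = x * p := by
    intro g hg
    refine hB.decomp u hu c y hyc huc huy Q hQ g hg.1 (fun a ha => hg.2.1 a (Subgroup.subset_closure ha)) ?_
    rw [smul_smul, ← (hno g hg).eq, mul_smul, huy]
  have hPQ : ∀ x ∈ Q, ∀ p ∈ lineStab Z c y, Commute x p := fun x hx p hp =>
    (hB.commute_stab_kernel hu hyc huc huy hQ hp hx).symm
  have hTcomm : ∀ g ∈ T, ∀ h ∈ T, ⁅g, h⁆ ∈ E := by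
    intro g hg h hh
    obtain ⟨x, hx, p, hp, rfl⟩ := hdec g hg
    obtain ⟨x', hx', p', hp', rfl⟩ := hdec h hh
    have e1 : p * p' * p⁻¹ * p'⁻¹ = 1 := commutatorElement_eq_one_iff_commute.2 (hPab p hp p' hp')
    have key : ⁅x * p, x' * p'⁆ = ⁅x, x'⁆ := by
      have c1 := hPQ x' hx' p hp
      have c2 := hPQ x hx p' hp'
      have c3 := hPQ x hx p hp
      have c4 := hPQ x' hx' p' hp'
      calc ⁅x * p, x' * p'⁆ = x * (p * x') * p' * p⁻¹ * x⁻¹ * p'⁻¹ * x'⁻¹ := by
            rw [commutatorElement_def]; group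
        _ = x * x' * (p * p' * p⁻¹) * (x⁻¹ * p'⁻¹) * x'⁻¹ := by rw [← c1.eq]; group
        _ = x * x' * (p * p' * p⁻¹) * (p'⁻¹ * x⁻¹) * x'⁻¹ := by rw [c2.inv_inv.eq]
        _ = x * x' * (p * p' * p⁻¹ * p'⁻¹) * x⁻¹ * x'⁻¹ := by group
        _ = ⁅x, x'⁆ := by rw [e1, commutatorElement_def]; group
    rw [key]
    exact hQ.comm x hx x' hx'
  -- the bad involutions of the translation group
  have hTbad : ∀ w ∈ T, IsBad Ω w → ∃ a ∈ E, w = u * a := by
    intro w hw hwbad
    obtain ⟨x, hx, p, hp, rfl⟩ := hdec w hw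
    have h2 : x * x * (p * p) = 1 := by
      rw [← mul_self_eq_one hwbad.1]
      calc x * x * (p * p) = x * (x * p) * p := by group
        _ = x * (p * x) * p := by rw [(hPQ x hx p hp).eq]
        _ = x * p * (x * p) := by group
    obtain ⟨hxx, hpp⟩ := hB.decomp_unique hyc hQ (mul_mem hx hx) (one_mem Q) (mul_mem hp hp)
      (one_mem _) (h2.trans (mul_one 1).symm)
    have hxE := hQ.mem_of_sq x hx hxx
    rcases hPinv p hp hpp with rfl | rfl
    · rw [mul_one] at hwbad
      exact absurd hxE (hB.not_mem_memGroup hwbad)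
    · exact ⟨x, hxE, (hB.commute_bad hu huc hxE).eq.symm⟩
  set K := cenStab Z c with hKdef
  have hTK : T ≤ K := shiftGroup_le_cenStab
  set T0 : Subgroup K := T.subgroupOf K with hT0
  set E0 : Subgroup K := E.subgroupOf K with hE0
  have hE0T0 : E0 ≤ T0 := fun k hk => hET hk
  have hT2 : IsPGroup 2 T0 :=
    (hB.isPGroup_shift hu huc hyc huy).of_equiv (Subgroup.subgroupOfEquivOfLe hTK).symm
  -- the translation group is its own normaliser
  have hnorm : ∀ k : K, k ∈ Subgroup.normalizer (T0 : Set K) → k ∈ T0 := by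
    intro k hk
    have h1 : k * ⟨u, hB.bad_mem_cenStab hu huc⟩ * k⁻¹ ∈ T0 :=
      (Subgroup.mem_normalizer_iff.1 hk _).1 (show u ∈ T from mem_shiftGroup_of_cenStab
        (hB.bad_mem_cenStab hu huc) (by rw [commutatorElement_self]; exact one_mem _))
    obtain ⟨a, ha, hka⟩ := hTbad _ h1 (isBad_conj hu (k : G))
    refine mem_shiftGroup_of_cenStab k.2 ?_
    show (k : G) * u * (k : G)⁻¹ * u⁻¹ ∈ E
    have : (k : G) * u * (k : G)⁻¹ = u * a := hka
    rw [this, (hB.commute_bad hu huc ha).eq, mul_inv_cancel_right]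
    exact ha
  obtain ⟨n, hn⟩ := hT2.exists_card_eq
  have hidx : ¬ 2 ∣ T0.index := by
    intro h2
    have h1 : 2 ^ (n + 1) ∣ Nat.card K := by
      rw [← Subgroup.card_mul_index T0, hn, pow_succ]; exact mul_dvd_mul_left _ h2
    have h3 := Sylow.prime_pow_dvd_card_normalizer h1 hn
    have h4 : Subgroup.normalizer (T0 : Set K) = T0 :=
      le_antisymm (fun k hk => hnorm k hk) Subgroup.le_normalizer
    rw [h4, hn] at h3
    exact absurd (Nat.le_of_dvd (by positivity) h3) (by rw [pow_succ]; have := Nat.one_le_two_pow (n := n); omega)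
  have hodd : Odd T0.index := Nat.not_even_iff_odd.1 fun he => hidx (even_iff_two_dvd.1 he)
  let S0 : Sylow 2 K := hT2.toSylow hidx
  -- the quotient by the members
  have hEN : E0.Normal := ⟨fun a ha k => by
    have h1 : (k : G) * a * (k : G)⁻¹ = a := by
      have h2 : Commute (a : G) (k : G) := commute_cenStab k.2 ha
      rw [← h2.eq, mul_inv_cancel_right]
    show (k : G) * a * (k : G)⁻¹ ∈ E
    rw [h1]; exact ha⟩
  let mk := QuotientGroup.mk' E0
  have hsurj : Function.Surjective mk := QuotientGroup.mk'_surjective E0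
  let Sb : Sylow 2 (K ⧸ E0) := S0.mapSurjective hsurj
  have hSb : (Sb : Subgroup (K ⧸ E0)) = T0.map mk := rfl
  have hback : ∀ k : K, mk k ∈ (Sb : Subgroup (K ⧸ E0)) ↔ k ∈ T0 := by
    intro k
    rw [hSb]
    refine ⟨?_, fun hk => ⟨k, hk, rfl⟩⟩
    rintro ⟨t, ht, htk⟩
    have h1 : t⁻¹ * k ∈ E0 := QuotientGroup.eq.1 htk
    have h2 := mul_mem ht (hE0T0 h1)
    rwa [mul_inv_cancel_left] at h2
  have hcen : Subgroup.normalizer ((Sb : Subgroup (K ⧸ E0)) : Set (K ⧸ E0)) ≤
      Subgroup.centralizer ((Sb : Subgroup (K ⧸ E0)) : Set (K ⧸ E0)) := by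
    intro q hq
    obtain ⟨k, rfl⟩ := hsurj q
    have hk : k ∈ T0 := by
      refine hnorm k (Subgroup.mem_normalizer_iff.2 fun t => ?_)
      rw [← hback, ← hback, map_mul, map_mul, map_inv]
      exact Subgroup.mem_normalizer_iff.1 hq (mk t)
    refine Subgroup.mem_centralizer_iff.2 fun q' hq' => ?_
    obtain ⟨t, rfl⟩ := hsurj q'
    have ht : t ∈ T0 := (hback t).1 hq'
    rw [← map_mul, ← map_mul]
    refine QuotientGroup.eq.2 ?_
    show ((t : G) * k)⁻¹ * ((k : G) * t) ∈ E
    have h1 := hTcomm (k : G)⁻¹ (inv_mem hk) (t : G)⁻¹ (inv_mem ht)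
    rw [commutatorElement_def, inv_inv, inv_inv] at h1
    rw [mul_inv_rev]
    simpa [mul_assoc] using h1
  set τ := MonoidHom.transferSylow Sb hcen
  set N0 := τ.ker with hN0
  have hcompl := MonoidHom.ker_transferSylow_isComplement' Sb hcen
  have hidxS : (Sb : Subgroup (K ⧸ E0)).index = T0.index := by
    rw [hSb, Subgroup.index_map_eq (H := T0) hsurj (by rw [QuotientGroup.ker_mk']; exact hE0T0)]
  have hN0card : Nat.card N0 = T0.index := hcompl.index_eq_card.symm.trans hidxS
  have hN0odd : Odd (Nat.card N0) := hN0card.symm ▸ hodd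
  have hoddmem : ∀ q : K ⧸ E0, Odd (orderOf q) → q ∈ N0 := by
    intro q hq
    obtain ⟨i, hi⟩ := Sb.isPGroup' (τ q)
    rw [hN0, MonoidHom.mem_ker, ← orderOf_eq_one_iff]
    refine Nat.dvd_one.1 ?_
    rw [← (Nat.Coprime.pow_right i (Nat.coprime_two_right.2 hq) :
      Nat.Coprime (orderOf q) (2 ^ i)).gcd_eq_one]
    exact Nat.dvd_gcd (orderOf_map_dvd τ q) (orderOf_dvd_of_pow_eq_one hi)
  -- the stabiliser of `c` acts on the quotient
  let φ : stabilizer G c → K →* K := fun g =>
    { toFun := fun k => ⟨(g : G) * k * (g : G)⁻¹, hB.conj_mem_cenStab g.2 k.2⟩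
      map_one' := Subtype.ext (by show (g : G) * 1 * (g : G)⁻¹ = 1; group)
      map_mul' := fun k l => Subtype.ext (by
        show (g : G) * ((k : G) * l) * (g : G)⁻¹ =
          (g : G) * k * (g : G)⁻¹ * ((g : G) * l * (g : G)⁻¹)
        group) }
  have hφE : ∀ g : stabilizer G c, E0 ≤ E0.comap (φ g) := fun g a ha =>
    hB.setting.conj_mem_memGroup g.2 ha
  let act : stabilizer G c → (K ⧸ E0) →* (K ⧸ E0) := fun g => QuotientGroup.map E0 E0 (φ g) (hφE g)
  have hact1 : ∀ q, act 1 q = q := by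
    intro q; obtain ⟨k, rfl⟩ := hsurj q
    refine congrArg mk (Subtype.ext ?_)
    show (1 : G) * k * (1 : G)⁻¹ = k
    group
  have hactmul : ∀ g h q, act (g * h) q = act g (act h q) := by
    intro g h q; obtain ⟨k, rfl⟩ := hsurj q
    refine congrArg mk (Subtype.ext ?_)
    show (g : G) * h * k * ((g : G) * h)⁻¹ = g * (h * k * (h : G)⁻¹) * (g : G)⁻¹
    group
  have hactN : ∀ g q, q ∈ N0 → act g q ∈ N0 := fun g q hq => hoddmem _ <|
    (hN0odd.of_dvd_nat (Subgroup.orderOf_dvd_natCard N0 hq)).of_dvd_nat (orderOf_map_dvd _ q)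
  -- `u` fixes nothing in the complement, so inverts it
  let uH : stabilizer G c := ⟨u, huc⟩
  let α : N0 →* N0 := MonoidHom.mk' (fun q => ⟨act uH q, hactN uH q q.2⟩) fun a b =>
    Subtype.ext (map_mul (act uH) (a : K ⧸ E0) b)
  have hfpf : MonoidHom.FixedPointFree α := by
    rintro ⟨q, hq⟩ hfix
    refine Subtype.ext ?_
    obtain ⟨k, rfl⟩ := hsurj q
    have h1 : mk (φ uH k) = mk k := congrArg Subtype.val hfix
    have h2 : (φ uH k)⁻¹ * k ∈ E0 := QuotientGroup.eq.1 h1
    have h3 : ((u * (k : G) * u⁻¹)⁻¹ * k : G) ∈ E := h2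
    have hk : k ∈ T0 := by
      refine mem_shiftGroup_of_cenStab k.2 ?_
      have h6 : (k : G) * ((u * (k : G) * u⁻¹)⁻¹ * k) * (k : G)⁻¹ =
          (u * (k : G) * u⁻¹)⁻¹ * k := by
        rw [← (commute_cenStab k.2 h3).eq, mul_inv_cancel_right]
      show ⁅(k : G), u⁆ ∈ E
      rw [show ⁅(k : G), u⁆ = (k : G) * ((u * (k : G) * u⁻¹)⁻¹ * k) * (k : G)⁻¹ by
        rw [commutatorElement_def]; group, h6]
      exact h3
    exact Subgroup.disjoint_def.1 hcompl.disjoint hq ((hback k).2 hk)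
  have hinvol : Function.Involutive α := fun q => Subtype.ext (by
    show act uH (act uH q) = q
    rw [← hactmul, show uH * uH = 1 from Subtype.ext (mul_self_eq_one hu.1), hact1])
  letI : CommGroup N0 :=
    { (inferInstance : Group N0) with mul_comm := fun a b => hfpf.commute_all_of_involutive hinvol a b }
  letI : MulDistribMulAction (stabilizer G c) N0 :=
    { smul := fun g q => ⟨act g q, hactN g q q.2⟩
      one_smul := fun q => Subtype.ext (hact1 q)
      mul_smul := fun g h q => Subtype.ext (hactmul g h q)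
      smul_mul := fun g a b => Subtype.ext (map_mul (act g) (a : K ⧸ E0) b)
      smul_one := fun g => Subtype.ext (map_one (act g)) }
  have hsquare : IsSquare (Nat.card N0) := by
    refine OddAct.isSquare_card_of_inverted (H := stabilizer G c) (u := uH) hN0odd
      (fun a => congrFun (hfpf.coe_eq_inv_of_involutive hinvol) a)
      (S := {g | (g : G) ∈ memAt Z c}) ?_ ?_
    · rintro g hg ⟨q, hq⟩
      refine Subtype.ext ?_
      obtain ⟨k, rfl⟩ := hsurj q
      refine congrArg mk (Subtype.ext ?_)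
      show (g : G) * k * (g : G)⁻¹ = k
      rw [((mem_cenStab.1 k.2).2 _ hg).eq, mul_inv_cancel_right]
    · intro p _ χ hχ
      exact hB.setting.hom_eq_one_of_isBad hB.case.crit.gen χ (fun a ha => hχ _ ha) hu.1 huc
  -- counting the bad involutions at `c`
  let Bd : Type u := {w : G // IsBad Ω w ∧ w • c = c}
  have huniq : ∀ (w w' : G) (z : Ω), z ≠ c → IsBad Ω w → IsBad Ω w' → w • c = c → w' • c = c →
      w • z = z → w' • z = z → w = w' := by
    intro w w' z hzc hw hw' hwc hwc' hwz hwz'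
    obtain ⟨h, hhc, hhy⟩ := hB.twoTrans c y z hyc hzc
    have key : ∀ v : G, IsBad Ω v → v • c = c → v • z = z → h⁻¹ * v * h = u := by
      intro v hv hvc hvz
      have hbad : IsBad Ω (h⁻¹ * v * h) := by simpa using isBad_conj hv h⁻¹
      have h1 : (h⁻¹ * v * h) • c = c := by
        rw [mul_smul, mul_smul, hhc, hvc, inv_smul_eq_iff, hhc]
      have h2 : (h⁻¹ * v * h) • y = y := by
        rw [mul_smul, mul_smul, hhy, hvz, inv_smul_eq_iff, hhy]
      rcases hPinv _ (hB.mem_lineStab_of_bad hbad h1 h2) (mul_self_eq_one hbad.1) with e0 | e0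
      · exact absurd e0 (ne_one_of_involution hbad.1)
      · exact e0
    exact mul_left_cancel (mul_right_cancel ((key w hw hwc hwz).trans (key w' hw' hwc' hwz').symm))
  have hpts : Nat.card Ω - 1 = Nat.card Bd * 2 ^ (e * 2) := by
    have h1 : Nat.card {z : Ω // z ≠ c} = Nat.card Ω - 1 := by
      rw [← Set.ncard_singleton c, ← Set.ncard_compl, ← Nat.card_coe_set_eq]; rfl
    have hfib : ∀ w : Bd, Nat.card {z : Ω // z ≠ c ∧ w.1 • z = z} = 2 ^ (e * 2) := fun w => by
      rw [← Nat.add_sub_cancel (2 ^ (e * 2)) 1, ← hB.card_fix w.2.1,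
        ← Set.ncard_sdiff_singleton_of_mem (show c ∈ fixedBy Ω w.1 from w.2.2), ← Nat.card_coe_set_eq]
      exact Nat.card_congr (Equiv.subtypeEquivRight fun z => and_comm)
    let eqv : {z : Ω // z ≠ c} ≃ (w : Bd) × {z : Ω // z ≠ c ∧ w.1 • z = z} :=
      { toFun := fun z => ⟨⟨(hB.exists_bad c z z.2.symm).choose,
            (hB.exists_bad c z z.2.symm).choose_spec.1, (hB.exists_bad c z z.2.symm).choose_spec.2.1⟩,
          ⟨z, z.2, (hB.exists_bad c z z.2.symm).choose_spec.2.2⟩⟩
        invFun := fun p => ⟨p.2.1, p.2.2.1⟩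
        left_inv := fun z => rfl
        right_inv := fun ⟨⟨w, hw, hwc⟩, ⟨z, hzc, hwz⟩⟩ => by
          obtain ⟨h1, h2, h3⟩ := (hB.exists_bad c z hzc.symm).choose_spec
          have he := huniq _ w z hzc h1 hw h2 hwc h3 hwz
          exact Sigma.subtype_ext (Subtype.ext he) rfl }
    have := Fintype.ofFinite Bd
    rw [← h1, Nat.card_congr eqv, Nat.card_sigma, Finset.sum_congr rfl fun w _ => hfib w,
      Finset.sum_const, Finset.card_univ, smul_eq_mul, ← Nat.card_eq_fintype_card]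
  have hbd : Nat.card Bd = T0.index * 2 ^ e := by
    rw [← hB.card_memGroup c, Subgroup.index, ← Nat.card_prod]
    let F : (K ⧸ T0) × memGroup Z c → Bd := fun p =>
      ⟨(p.1.out : G) * u * (p.1.out : G)⁻¹ * p.2, by
        have hk := (mem_cenStab.1 p.1.out.2).1
        have h1 : ((p.1.out : G) * u * (p.1.out : G)⁻¹) • c = c := by
          rw [mul_smul, mul_smul, inv_smul_eq_iff.2 hk.symm, huc, hk]
        refine ⟨?_, by rw [mul_smul, (mem_cenStab.1 (hEK p.2.2)).1, h1]⟩
        rcases (hB.setting.mem_memGroup_iff hB.faith hB.case.comm).1 p.2.2 with e0 | e0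
        · rw [e0, mul_one]; exact isBad_conj hu _
        · exact hB.setting.isBad_mul hB.faith (isBad_conj hu _) e0.1
            (hB.case.central _ (isBad_conj hu _) c h1 _ e0)⟩
    refine (Nat.card_congr (Equiv.ofBijective F ⟨?_, ?_⟩)).symm
    · rintro ⟨p, a⟩ ⟨p', a'⟩ he
      have h0 : (p.out : G) * u * (p.out : G)⁻¹ * a = (p'.out : G) * u * (p'.out : G)⁻¹ * a' :=
        congrArg Subtype.val he
      set k := (p.out : G)
      set k' := (p'.out : G)
      have hkK : k'⁻¹ * k ∈ K := mul_mem (inv_mem p'.out.2) p.out.2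
      have hbE : (a' : G) * (a : G)⁻¹ ∈ E := mul_mem a'.2 (inv_mem a.2)
      have hb : ⁅k'⁻¹ * k, u⁆ = (a' : G) * (a : G)⁻¹ := by
        have h1 : k * u * k⁻¹ = k' * u * k'⁻¹ * ((a' : G) * (a : G)⁻¹) := by
          rw [← mul_assoc, ← h0, mul_inv_cancel_right]
        have hcm := commute_cenStab p'.out.2 hbE
        calc ⁅k'⁻¹ * k, u⁆ = k'⁻¹ * (k * u * k⁻¹) * k' * u⁻¹ := by
              rw [commutatorElement_def]; group
          _ = u * k'⁻¹ * ((a' : G) * (a : G)⁻¹ * k') * u⁻¹ := by rw [h1]; group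
          _ = u * ((a' : G) * (a : G)⁻¹) * u⁻¹ := by
              rw [hcm.eq, mul_assoc u, inv_mul_cancel_left]
          _ = (a' : G) * (a : G)⁻¹ := by rw [(hB.commute_bad hu huc hbE).eq, mul_inv_cancel_right]
      have hT : k'⁻¹ * k ∈ T := mem_shiftGroup_of_cenStab hkK (hb ▸ hbE)
      have haa : (a : G) = a' := by
        rw [commutatorElement_eq_one_iff_commute.2 (hno _ hT)] at hb
        exact (mul_inv_eq_one.1 hb.symm).symm
      have hpp : p = p' := by
        rw [← QuotientGroup.out_eq' p, ← QuotientGroup.out_eq' p']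
        exact (QuotientGroup.eq.2 (show (p'.out)⁻¹ * p.out ∈ T0 from hT)).symm
      exact Prod.ext hpp (Subtype.ext haa)
    · rintro ⟨w, hw, hwc⟩
      let wK : K := ⟨w, hB.bad_mem_cenStab hw hwc⟩
      have hw2 : IsPGroup 2 (Subgroup.zpowers wK) := isPGroup_zpowers (by
        rw [← Subgroup.orderOf_coe]; exact hw.1)
      obtain ⟨S, hS⟩ := hw2.exists_le_sylow
      obtain ⟨k, hk⟩ := exists_smul_eq K S0 S
      have h1 : wK ∈ (S : Subgroup K) := hS (Subgroup.mem_zpowers _)
      rw [← hk, Sylow.coe_subgroup_smul, Subgroup.mem_pointwise_smul_iff_inv_smul_mem] at h1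
      obtain ⟨a, ha, hka⟩ := hTbad ((k⁻¹ * wK * k : K) : G) (by
          simpa [MulAut.smul_def, Subgroup.mem_subgroupOf, S0, hT0] using h1)
        (by simpa using isBad_conj hw (k : G)⁻¹)
      set p := ((k : K) : K ⧸ T0)
      obtain ⟨t, ht⟩ := QuotientGroup.mk_out_eq_mul T0 k
      refine ⟨(p, ⟨a, ha⟩), Subtype.ext ?_⟩
      show (p.out : G) * u * (p.out : G)⁻¹ * a = w
      have htu : Commute ((t : K) : G) u := hno _ t.2
      have hka' : (k : G)⁻¹ * w * k = u * a := hka
      have hcm := commute_cenStab k.2 ha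
      rw [ht, Subgroup.coe_mul]
      calc (k : G) * (t : K) * u * ((k : G) * (t : K))⁻¹ * a
          = k * (((t : K) : G) * u * ((t : K) : G)⁻¹) * ((k : G)⁻¹ * a) := by group
        _ = k * u * ((a : G) * (k : G)⁻¹) := by
            rw [htu.eq, mul_inv_cancel_right, ← (hcm.inv_right).eq]
        _ = k * ((k : G)⁻¹ * w * k) * (k : G)⁻¹ := by rw [hka']; group
        _ = w := by group
  have hM : T0.index = (2 ^ e - 1) * 2 ^ e + 1 := by
    rw [hB.card_sub_one, hbd, mul_assoc, ← pow_add, show e + e * 2 = e * 3 by ring, mul_comm] at hpts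
    exact (Nat.eq_of_mul_eq_mul_right (by positivity) hpts).symm
  obtain ⟨s, hs⟩ := hsquare
  rw [hN0card, hM] at hs
  obtain ⟨r, hr⟩ : ∃ r, 2 ^ e = r + 2 := ⟨2 ^ e - 2, by
    have : 2 ^ 3 ≤ 2 ^ e := Nat.pow_le_pow_right two_pos hB.three_le
    omega⟩
  rw [hr, show r + 2 - 1 = r + 1 by omega] at hs
  rcases Nat.lt_or_ge s (r + 2) with h1 | h1 <;> nlinarith

/-- Every bad involution at `c` is moved by translations to all its multiples by members at `c`. -/
theorem exists_translation {u : G} (hu : IsBad Ω u) {c : Ω} (huc : u • c = c) :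
    ∀ a ∈ memGroup Z c, ∃ g ∈ shiftGroup Z c u, ⁅g, u⁆ = a := by
  obtain ⟨y, hyc, huy⟩ := hB.exists_other hu huc
  refine hB.translations_of_one hu hyc huc huy ?_
  by_contra hcon
  by_cases hP : IsPGroup 2 (lineStab Z c y)
  · refine hB.false_of_no_translation hnf hu hyc huc huy hP fun g hg => ?_
    refine commutatorElement_eq_one_iff_commute.1 ?_
    rcases (hB.setting.mem_memGroup_iff hB.faith hB.case.comm).1 hg.2.2 with h1 | h1
    · exact h1
    · exact absurd ⟨_, h1, g, hg, rfl⟩ hcon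
  obtain ⟨x, hx, p, hp, hp2, hord⟩ : ∃ x ∈ lineStab Z c y, ∃ p : ℕ, p.Prime ∧ p ≠ 2 ∧ orderOf x = p := by
    by_contra hall
    push Not at hall
    refine hP (IsPGroup.of_card (n := (Nat.card (lineStab Z c y)).primeFactorsList.length) ?_)
    refine Nat.eq_prime_pow_of_unique_prime_dvd Nat.card_pos.ne' fun {d} hd hdvd => ?_
    have : Fact d.Prime := ⟨hd⟩
    obtain ⟨g, hg⟩ := exists_prime_orderOf_dvd_card' d hdvd
    by_contra hd2
    exact hall g g.2 d hd hd2 (by rw [Subgroup.orderOf_coe, hg])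
  obtain ⟨a, ha⟩ := hB.setting.exists_memAt c
  obtain ⟨hbad, -, -, z, hzc, hz, -⟩ := hB.fixed_mul hu huc ha
  obtain ⟨g, hg, hgy⟩ := hB.smul_eq_of_prime hu hyc huc huy hx hp hp2 hord hzc
  obtain ⟨k, hk, hka⟩ := hB.translation_of_meet hnf hu huc hg (Subgroup.subset_closure ha) hbad hzc
    (by rw [← hgy, mul_smul, mul_smul, inv_smul_smul, huy]) hz
  exact hcon ⟨a, ha, k, hk, hka⟩

/-- A 2-group in a line stabiliser centralising a bad involution `v` there times `q ^ 3` divides the
order of the translation group of `v`. -/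
theorem card_dvd_shift {v : G} (hv : IsBad Ω v) {c y : Ω} (hyc : y ≠ c) (hvc : v • c = c)
    (hvy : v • y = y) {R : Subgroup G} (hR : R ≤ lineStab Z c y) (hR2 : IsPGroup 2 R)
    (hRv : ∀ g ∈ R, Commute g v) : 2 ^ (e * 3) * Nat.card R ∣ Nat.card (shiftGroup Z c v) := by
  classical
  have : Fact (Nat.Prime 2) := ⟨Nat.prime_two⟩
  obtain ⟨Q, hQ⟩ := hB.kernel v hv c hvc
  obtain ⟨i, hi⟩ := hR2.exists_card_eq
  obtain ⟨k, hk⟩ := (hB.isPGroup_shift hv hvc hyc hvy).exists_card_eq
  choose g hg hgv using hB.exists_translation hnf hv hvc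
  let F : memGroup Z c × Q × R → shiftGroup Z c v := fun p =>
    ⟨g p.1 p.1.2 * ((p.2.1 : G) * (p.2.2 : G)), mul_mem (hg p.1 p.1.2)
      (mem_shiftGroup_of_cenStab
        (mul_mem (hB.kernel_le_cenStab hQ p.2.1.2) (lineStab_le_cenStab (hR p.2.2.2)))
        (by rw [commutatorElement_eq_one_iff_commute.2
              (((hQ.commute _ p.2.1.2).symm).mul_left (hRv _ p.2.2.2))]
            exact one_mem _))⟩
  have hF : Function.Injective F := by
    rintro ⟨a, x, p⟩ ⟨a', x', p'⟩ he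
    have hxp : ∀ (x : Q) (p : R), (x : G) * p ∈ shiftGroup Z c v ∧ ⁅(x : G) * p, v⁆ = 1 :=
      fun x p => by
        have h1 : ⁅(x : G) * p, v⁆ = 1 := commutatorElement_eq_one_iff_commute.2
          (((hQ.commute _ x.2).symm).mul_left (hRv _ p.2))
        exact ⟨mem_shiftGroup_of_cenStab
          (mul_mem (hB.kernel_le_cenStab hQ x.2) (lineStab_le_cenStab (hR p.2)))
          (by rw [h1]; exact one_mem _), h1⟩
    have h0 : g a a.2 * ((x : G) * p) = g a' a'.2 * ((x' : G) * p') := congrArg Subtype.val he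
    have h1 : (a : G) = a' := by
      have := congrArg (fun t => ⁅t, v⁆) h0
      simp only [commutator_shift_mul (hg a a.2) (hxp x p).1,
        commutator_shift_mul (hg a' a'.2) (hxp x' p').1, (hxp x p).2, (hxp x' p').2, one_mul,
        hgv] at this
      exact this
    obtain rfl : a = a' := Subtype.ext h1
    obtain ⟨h2, h3⟩ := hB.decomp_unique hyc hQ x.2 x'.2 (hR p.2) (hR p'.2) (mul_left_cancel h0)
    exact Prod.ext rfl (Prod.ext (Subtype.ext h2) (Subtype.ext h3))
  have hle := Nat.card_le_card_of_injective F hF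
  rw [Nat.card_prod, Nat.card_prod, hB.card_memGroup, hQ.card, hi, hk] at hle
  rw [hi, hk, ← pow_add]
  refine pow_dvd_pow 2 ((Nat.pow_le_pow_iff_right (a := 2) one_lt_two).1 (le_trans (le_of_eq ?_) hle))
  rw [← pow_add, ← pow_add]; congr 1; ring

omit hnf in
/-- The order of the stabiliser of `c`. -/
theorem card_stab {c y : Ω} (hyc : y ≠ c) :
    Nat.card (stabilizer G c) = 2 ^ (e * 3) * ((2 ^ e - 1) * 2 ^ e + 1) * Nat.card (two G c y) := by
  rw [← hB.card_sub_one]
  have horb : orbit (stabilizer G c) y = {c}ᶜ := by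
    ext z
    constructor
    · rintro ⟨h, rfl⟩ he
      exact hyc (MulAction.injective (h : G) ((he : (h : G) • y = c).trans h.2.symm))
    · intro hz
      obtain ⟨m, hmc, hmy⟩ := hB.twoTrans c y z hyc hz
      exact ⟨⟨m, hmc⟩, hmy⟩
  have hst : Nat.card (stabilizer (stabilizer G c) y) = Nat.card (two G c y) :=
    Nat.card_congr
      { toFun := fun g => ⟨(g.1 : G), mem_two_iff.2 ⟨g.1.2, g.2⟩⟩
        invFun := fun g => ⟨⟨g, (mem_two_iff.1 g.2).1⟩, (mem_two_iff.1 g.2).2⟩
        left_inv := fun g => rfl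
        right_inv := fun g => rfl }
  rw [← Subgroup.index_mul_card (stabilizer (stabilizer G c) y), index_stabilizer, horb, hst,
    Set.ncard_compl, Set.ncard_singleton]

/-- The elements of 2-power order fixing `c` centralise the members at `c`. -/
theorem commute_of_two {c : Ω} {g : G} (hgc : g • c = c) {k : ℕ} (hk : g ^ 2 ^ k = 1) :
    ∀ a ∈ memAt Z c, Commute a g := by
  classical
  have : Fact (Nat.Prime 2) := ⟨Nat.prime_two⟩
  obtain ⟨y, hy⟩ := hB.setting.nontriv c
  have hyc : y ≠ c := hy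
  obtain ⟨J, hJ⟩ := hB.torus c y hyc
  set H := stabilizer G c with hH
  set D := two G c y with hD
  set E := memGroup Z c
  letI : CommGroup E :=
    { (inferInstance : Group E) with
      mul_comm := fun a b => Subtype.ext
        (hB.setting.commute_memGroup hB.faith hB.case.comm a.2 b.2).eq }
  letI : DistribMulAction D (Additive E) :=
    { smul := fun d v => Additive.ofMul ⟨(d : G) * (v.toMul : G) * (d : G)⁻¹,
        hB.setting.conj_mem_memGroup (mem_two_iff.1 d.2).1 v.toMul.2⟩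
      one_smul := fun v => congrArg Additive.ofMul (Subtype.ext
        (show (1 : G) * (v.toMul : G) * (1 : G)⁻¹ = (v.toMul : G) by group))
      mul_smul := fun d d' v => congrArg Additive.ofMul (Subtype.ext
        (show ((d : G) * d') * (v.toMul : G) * ((d : G) * d')⁻¹ =
          (d : G) * ((d' : G) * (v.toMul : G) * (d' : G)⁻¹) * (d : G)⁻¹ by group))
      smul_zero := fun d => congrArg Additive.ofMul (Subtype.ext
        (show (d : G) * (1 : G) * (d : G)⁻¹ = 1 by group))
      smul_add := fun d v w => congrArg Additive.ofMul (Subtype.ext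
        (show (d : G) * ((v.toMul : G) * (w.toMul : G)) * (d : G)⁻¹ =
          (d : G) * (v.toMul : G) * (d : G)⁻¹ * ((d : G) * (w.toMul : G) * (d : G)⁻¹) by group)) }
  have hsmul : ∀ (d : D) (v : Additive E),
      (((d • v).toMul : E) : G) = (d : G) * (v.toMul : G) * (d : G)⁻¹ := fun d v => rfl
  have hext : ∀ v w : Additive E, (v.toMul : G) = (w.toMul : G) → v = w := fun v w e0 =>
    congrArg Additive.ofMul (Subtype.ext e0 : v.toMul = w.toMul)
  have hne0 : ∀ v : Additive E, v ≠ 0 → (v.toMul : G) ∈ memAt Z c := fun v hv =>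
    ((hB.setting.mem_memGroup_iff hB.faith hB.case.comm).1 v.toMul.2).resolve_left
      fun e1 => hv (hext v 0 e1)
  have hexp : ∀ v : Additive E, v + v = 0 := fun v =>
    hext _ _ (hB.setting.mul_self_memGroup hB.faith hB.case.comm v.toMul.2)
  have : Nontrivial (Additive E) := by
    obtain ⟨a, ha⟩ := hB.setting.exists_memAt c
    refine ⟨Additive.ofMul ⟨a, Subgroup.subset_closure ha⟩, 0, fun e1 => ?_⟩
    exact ne_one_of_involution (hB.setting.invol a ha.1)
      (congrArg (fun v : Additive E => (v.toMul : G)) e1)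
  have hG : HasGaloisHom D (Additive E) := by
    refine hasGaloisHom_of_abelian_transitive hexp {d : D | (d : G) ∈ J} ?_ ?_ ?_
    · intro d t ht
      refine ⟨d * t * d⁻¹, hJ.norm d d.2 t ht, fun v => ?_⟩
      rw [← mul_smul, ← mul_smul, inv_mul_cancel_right]
    · intro s hs t ht v
      have hst : s * t = t * s := by
        have := hJ.cyclic.isMulCommutative.is_comm.comm (⟨s, hs⟩ : J) ⟨t, ht⟩
        exact Subtype.ext (congrArg (fun j : J => (j : G)) this)
      rw [← mul_smul, ← mul_smul, hst]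
    · intro v w hv hw
      obtain ⟨j, hj, hjv⟩ := hJ.trans _ (hne0 v hv) _ (hne0 w hw)
      exact ⟨⟨j, mem_two_iff.2 (hJ.fix j hj)⟩, hj, hext _ _ hjv⟩
  obtain ⟨A, _, _, _, π, hπ⟩ := hG.exists_hom
  -- a Sylow subgroup of the two point stabiliser
  obtain ⟨S⟩ : Nonempty (Sylow 2 D) := inferInstance
  set K := cenStab Z c
  set K0 : Subgroup H := K.subgroupOf H with hK0
  have hK0n : K0.Normal := ⟨fun a ha h => hB.conj_mem_cenStab h.2 ha⟩
  let incl : (S : Subgroup D) →* H :=
    { toFun := fun s => ⟨((s : D) : G), (mem_two_iff.1 (s : D).2).1⟩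
      map_one' := rfl
      map_mul' := fun _ _ => rfl }
  let f : (S : Subgroup D) →* H ⧸ K0 := (QuotientGroup.mk' K0).comp incl
  let π' : (S : Subgroup D) →* A := π.comp (S : Subgroup D).subtype
  have hker : f.ker = π'.ker := by
    ext s
    obtain ⟨m, hm⟩ := S.isPGroup' s
    have hm' : ∀ v : Additive E, (s : D) ^ 2 ^ m • v = v := fun v => by
      rw [show (s : D) ^ 2 ^ m = 1 from congrArg Subtype.val hm, one_smul]
    rw [MonoidHom.mem_ker, MonoidHom.mem_ker]
    refine (QuotientGroup.eq_one_iff _).trans (Iff.trans ?_ (hπ (s : D) m hm').symm)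
    constructor
    · intro hs v
      refine hext _ _ ?_
      rw [hsmul, ← (commute_cenStab (show ((s : D) : G) ∈ K from hs) v.toMul.2).eq,
        mul_inv_cancel_right]
    · intro hs
      refine mem_cenStab.2 ⟨(mem_two_iff.1 (s : D).2).1, fun a ha => ?_⟩
      have h1 := congrArg (fun v : Additive E => (v.toMul : G))
        (hs (Additive.ofMul ⟨a, Subgroup.subset_closure ha⟩))
      exact (mul_inv_eq_iff_eq_mul.1 h1).symm
  have hcyc : IsCyclic f.range := by
    have : IsCyclic π'.range := Subgroup.isCyclic _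
    exact (((QuotientGroup.quotientKerEquivRange f).symm.trans
      (QuotientGroup.quotientMulEquivOfEq hker)).trans
        (QuotientGroup.quotientKerEquivRange π')).isCyclic.2 inferInstance
  have hrange2 : IsPGroup 2 f.range := S.isPGroup'.of_surjective f.rangeRestrict f.rangeRestrict_surjective
  have hScard : Nat.card (S : Subgroup D) = Nat.card f.range * Nat.card f.ker := by
    rw [← Subgroup.index_ker, Subgroup.index_mul_card]
  -- the kernel times `q ^ 3` divides the centraliser of the members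
  set R : Subgroup G := (f.ker.map ((S : Subgroup D).subtype)).map (Subgroup.subtype D) with hRdef
  have hRcard : Nat.card R = Nat.card f.ker := by
    rw [hRdef, Subgroup.card_map_of_injective (Subgroup.subtype_injective _),
      Subgroup.card_map_of_injective (Subgroup.subtype_injective _)]
  have hR2 : IsPGroup 2 R := ((S.isPGroup'.to_subgroup _).map _).map _
  have hRP : R ≤ lineStab Z c y := by
    rintro _ ⟨_, ⟨s, hs, rfl⟩, rfl⟩
    have h1 : ((s : D) : G) ∈ K := (QuotientGroup.eq_one_iff (incl s)).1 hs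
    exact mem_lineStab.2 ⟨(mem_two_iff.1 (s : D).2).1, (mem_two_iff.1 (s : D).2).2,
      (mem_cenStab.1 h1).2⟩
  obtain ⟨v, hv, hvc, hvy, hRv⟩ : ∃ v, IsBad Ω v ∧ v • c = c ∧ v • y = y ∧ ∀ g ∈ R, Commute g v := by
    by_cases hne : R = ⊥
    · obtain ⟨v, hv, hvc, hvy⟩ := hB.exists_bad c y hyc.symm
      exact ⟨v, hv, hvc, hvy, fun g hg => by
        rw [hne, Subgroup.mem_bot] at hg; rw [hg]; exact Commute.one_left v⟩
    · obtain ⟨v, -, hv, hvc, hvy, hRv⟩ := exists_bad_central hR2 hne hyc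
        (fun g hg => (mem_lineStab.1 (hRP hg)).2.1) (fun g hg => (mem_lineStab.1 (hRP hg)).1)
      exact ⟨v, hv, hvc, hvy, hRv⟩
  obtain ⟨X, hX⟩ : 2 ^ (e * 3) * Nat.card R ∣ Nat.card K0 := by
    have hKH : K ≤ H := fun x hx => (mem_cenStab.1 hx).1
    rw [hK0, Nat.card_congr (Subgroup.subgroupOfEquivOfLe hKH).toEquiv]
    exact (hB.card_dvd_shift hnf hv hyc hvc hvy hRP hR2 hRv).trans
      (Subgroup.card_dvd_of_le shiftGroup_le_cenStab)
  have hSidx : Odd (S : Subgroup D).index :=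
    Nat.not_even_iff_odd.1 fun he => S.not_dvd_index (even_iff_two_dvd.1 he)
  have hMidx : f.range.index * X = ((2 ^ e - 1) * 2 ^ e + 1) * (S : Subgroup D).index := by
    have h1 : Nat.card H = 2 ^ (e * 3) * ((2 ^ e - 1) * 2 ^ e + 1) * Nat.card D := hB.card_stab hyc
    rw [← Subgroup.index_mul_card K0, hX, Subgroup.index, ← Subgroup.index_mul_card f.range,
      ← Subgroup.index_mul_card (S : Subgroup D), hScard, hRcard] at h1
    have h2 : 0 < 2 ^ (e * 3) * Nat.card f.range * Nat.card f.ker :=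
      Nat.mul_pos (Nat.mul_pos (by positivity) Nat.card_pos) Nat.card_pos
    exact Nat.eq_of_mul_eq_mul_left h2 (by linear_combination h1)
  have hModd : Odd ((2 ^ e - 1) * 2 ^ e + 1) := by
    refine Even.add_one (Even.mul_left ?_ _)
    exact Nat.even_pow.2 ⟨even_two, by have := hB.three_le; omega⟩
  have hidx : ¬ 2 ∣ f.range.index := fun h2 => by
    have h3 : Odd (f.range.index * X) := hMidx ▸ hModd.mul hSidx
    exact Nat.not_even_iff_odd.2 (Nat.odd_mul.1 h3).1 (even_iff_two_dvd.2 h2)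
  have h1 := hB.setting.map_eq_one_of_cyclic_sylow hB.case.crit.gen (QuotientGroup.mk' K0)
    (fun a ha => (QuotientGroup.eq_one_iff _).2 (hB.memGroup_le_cenStab c (Subgroup.subset_closure ha)))
    (hrange2.toSylow hidx) hcyc (fun q _ => QuotientGroup.mk'_surjective K0 q) ⟨g, hgc⟩ (k := k)
    (Subtype.ext hk)
  exact (mem_cenStab.1 ((QuotientGroup.eq_one_iff (⟨g, hgc⟩ : H)).1 h1 : g ∈ K)).2

/-- The translation group of a bad involution has odd index. -/
theorem shift_sylow {u : G} (hu : IsBad Ω u) {c : Ω} (huc : u • c = c) :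
    Odd (shiftGroup Z c u).index := by
  classical
  have : Fact (Nat.Prime 2) := ⟨Nat.prime_two⟩
  obtain ⟨y, hyc, huy⟩ := hB.exists_other hu huc
  set D := two G c y
  have hu2 : IsPGroup 2 (Subgroup.zpowers (⟨u, mem_two_iff.2 ⟨huc, huy⟩⟩ : D)) :=
    isPGroup_zpowers (by rw [← Subgroup.orderOf_coe]; exact hu.1)
  obtain ⟨S, hS⟩ := hu2.exists_le_sylow
  set R := (S : Subgroup D).map D.subtype with hRdef
  have hR2 : IsPGroup 2 R := S.isPGroup'.map _
  have hRP : R ≤ lineStab Z c y := by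
    rintro _ ⟨d, hd, rfl⟩
    obtain ⟨m, hm⟩ := S.isPGroup' ⟨d, hd⟩
    exact mem_lineStab.2 ⟨(mem_two_iff.1 d.2).1, (mem_two_iff.1 d.2).2,
      hB.commute_of_two hnf (mem_two_iff.1 d.2).1
        (congrArg (fun s : (S : Subgroup D) => ((s : D) : G)) hm)⟩
  have huR : u ∈ R := ⟨_, hS (Subgroup.mem_zpowers _), rfl⟩
  obtain ⟨w, -, hw, hwc, hwy, hwR⟩ := exists_bad_central hR2
    (fun e0 => ne_one_of_involution hu.1 (Subgroup.mem_bot.1 (e0 ▸ huR))) hyc
    (fun g hg => (mem_lineStab.1 (hRP hg)).2.1) (fun g hg => (mem_lineStab.1 (hRP hg)).1)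
  have hwu := hnf u w hu hw (hwR u huR) c y hyc.symm huc huy hwc hwy
  rw [← hwu] at hwR
  obtain ⟨X, hX⟩ := hB.card_dvd_shift hnf hu hyc huc huy hRP hR2 hwR
  have hRcard : Nat.card R = Nat.card (S : Subgroup D) :=
    Subgroup.card_map_of_injective (Subgroup.subtype_injective _)
  have : IsPretransitive G Ω := ⟨hB.setting.trans⟩
  have h1 : (shiftGroup Z c u).index * X =
      Nat.card Ω * (((2 ^ e - 1) * 2 ^ e + 1) * (S : Subgroup D).index) := by
    have h2 := Subgroup.index_mul_card (shiftGroup Z c u)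
    rw [← Subgroup.index_mul_card (stabilizer G c), index_stabilizer_of_transitive G c,
      hB.card_stab hyc, ← Subgroup.index_mul_card (S : Subgroup D), hX, hRcard] at h2
    have h3 : 0 < 2 ^ (e * 3) * Nat.card (S : Subgroup D) := Nat.mul_pos (by positivity) Nat.card_pos
    exact Nat.eq_of_mul_eq_mul_left h3 (by linear_combination h2)
  have h4 : Odd ((shiftGroup Z c u).index * X) := by
    rw [h1]
    exact (hB.setting.odd_natCard c).mul (Odd.mul
      (Even.add_one (Even.mul_left (Nat.even_pow.2 ⟨even_two, by have := hB.three_le; omega⟩) _))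
      (Nat.not_even_iff_odd.1 fun he => S.not_dvd_index (even_iff_two_dvd.1 he)))
  exact (Nat.odd_mul.1 h4).1

end Base

end CfsgLib.StrongCrit.CentralTwo
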