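import Cfsg.Agent.Lib.StrongCrit.CentralTwo.Data
import Cfsg.Agent.Lib.StrongCrit.CentralTwo.End
import Cfsg.Agent.Lib.StrongCrit.CentralTwo.Trans

/-!
The Suzuki case of the central case of Aschbacher's criterion does not occur, given that two
commuting bad involutions never have two common fixed points.
-/

set_option autoImplicit false

namespace CfsgLib.StrongCrit.CentralTwo

universe u

/-- The Suzuki case does not occur once two commuting bad involutions with two common fixed points
are equal. -/
theorem centralFalse_two_of_noFour
    (hfour : ∀ (G : Type u) [Group G] [Finite G] (Ω : Type u) [MulAction G Ω] [Finite Ω] (Z : Set G)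
      (e : ℕ), Base Ω Z e → NoFour (G := G) Ω) :
    CentralFalse.{u} 2 := by
  intro G _ _ Ω _ _ Z e hCC
  have hB := base_of_case hCC
  have hnf := hfour G Ω Z e hB
  exact hB.false_of_shift hnf (fun w hw c hc => hB.exists_translation hnf hw hc)
    fun w hw c hc => hB.shift_sylow hnf hw hc

end CfsgLib.StrongCrit.CentralTwo
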