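import Cfsg.Agent.Lib.StrongCrit.CentralTwo.Lines

/-!
In the Suzuki case the bad involutions fixing two points commute as soon as two of them do: otherwise
some element of odd order rotates them, and together with the torus it gives a bad involution whose
line would be fixed by it.
-/

set_option autoImplicit false

namespace CfsgLib.StrongCrit.CentralTwo

open CfsgLib.Involutions CfsgLib.BenderTrans MulAction
open scoped commutatorElement

set_option linter.unusedSectionVars false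
set_option linter.style.haveILetI false

universe u

variable {G : Type u} [Group G] {Ω : Type u} [MulAction G Ω] {Z : Set G} {e : ℕ}

namespace Base

variable [Finite G] [Finite Ω] (hB : Base Ω Z e)
include hB

/-- An element fixing `c` normalises the group of the members at `c`. -/
theorem conj_memGroup {n : G} {c : Ω} (hn : n • c = c) {a : G} (ha : a ∈ memGroup Z c) :
    n * a * n⁻¹ ∈ memGroup Z c := by
  rcases (hB.setting.mem_memGroup_iff hB.faith hB.case.comm).1 ha with rfl | ha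
  · rw [mul_one, mul_inv_cancel]; exact one_mem _
  · have h1 := hB.setting.conj_memAt (g := n) ha
    rw [hn] at h1
    exact Subgroup.subset_closure h1

/-- Conjugation moves the translation groups. -/
theorem conj_shift {n g u : G} {c : Ω} (hn : n • c = c) (hg : g ∈ shiftGroup Z c u) :
    n * g * n⁻¹ ∈ shiftGroup Z c (n * u * n⁻¹) ∧
      ⁅n * g * n⁻¹, n * u * n⁻¹⁆ = n * ⁅g, u⁆ * n⁻¹ := by
  have h1 : ⁅n * g * n⁻¹, n * u * n⁻¹⁆ = n * ⁅g, u⁆ * n⁻¹ := by
    simp only [commutatorElement_def]; group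
  refine ⟨⟨?_, fun a ha => ?_, ?_⟩, h1⟩
  · rw [mul_smul, mul_smul, inv_smul_eq_iff.2 hn.symm, hg.1, hn]
  · have h2 := (hg.2.1 _ (hB.conj_memGroup (inv_smul_eq_iff.2 hn.symm) ha)).eq
    rw [inv_inv] at h2
    calc a * (n * g * n⁻¹) = n * (n⁻¹ * a * n * g) * n⁻¹ := by group
      _ = n * (g * (n⁻¹ * a * n)) * n⁻¹ := by rw [h2]
      _ = n * g * n⁻¹ * a := by group
  · rw [h1]
    exact hB.conj_memGroup hn hg.2.2

section Frame

variable {c y : Ω} (hyc : y ≠ c)
include hyc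

/-- An involution of a line stabiliser is bad. -/
theorem isBad_of_lineStab {i : G} (hi : i ∈ lineStab Z c y) (hi2 : orderOf i = 2) : IsBad Ω i :=
  ⟨hi2, c, y, hyc.symm, (mem_lineStab.1 hi).1, (mem_lineStab.1 hi).2.1⟩

/-- Commuting is transitive on the involutions of a line stabiliser. -/
theorem commute_invol_trans {i j k : G} (hi : i ∈ lineStab Z c y) (hj : j ∈ lineStab Z c y)
    (hk : k ∈ lineStab Z c y) (hj2 : orderOf j = 2) (hk2 : orderOf k = 2) (hij : Commute i j)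
    (hkj : Commute k j) : Commute i k :=
  hB.commute_invol (hB.isBad_of_lineStab hyc hj hj2) (mem_lineStab.1 hj).1 hyc
    (mem_lineStab.1 hj).2.1 hi hij hk (mul_self_eq_one hk2) hkj

/-- Non-commuting involutions of a line stabiliser are conjugate in it. -/
theorem exists_conj_invol {i j : G} (hi : i ∈ lineStab Z c y) (hj : j ∈ lineStab Z c y)
    (hi2 : orderOf i = 2) (hj2 : orderOf j = 2) (hij : ¬ Commute i j) :
    ∃ d ∈ lineStab Z c y, d * i * d⁻¹ = j := by
  rcases Nat.even_or_odd (orderOf (i * j)) with heven | hodd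
  · exfalso
    obtain ⟨hz, hzi, hzj⟩ := central_involution hi2 hj2 heven
    exact hij (hB.commute_invol_trans hyc hi (pow_mem (mul_mem hi hj) _) hj hz hj2 hzi.symm
      hzj.symm)
  · obtain ⟨d, hd, hdij⟩ := conj_of_odd_order hi2 hj2 hodd
    refine ⟨d, (Subgroup.closure_le _).2 ?_ hd, hdij⟩
    rintro g (rfl | rfl)
    exacts [hi, hj]

/-- If two involutions of a line stabiliser do not commute, it has one class of involutions. -/
theorem exists_conj_of_noncomm {u w : G} (hu : u ∈ lineStab Z c y) (hw : w ∈ lineStab Z c y)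
    (hu2 : orderOf u = 2) (hw2 : orderOf w = 2) (huw : ¬ Commute u w) {i j : G}
    (hi : i ∈ lineStab Z c y) (hj : j ∈ lineStab Z c y) (hi2 : orderOf i = 2) (hj2 : orderOf j = 2) :
    ∃ d ∈ lineStab Z c y, d * i * d⁻¹ = j := by
  by_cases hij : Commute i j
  · obtain ⟨k, hk, hk2, hki, hkj⟩ : ∃ k ∈ lineStab Z c y, orderOf k = 2 ∧ ¬ Commute k i ∧
        ¬ Commute k j := by
      by_cases hwi : Commute w i
      · have hui : ¬ Commute u i := fun h => huw (hB.commute_invol_trans hyc hu hi hw hi2 hw2 h hwi)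
        exact ⟨u, hu, hu2, hui, fun h => hui (hB.commute_invol_trans hyc hu hj hi hj2 hi2 h hij)⟩
      · exact ⟨w, hw, hw2, hwi, fun h => hwi (hB.commute_invol_trans hyc hw hj hi hj2 hi2 h hij)⟩
    obtain ⟨d, hd, hdi⟩ := hB.exists_conj_invol hyc hi hk hi2 hk2 fun h => hki h.symm
    obtain ⟨d', hd', hdk⟩ := hB.exists_conj_invol hyc hk hj hk2 hj2 hkj
    refine ⟨d' * d, mul_mem hd' hd, ?_⟩
    rw [mul_inv_rev, show d' * d * i * (d⁻¹ * d'⁻¹) = d' * (d * i * d⁻¹) * d'⁻¹ by group, hdi, hdk]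
  · exact hB.exists_conj_invol hyc hi hj hi2 hj2 hij

/-- The involutions of a line stabiliser commuting with a given one are odd in number. -/
theorem odd_cen_invol {u : G} (hu : u ∈ lineStab Z c y) (hu2 : orderOf u = 2) :
    Odd {i : G | i ∈ lineStab Z c y ∧ orderOf i = 2 ∧ Commute i u}.ncard := by
  classical
  set V := {i : G | i ∈ lineStab Z c y ∧ orderOf i = 2 ∧ Commute i u}
  have hcm : ∀ a b : G, a ∈ lineStab Z c y → b ∈ lineStab Z c y → b * b = 1 → Commute a u →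
      Commute b u → Commute a b := fun a b ha hb hb2 hau hbu =>
    hB.commute_invol (hB.isBad_of_lineStab hyc hu hu2) (mem_lineStab.1 hu).1 hyc
      (mem_lineStab.1 hu).2.1 ha hau hb hb2 hbu
  let W : Subgroup G :=
    { carrier := {g | g ∈ lineStab Z c y ∧ g * g = 1 ∧ Commute g u}
      one_mem' := ⟨one_mem _, one_mul 1, Commute.one_left u⟩
      mul_mem' := fun {a b} ⟨ha, ha2, hau⟩ ⟨hb, hb2, hbu⟩ => ⟨mul_mem ha hb, by
        rw [mul_assoc, ← mul_assoc b, (hcm b a hb ha ha2 hbu hau).eq, mul_assoc a b, hb2, mul_one,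
          ha2], hau.mul_left hbu⟩
      inv_mem' := fun {a} ⟨ha, ha2, hau⟩ =>
        ⟨inv_mem ha, by rw [← mul_inv_rev, ha2, inv_one], hau.inv_left⟩ }
  have hWV : (W : Set G) = insert 1 V := by
    ext g
    constructor
    · rintro ⟨hg, hg2, hgu⟩
      by_cases h1 : g = 1
      · exact Or.inl h1
      · exact Or.inr ⟨hg, orderOf_eq_two_iff_mul.2 ⟨h1, hg2⟩, hgu⟩
    · rintro (rfl | ⟨hg, hg2, hgu⟩)
      · exact one_mem W
      · exact ⟨hg, mul_self_eq_one hg2, hgu⟩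
  have h1 : Nat.card W = V.ncard + 1 := by
    rw [← SetLike.coe_sort_coe, Nat.card_coe_set_eq, hWV,
      Set.ncard_insert_of_notMem (fun h => ne_one_of_involution h.2.1 rfl) (Set.toFinite _)]
  have h2 : 2 ∣ Nat.card W :=
    hu2 ▸ Subgroup.orderOf_dvd_natCard W (show u ∈ W from ⟨hu, mul_self_eq_one hu2, Commute.refl u⟩)
  rw [h1] at h2
  obtain ⟨m, hm⟩ := h2
  exact ⟨m - 1, by omega⟩

/-- An element of odd order of the line stabiliser moving `u` to an involution commuting with it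
commutes with no such involution; there is one if two bad involutions commute and two do not. -/
theorem exists_rot {u v w : G} (hu : u ∈ lineStab Z c y) (hv : v ∈ lineStab Z c y)
    (hw : w ∈ lineStab Z c y) (hu2 : orderOf u = 2) (hv2 : orderOf v = 2) (hw2 : orderOf w = 2)
    (huv : Commute u v) (hne : u ≠ v) (huw : ¬ Commute u w) :
    ∃ r ∈ lineStab Z c y, Odd (orderOf r) ∧ r * u * r⁻¹ ≠ u ∧ Commute (r * u * r⁻¹) u ∧
      ∀ i ∈ lineStab Z c y, orderOf i = 2 → Commute i u → ¬ Commute r i := by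
  classical
  have hub := hB.isBad_of_lineStab hyc hu hu2
  obtain ⟨huc, huy, -⟩ := mem_lineStab.1 hu
  obtain ⟨g, hg, hguv⟩ := hB.exists_conj_of_noncomm hyc hu hw hu2 hw2 huw hu hv hu2 hv2
  set V := {i : G | i ∈ lineStab Z c y ∧ orderOf i = 2 ∧ Commute i u} with hV
  have hnorm : ∀ i ∈ V, g * i * g⁻¹ ∈ V := by
    rintro i ⟨hi, hi2, hiu⟩
    have h1 : g * i * g⁻¹ ∈ lineStab Z c y := mul_mem (mul_mem hg hi) (inv_mem hg)
    have h2 : Commute (g * i * g⁻¹) v := by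
      show _ = _
      rw [← hguv]
      calc g * i * g⁻¹ * (g * u * g⁻¹) = g * (i * u) * g⁻¹ := by group
        _ = g * (u * i) * g⁻¹ := by rw [hiu.eq]
        _ = g * u * g⁻¹ * (g * i * g⁻¹) := by group
    exact ⟨h1, (orderOf_conj_eq g i).trans hi2, hB.commute_invol_trans hyc h1 hv hu hv2 hu2 h2 huv⟩
  obtain ⟨k, m, hm, hgo⟩ := Nat.exists_eq_two_pow_mul_odd (orderOf_pos g).ne'
  -- the normaliser of `V`
  let N : Subgroup G := Subgroup.setNormalizer V
  have hgN : g ∈ N := by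
    intro i
    refine ⟨hnorm i, fun hi => ?_⟩
    have himg : (fun j => g * j * g⁻¹) '' V = V := by
      refine Set.eq_of_subset_of_ncard_le ?_ (le_of_eq ?_) (Set.toFinite _)
      · rintro _ ⟨j, hj, rfl⟩
        exact hnorm j hj
      · exact (Set.ncard_image_of_injective _ fun a b h => by simpa using h).symm
    obtain ⟨j, hj, hje⟩ := himg.symm.subset hi
    obtain rfl : j = i := by simpa using hje
    exact hj
  have hx : Commute (g ^ m) u := by
    have hT : IsPGroup 2 (Subgroup.zpowers (g ^ m)) := by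
      refine IsPGroup.of_card (n := k) ?_
      rw [Nat.card_zpowers, orderOf_pow' _ hm.pos.ne', hgo, Nat.gcd_eq_right (dvd_mul_left _ _),
        Nat.mul_div_cancel _ hm.pos]
    obtain ⟨i, ⟨hi, hi2, hiu⟩, hfix⟩ := hB.setting.exists_fixed_conj hT
      (hB.odd_cen_invol hyc hu hu2) (fun x hx s hs => by
        have : x ∈ N := (Subgroup.zpowers_le.2 (pow_mem hgN m)) hx
        exact (this s).1 hs)
    exact hB.commute_invol_trans hyc (pow_mem hg m) hi hu hi2 hu2
      (hfix _ (Subgroup.mem_zpowers _)) hiu.symm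
  set r := g ^ 2 ^ k with hr
  have hrodd : Odd (orderOf r) := by
    refine hm.of_dvd_nat (orderOf_dvd_of_pow_eq_one ?_)
    rw [hr, ← pow_mul, ← hgo, pow_orderOf_eq_one]
  have hrne : r * u * r⁻¹ ≠ u := by
    intro e1
    have hrc : Commute r u := mul_inv_eq_iff_eq_mul.1 e1
    refine hne ?_
    have hgu : Commute g u := by
      obtain ⟨a, b, hab⟩ : ∃ a b : ℤ, (m : ℤ) * a + ((2 ^ k : ℕ) : ℤ) * b = 1 :=
        ⟨_, _, ((Nat.gcd_eq_gcd_ab m (2 ^ k)).symm.trans (by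
          rw [Nat.Coprime.gcd_eq_one ((Nat.coprime_two_right.2 hm).pow_right k)]; rfl))⟩
      have h3 : g = (g ^ m) ^ a * r ^ b := by
        rw [hr, ← zpow_natCast g m, ← zpow_natCast g (2 ^ k), ← zpow_mul, ← zpow_mul, ← zpow_add,
          hab, zpow_one]
      rw [h3]
      exact (hx.zpow_left a).mul_left (hrc.zpow_left b)
    rw [← hguv, hgu.eq, mul_inv_cancel_right]
  have hrV : r * u * r⁻¹ ∈ V := ((pow_mem hgN (2 ^ k)) u).1 ⟨hu, hu2, Commute.refl u⟩
  refine ⟨r, pow_mem hg _, hrodd, hrne, hrV.2.2, fun i hi hi2 hiu hri => hrne ?_⟩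
  have h4 : r ^ 4 = 1 := hB.pow_four_of_commute (hB.isBad_of_lineStab hyc hi hi2)
    (mem_lineStab.1 hi).1 hyc (mem_lineStab.1 hi).2.1 (pow_mem hg _) hri
  have h5 : orderOf r = 1 := Nat.eq_one_of_dvd_coprimes
    ((Nat.coprime_two_right.2 hrodd).pow_right 2) dvd_rfl (orderOf_dvd_of_pow_eq_one h4)
  rw [orderOf_eq_one_iff.1 h5, one_mul, inv_one, mul_one]

/-- With a rotation the elements at `c` centralising the members are transitive on the other
points. -/
theorem exists_cen_smul {u r : G} (hu : u ∈ lineStab Z c y) (hu2 : orderOf u = 2)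
    (hr : r ∈ lineStab Z c y) (hrodd : Odd (orderOf r)) (hr1 : r ≠ 1) {z : Ω} (hz : z ≠ c) :
    ∃ g : G, g • c = c ∧ (∀ a ∈ memGroup Z c, Commute a g) ∧ g • y = z := by
  classical
  obtain ⟨p, hp, hpd⟩ := Nat.exists_prime_and_dvd (fun h => hr1 (orderOf_eq_one_iff.1 h))
  haveI := Fact.mk hp
  have hp2 : p ≠ 2 := fun h => hrodd.not_two_dvd_nat (h ▸ hpd)
  set s := r ^ (orderOf r / p) with hs
  have hso : orderOf s = p := orderOf_pow_orderOf_div (orderOf_pos r).ne' hpd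
  have hsP : s ∈ lineStab Z c y := pow_mem hr _
  have hub := hB.isBad_of_lineStab hyc hu hu2
  obtain ⟨huc, huy, -⟩ := mem_lineStab.1 hu
  have hsc := (mem_lineStab.1 hsP).1
  let K : Subgroup G := stabilizer G c ⊓ Subgroup.centralizer (memGroup Z c)
  have hKmem : ∀ g, g ∈ K ↔ g • c = c ∧ ∀ a ∈ memGroup Z c, Commute a g := fun g => by
    simp only [K, Subgroup.mem_inf, Subgroup.mem_centralizer_iff, mem_stabilizer_iff]
    rfl
  suffices h : z ∈ MulAction.orbit K y by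
    obtain ⟨⟨g, hg⟩, hgz⟩ := h
    exact ⟨g, ((hKmem g).1 hg).1, ((hKmem g).1 hg).2, hgz⟩
  by_contra hzO
  have hsK : s ∈ K := by
    refine (hKmem s).2 ⟨hsc, fun a ha => ?_⟩
    rcases (hB.setting.mem_memGroup_iff hB.faith hB.case.comm).1 ha with rfl | ha
    · exact Commute.one_left s
    · exact (mem_lineStab.1 hsP).2.2 a ha
  have hOc : ∀ x : Ω, x ≠ c → ∀ t ∈ MulAction.orbit K x, t ≠ c := by
    rintro x hx _ ⟨⟨g, hg⟩, rfl⟩ h
    exact hx (MulAction.injective g (h.trans ((hKmem g).1 hg).1.symm))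
  -- orbit sizes
  have hcard : (MulAction.orbit K z).ncard = (MulAction.orbit K y).ncard := by
    obtain ⟨n, hnc, hny⟩ := hB.twoTrans c y z hyc hz
    have : MulAction.orbit K z = (fun t => n • t) '' MulAction.orbit K y := by
      ext t
      constructor
      · rintro ⟨⟨g, hg⟩, rfl⟩
        refine ⟨(n⁻¹ * g * n) • y, ⟨⟨n⁻¹ * g * n, ?_⟩, rfl⟩, ?_⟩
        · obtain ⟨hgc, hga⟩ := (hKmem g).1 hg
          refine (hKmem _).2 ⟨by rw [mul_smul, mul_smul, hnc, hgc, inv_smul_eq_iff, hnc], fun a ha => ?_⟩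
          have h2 := (hga _ (hB.conj_memGroup hnc ha)).eq
          calc a * (n⁻¹ * g * n) = n⁻¹ * (n * a * n⁻¹ * g) * n := by group
            _ = n⁻¹ * (g * (n * a * n⁻¹)) * n := by rw [h2]
            _ = n⁻¹ * g * n * a := by group
        · show n • (n⁻¹ * g * n) • y = g • z
          rw [mul_smul, mul_smul, smul_inv_smul, hny]
      · rintro ⟨_, ⟨⟨g, hg⟩, rfl⟩, rfl⟩
        refine ⟨⟨n * g * n⁻¹, ?_⟩, ?_⟩
        · obtain ⟨hgc, hga⟩ := (hKmem g).1 hg
          have hn' : n⁻¹ • c = c := inv_smul_eq_iff.2 hnc.symm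
          refine (hKmem _).2 ⟨by rw [mul_smul, mul_smul, hn', hgc, hnc], fun a ha => ?_⟩
          have h2 := (hga _ (hB.conj_memGroup hn' ha)).eq
          rw [inv_inv] at h2
          calc a * (n * g * n⁻¹) = n * (n⁻¹ * a * n * g) * n⁻¹ := by group
            _ = n * (g * (n⁻¹ * a * n)) * n⁻¹ := by rw [h2]
            _ = n * g * n⁻¹ * a := by group
        · show (n * g * n⁻¹) • z = n • g • y
          rw [mul_smul, mul_smul, inv_smul_eq_iff.2 hny.symm]
    rw [this, Set.ncard_image_of_injective _ (MulAction.injective n)]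
  -- counting modulo `p`
  obtain ⟨Q, hQ⟩ := hB.kernel u hub c huc
  have hQK : ∀ g ∈ Q, g ∈ K := fun g hg =>
    (hKmem g).2 ⟨hQ.fix g hg, fun a ha => hQ.central a ha g hg⟩
  have hline : ∀ t : Ω, u • t = t → t ≠ c → t ∈ MulAction.orbit K y := fun t ht htc => by
    obtain ⟨g, hg, rfl⟩ := hQ.trans y t huy ht hyc htc
    exact ⟨⟨g, hQK g hg⟩, rfl⟩
  have hsfix : ∀ t : Ω, t ≠ c → s • t = t → u • t = t := by
    intro t htc hst
    by_contra hut
    obtain ⟨w, hw, hwc, hwt⟩ := hB.exists_bad c t htc.symm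
    have h1 : s = 1 := hB.odd_fix_line hub huc hyc huy hsP (hso ▸ hp.odd_of_ne_two hp2) hw hwc hwt
      htc hut (by rw [hst, hwt])
    exact hp.ne_one (hso ▸ orderOf_eq_one_iff.2 h1)
  have hmod : ∀ x : Ω, x ≠ c →
      (MulAction.orbit K x).ncard ≡ {t ∈ MulAction.orbit K x | u • t = t}.ncard [MOD p] := by
    intro x hx
    let X := MulAction.orbit K x
    have hinv : ∀ g ∈ Subgroup.zpowers s, ∀ t ∈ X, g • t ∈ X := by
      rintro g hg _ ⟨⟨k, hk⟩, rfl⟩
      exact ⟨⟨g * k, mul_mem ((Subgroup.zpowers_le.2 hsK) hg) hk⟩, mul_smul _ _ _⟩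
    let act : MulAction (Subgroup.zpowers s) X :=
      { smul := fun g t => ⟨(g : G) • t.1, hinv _ g.2 _ t.2⟩
        one_smul := fun t => Subtype.ext (one_smul G t.1)
        mul_smul := fun g h t => Subtype.ext (mul_smul (g : G) (h : G) t.1) }
    have hP : IsPGroup p (Subgroup.zpowers s) :=
      IsPGroup.of_card (n := 1) (by rw [Nat.card_zpowers, hso, pow_one])
    have h1 := hP.card_modEq_card_fixedPoints X
    rw [Nat.card_coe_set_eq] at h1
    suffices h2 : Nat.card (MulAction.fixedPoints (Subgroup.zpowers s) X) =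
        {t ∈ MulAction.orbit K x | u • t = t}.ncard by rwa [h2] at h1
    rw [← Nat.card_coe_set_eq]
    refine Nat.card_congr ⟨fun t => ⟨t.1.1, t.1.2, hsfix _ (hOc x hx _ t.1.2)
      (congrArg Subtype.val (t.2 ⟨s, Subgroup.mem_zpowers s⟩))⟩, fun t => ⟨⟨t.1, t.2.1⟩, fun g => ?_⟩,
      fun t => rfl, fun t => rfl⟩
    refine Subtype.ext ?_
    show (g : G) • t.1 = t.1
    have hgP : (g : G) ∈ lineStab Z c y := (Subgroup.zpowers_le.2 hsP) g.2
    exact hB.stab_fix u hub c y hyc huc huy _ hgP _ t.2.2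
  have hy' := hmod y hyc
  have hz' := hmod z hz
  have hz0 : {t ∈ MulAction.orbit K z | u • t = t} = ∅ := by
    refine Set.eq_empty_of_forall_notMem fun t ⟨ht, hut⟩ => hzO ?_
    have h1 := MulAction.orbit_eq_iff.2 (hline t hut (hOc z hz t ht))
    rw [← h1, MulAction.orbit_eq_iff.2 ht]
    exact MulAction.mem_orbit_self z
  have hy0 : {t ∈ MulAction.orbit K y | u • t = t}.ncard = 2 ^ (e * 2) := by
    have h1 : {t ∈ MulAction.orbit K y | u • t = t} = fixedBy Ω u \ {c} := by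
      ext t
      exact ⟨fun ⟨h1, h2⟩ => ⟨h2, hOc y hyc t h1⟩, fun ⟨h1, h2⟩ => ⟨hline t h1 h2, h1⟩⟩
    rw [h1, Set.ncard_sdiff_singleton_of_mem (show c ∈ fixedBy Ω u from huc), hB.card_fix hub]
    exact Nat.add_sub_cancel _ _
  rw [hz0, Set.ncard_empty, hcard] at hz'
  rw [hy0] at hy'
  have h0 : p ∣ 2 ^ (e * 2) := (Nat.modEq_zero_iff_dvd).1 (hy'.symm.trans hz')
  exact hp2 ((Nat.prime_dvd_prime_iff_eq hp Nat.prime_two).1 (hp.dvd_of_dvd_pow h0))

end Frame

/-- With a rotation every member is a commutator of a translation with `u`. -/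
theorem exists_shift {c y : Ω} (hyc : y ≠ c) {u w r : G} (hu : u ∈ lineStab Z c y)
    (hw : w ∈ lineStab Z c y) (hu2 : orderOf u = 2) (hw2 : orderOf w = 2) (huw : ¬ Commute u w)
    (hr : r ∈ lineStab Z c y) (hrodd : Odd (orderOf r)) (hr1 : r ≠ 1) {a : G} (ha : a ∈ memAt Z c) :
    ∃ g ∈ shiftGroup Z c u, ⁅g, u⁆ = a := by
  have hub := hB.isBad_of_lineStab hyc hu hu2
  obtain ⟨huc, huy, -⟩ := mem_lineStab.1 hu
  obtain ⟨hab, habc, -, z, hzc, hz, -⟩ := hB.fixed_mul hub huc ha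
  obtain ⟨g, hgc, hgE, hgy⟩ := hB.exists_cen_smul hyc hu hu2 hr hrodd hr1 hzc
  have hconj : ∀ i ∈ lineStab Z c y, g * i * g⁻¹ ∈ lineStab Z c z := by
    intro i hi
    obtain ⟨hic, hiy, hiE⟩ := mem_lineStab.1 hi
    refine mem_lineStab.2 ⟨by rw [mul_smul, mul_smul, inv_smul_eq_iff.2 hgc.symm, hic, hgc],
      by rw [← hgy, smul_smul, inv_mul_cancel_right, mul_smul, hiy], fun b hb => ?_⟩
    have hgb := hgE b (Subgroup.subset_closure hb)
    exact (hgb.mul_right (hiE b hb)).mul_right hgb.inv_right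
  obtain ⟨d, hd, hdg⟩ := hB.exists_conj_of_noncomm hzc (hconj u hu) (hconj w hw)
    ((orderOf_conj_eq g u).trans hu2) ((orderOf_conj_eq g w).trans hw2) (fun h => huw (by
      have h2 := h.eq
      show u * w = w * u
      calc u * w = g⁻¹ * (g * u * g⁻¹ * (g * w * g⁻¹)) * g := by group
        _ = g⁻¹ * (g * w * g⁻¹ * (g * u * g⁻¹)) * g := by rw [h2]
        _ = w * u := by group))
    (hconj u hu) (hB.mem_lineStab_of_bad hab habc hz) ((orderOf_conj_eq g u).trans hu2) hab.1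
  have hua := hB.case.central u hub c huc a ha
  have hcm : ⁅d * g, u⁆ = a := by
    rw [commutatorElement_def, mul_inv_rev,
      show d * g * u * (g⁻¹ * d⁻¹) * u⁻¹ = d * (g * u * g⁻¹) * d⁻¹ * u⁻¹ by group, hdg, hua.eq,
      mul_inv_cancel_right]
  refine ⟨d * g, ⟨by rw [mul_smul, hgc, (mem_lineStab.1 hd).1], fun b hb => ?_,
    hcm ▸ Subgroup.subset_closure ha⟩, hcm⟩
  refine Commute.mul_right ?_ (hgE b hb)
  rcases (hB.setting.mem_memGroup_iff hB.faith hB.case.comm).1 hb with rfl | hb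
  · exact Commute.one_left d
  · exact (mem_lineStab.1 hd).2.2 b hb

section Equal

variable {c y : Ω} (hyc : y ≠ c) {u w r : G}
  (hu : u ∈ lineStab Z c y) (hw : w ∈ lineStab Z c y) (hu2 : orderOf u = 2) (hw2 : orderOf w = 2)
  (huw : ¬ Commute u w) (hr : r ∈ lineStab Z c y) (hrodd : Odd (orderOf r)) (hr1 : r ≠ 1)
include hyc hu hu2

/-- A translation of `u` commuting with it commutes with the involutions commuting with `u`. -/
theorem shift_ker_commute {g : G} (hg : g ∈ shiftGroup Z c u) (hgu : Commute g u) {i : G}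
    (hi : i ∈ lineStab Z c y) (hi2 : orderOf i = 2) (hiu : Commute i u) : Commute g i := by
  have hub := hB.isBad_of_lineStab hyc hu hu2
  obtain ⟨huc, huy, -⟩ := mem_lineStab.1 hu
  obtain ⟨Q, hQ⟩ := hB.kernel u hub c huc
  obtain ⟨x, hx, p, hp, hpu, rfl⟩ := hB.shift_ker hub huc hyc huy hQ hg hgu
  exact (hB.commute_stab_kernel hub hyc huc huy hQ hi hx).symm.mul_left
    (hB.commute_invol hub huc hyc huy hp hpu hi (mul_self_eq_one hi2) hiu)

/-- The conjugate by a translation of an involution commuting with `u` is one times a member. -/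
theorem exists_shift_image {g : G} (hg : g ∈ shiftGroup Z c u) {i : G} (hi : i ∈ lineStab Z c y)
    (hi2 : orderOf i = 2) (hiu : Commute i u) :
    ∃ j, (j ∈ lineStab Z c y ∧ orderOf j = 2 ∧ Commute j u) ∧
      j⁻¹ * (g * i * g⁻¹) ∈ memGroup Z c := by
  classical
  have hub := hB.isBad_of_lineStab hyc hu hu2
  obtain ⟨huc, huy, -⟩ := mem_lineStab.1 hu
  rcases (hB.setting.mem_memGroup_iff hB.faith hB.case.comm).1 hg.2.2 with h1 | ha
  · refine ⟨i, ⟨hi, hi2, hiu⟩, ?_⟩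
    rw [(hB.shift_ker_commute hyc hu hu2 hg (commutatorElement_eq_one_iff_commute.1 h1) hi hi2 hiu).eq,
      mul_inv_cancel_right, inv_mul_cancel]
    exact one_mem _
  set a := ⁅g, u⁆ with hadef
  have hua : Commute u a := hB.case.central u hub c huc a ha
  have hgu : g * u * g⁻¹ = u * a := by
    rw [hua.eq, hadef, commutatorElement_def]; group
  set z := g • y with hzdef
  have hzc : z ≠ c := fun h => hyc (MulAction.injective g (h.trans hg.1.symm))
  have hz : (u * a) • z = z := by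
    rw [← hgu, hzdef, smul_smul, inv_mul_cancel_right, mul_smul, huy]
  let V := {j : G | j ∈ lineStab Z c y ∧ orderOf j = 2 ∧ Commute j u}
  let V' := (fun j => g * j * g⁻¹) '' V
  have hconj : ∀ j ∈ lineStab Z c y, g * j * g⁻¹ ∈ lineStab Z c z := by
    intro j hj
    obtain ⟨hjc, hjy, hjE⟩ := mem_lineStab.1 hj
    refine mem_lineStab.2 ⟨by rw [mul_smul, mul_smul, inv_smul_eq_iff.2 hg.1.symm, hjc, hg.1],
      by rw [hzdef, smul_smul, inv_mul_cancel_right, mul_smul, hjy], fun b hb => ?_⟩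
    have hgb := hg.2.1 b (Subgroup.subset_closure hb)
    exact (hgb.mul_right (hjE b hb)).mul_right hgb.inv_right
  have hb : ∀ j : V, ∃ b ∈ memAt Z c, IsBad Ω ((j : G) * b) ∧ ((j : G) * b) • z = z := fun j =>
    hB.twin hub huc hyc huy j.2.1 j.2.2.1 j.2.2.2 ha hzc hz
  choose b hbm hbb hbz using hb
  have hV' : ∀ j : V, (j : G) * b j ∈ V' := by
    intro j
    have hjb : Commute (j : G) (b j) :=
      ((mem_lineStab.1 j.2.1).2.2 _ (hbm j)).symm
    have hmem : (j : G) * b j ∈ lineStab Z c z :=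
      hB.mem_lineStab_of_bad (hbb j) (by rw [mul_smul, (hbm j).2, (mem_lineStab.1 j.2.1).1]) (hbz j)
    refine ⟨g⁻¹ * ((j : G) * b j) * g, ⟨?_, ?_, ?_⟩, by group⟩
    · have hg' : g⁻¹ • z = y := inv_smul_smul g y
      obtain ⟨hkc, hkz, hkE⟩ := mem_lineStab.1 hmem
      refine mem_lineStab.2 ⟨by rw [mul_smul, mul_smul, hg.1, hkc, inv_smul_eq_iff, hg.1],
        by rw [mul_smul, mul_smul, ← hzdef, hkz, hg'], fun d hd => ?_⟩
      have hgd := hg.2.1 d (Subgroup.subset_closure hd)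
      exact (hgd.inv_right.mul_right (hkE d hd)).mul_right hgd
    · have h := orderOf_conj_eq g⁻¹ ((j : G) * b j)
      rw [inv_inv] at h
      rw [h]
      exact (hbb j).1
    · have h1 : Commute ((j : G) * b j) (u * a) :=
        (j.2.2.2.mul_right ((mem_lineStab.1 j.2.1).2.2 a ha).symm).mul_left
          ((hB.case.central u hub c huc (b j) (hbm j)).symm.mul_right
            (hB.case.comm c (b j) (hbm j) a ha))
      show _ * u = u * _
      calc g⁻¹ * ((j : G) * b j) * g * u = g⁻¹ * ((j : G) * b j * (g * u * g⁻¹)) * g := by group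
        _ = g⁻¹ * (g * u * g⁻¹ * ((j : G) * b j)) * g := by rw [hgu, h1.eq]
        _ = u * (g⁻¹ * ((j : G) * b j) * g) := by group
  have hinj : Function.Injective fun j : V => (⟨(j : G) * b j, hV' j⟩ : V') := by
    intro j k h
    have h1 : (j : G) * b j = k * b k := congrArg Subtype.val h
    have h2 : (k : G)⁻¹ * j = b k * (b j)⁻¹ := by
      rw [eq_mul_inv_iff_mul_eq, mul_assoc, h1, inv_mul_cancel_left]
    have h3 := hB.setting.eq_one_of_memGroup_fix hB.faith hB.case.comm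
      (g := (k : G)⁻¹ * j) (x := y) (by
        rw [h2]
        exact mul_mem (Subgroup.subset_closure (hbm k)) (inv_mem (Subgroup.subset_closure (hbm j))))
      (mem_lineStab.1 (mul_mem (inv_mem k.2.1) j.2.1)).2.1 hyc
    exact Subtype.ext (inv_mul_eq_one.1 h3).symm
  have hbij : Function.Bijective fun j : V => (⟨(j : G) * b j, hV' j⟩ : V') :=
    (Nat.bijective_iff_injective_and_card _).2 ⟨hinj, by
      rw [Nat.card_coe_set_eq, Nat.card_coe_set_eq]
      exact (Set.ncard_image_of_injective _ fun x x' h => by simpa using h).symm⟩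
  obtain ⟨j, hj⟩ := hbij.2 ⟨g * i * g⁻¹, i, ⟨hi, hi2, hiu⟩, rfl⟩
  refine ⟨j, j.2, ?_⟩
  rw [← show (j : G) * b j = g * i * g⁻¹ from congrArg Subtype.val hj, inv_mul_cancel_left]
  exact Subgroup.subset_closure (hbm j)

include hw hw2 huw hr hrodd hr1 in
/-- With a rotation the translations of `u` are translations of every involution commuting with
it. -/
theorem shift_le_of_commute {i : G} (hi : i ∈ lineStab Z c y) (hi2 : orderOf i = 2)
    (hiu : Commute i u) {g : G} (hg : g ∈ shiftGroup Z c u) : g ∈ shiftGroup Z c i := by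
  classical
  have hub := hB.isBad_of_lineStab hyc hu hu2
  obtain ⟨huc, huy, -⟩ := mem_lineStab.1 hu
  let V := {j : G | j ∈ lineStab Z c y ∧ orderOf j = 2 ∧ Commute j u}
  have huniq : ∀ j k : V, (j : G)⁻¹ * k ∈ memGroup Z c → j = k := fun j k h =>
    Subtype.ext (inv_mul_eq_one.1 (hB.setting.eq_one_of_memGroup_fix hB.faith hB.case.comm h
      (mem_lineStab.1 (mul_mem (inv_mem j.2.1) k.2.1)).2.1 hyc))
  have hex : ∀ (g : shiftGroup Z c u) (j : V),
      ∃ k : V, (k : G)⁻¹ * ((g : G) * j * (g : G)⁻¹) ∈ memGroup Z c := fun g j => by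
    obtain ⟨k, hk, hk'⟩ := hB.exists_shift_image hyc hu hu2 g.2 j.2.1 j.2.2.1 j.2.2.2
    exact ⟨⟨k, hk⟩, hk'⟩
  choose σ hσ using hex
  have heq : ∀ (g : shiftGroup Z c u) (j k : V), (k : G)⁻¹ * ((g : G) * j * (g : G)⁻¹) ∈ memGroup Z c →
      σ g j = k := fun g j k hk => huniq _ _ (by
    have := mul_mem (hσ g j) (inv_mem hk)
    rwa [mul_inv_rev, inv_inv, mul_assoc, mul_inv_cancel_left] at this)
  have hmul : ∀ g g' j, σ (g * g') j = σ g (σ g' j) := fun g g' j => by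
    refine heq _ _ _ ?_
    have h2 := g.2.2.1 _ (hσ g' j)
    have := mul_mem (hσ g (σ g' j)) (hσ g' j)
    have e1 : (σ g (σ g' j) : G)⁻¹ * ((g : G) * (σ g' j : G) * (g : G)⁻¹) *
        ((σ g' j : G)⁻¹ * ((g' : G) * j * (g' : G)⁻¹)) =
        (σ g (σ g' j) : G)⁻¹ * (((g * g' : shiftGroup Z c u) : G) * j *
          ((g * g' : shiftGroup Z c u) : G)⁻¹) := by
      rw [Subgroup.coe_mul]
      set b := (σ g' j : G)⁻¹ * ((g' : G) * j * (g' : G)⁻¹) with hb
      have e2 : (g' : G) * j * (g' : G)⁻¹ = (σ g' j : G) * b := by rw [hb, mul_inv_cancel_left]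
      calc _ = (σ g (σ g' j) : G)⁻¹ * ((g : G) * (σ g' j : G) * ((g : G)⁻¹ * b)) := by group
        _ = (σ g (σ g' j) : G)⁻¹ * ((g : G) * (σ g' j : G) * (b * (g : G)⁻¹)) := by
          rw [h2.inv_right.eq]
        _ = (σ g (σ g' j) : G)⁻¹ * ((g : G) * ((σ g' j : G) * b) * (g : G)⁻¹) := by group
        _ = _ := by rw [← e2]; group
    rwa [e1] at this
  have hker : ∀ g : shiftGroup Z c u, Commute (g : G) u → ∀ j, σ g j = j := fun g hgu j => by
    refine heq _ _ _ ?_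
    rw [(hB.shift_ker_commute hyc hu hu2 g.2 hgu j.2.1 j.2.2.1 j.2.2.2).eq, mul_inv_cancel_right,
      inv_mul_cancel]
    exact one_mem _
  obtain ⟨J, hJ⟩ := hB.torus c y hyc
  have hJu : ∀ t ∈ J, Commute t u := fun t ht => hJ.centralised t ht u hu
  have hconst : ∀ g g' : shiftGroup Z c u, ⁅(g : G), u⁆ ∈ memAt Z c → ⁅(g' : G), u⁆ ∈ memAt Z c →
      ∀ j, σ g' j = σ g j := by
    intro g g' hg1 hg1' j
    obtain ⟨t, ht, htg⟩ := hJ.trans _ hg1 _ hg1'
    have htc := (hJ.fix t ht).1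
    have htu : t * u * t⁻¹ = u := by rw [(hJu t ht).eq, mul_inv_cancel_right]
    obtain ⟨h1, h2⟩ := hB.conj_shift htc g.2
    rw [htu] at h1 h2
    set g'' : shiftGroup Z c u := ⟨t * g * t⁻¹, h1⟩
    have hk : Commute ((g''⁻¹ * g' : shiftGroup Z c u) : G) u := by
      refine commutatorElement_eq_one_iff_commute.1 ?_
      have h3 := commutator_shift_mul g''.2 (g''⁻¹ * g' : shiftGroup Z c u).2
      rw [← Subgroup.coe_mul, mul_inv_cancel_left, show ⁅(g'' : G), u⁆ = ⁅(g' : G), u⁆ from h2.trans htg]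
        at h3
      exact mul_eq_right.1 h3.symm
    have h4 : σ g' j = σ g'' j := by
      conv_lhs => rw [← mul_inv_cancel_left g'' g', hmul, hker _ hk j]
    rw [h4]
    refine heq _ _ _ ?_
    have hk' : ∀ k : V, t * k * t⁻¹ = k := fun k => by
      rw [(hJ.centralised t ht k k.2.1).eq, mul_inv_cancel_right]
    have h5 := hB.conj_memGroup htc (hσ g j)
    have h6 : t * ((σ g j : G)⁻¹ * ((g : G) * j * (g : G)⁻¹)) * t⁻¹ =
        (t * σ g j * t⁻¹)⁻¹ * ((g'' : G) * (t * j * t⁻¹) * (g'' : G)⁻¹) := by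
      show _ = _ * (t * g * t⁻¹ * _ * (t * g * t⁻¹)⁻¹)
      group
    rw [h6, hk', hk'] at h5
    exact h5
  have hid : ∀ g : shiftGroup Z c u, ∀ j, σ g j = j := by
    intro g j
    rcases (hB.setting.mem_memGroup_iff hB.faith hB.case.comm).1 g.2.2.2 with h1 | ha
    · exact hker g (commutatorElement_eq_one_iff_commute.1 h1) j
    have hbig : 1 < (memAt Z c).ncard := by
      have h1 := hB.case.card_mem c
      have : 2 ^ 2 ≤ 2 ^ e := Nat.pow_le_pow_right two_pos hB.case.two_le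
      omega
    obtain ⟨b, hb, hba⟩ := Set.exists_ne_of_one_lt_ncard hbig ⁅(g : G), u⁆
    obtain ⟨g', hg', hgb⟩ := hB.exists_shift hyc hu hw hu2 hw2 huw hr hrodd hr1 hb
    set g2 : shiftGroup Z c u := ⟨g', hg'⟩
    have hgg : ⁅((g2 * g : shiftGroup Z c u) : G), u⁆ ∈ memAt Z c := by
      have h1 : ⁅((g2 * g : shiftGroup Z c u) : G), u⁆ = ⁅(g : G), u⁆ * b := by
        rw [Subgroup.coe_mul, commutator_shift_mul g2.2 g.2, show ⁅(g2 : G), u⁆ = b from hgb]
      rcases (hB.setting.mem_memGroup_iff hB.faith hB.case.comm).1 (g2 * g : shiftGroup Z c u).2.2.2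
        with h2 | h2
      · rw [h1] at h2
        exact absurd ((eq_inv_of_mul_eq_one_right h2).trans
          (inv_eq_self_of_involution (hB.setting.invol _ ha.1))) hba
      · exact h2
    have h7 := hconst g2 (g2 * g) (show ⁅g', u⁆ ∈ memAt Z c from hgb ▸ hb) hgg j
    rw [hmul] at h7
    have hinj : Function.Injective (σ g2) := fun k k' h => by
      have h8 := congrArg (σ g2⁻¹) h
      rwa [← hmul, ← hmul, inv_mul_cancel, hker 1 (Commute.one_left u), hker 1 (Commute.one_left u)]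
        at h8
    exact hinj h7
  have h9 := hσ ⟨g, hg⟩ ⟨i, hi, hi2, hiu⟩
  rw [hid ⟨g, hg⟩ ⟨i, hi, hi2, hiu⟩] at h9
  refine ⟨hg.1, hg.2.1, ?_⟩
  have h10 := hB.conj_memGroup (mem_lineStab.1 hi).1 h9
  rwa [show i * (i⁻¹ * (g * i * g⁻¹)) * i⁻¹ = ⁅g, i⁆ by rw [commutatorElement_def]; group] at h10

end Equal

/-- If two distinct bad involutions fixing two points commute then all of them commute. -/
theorem commute_of_four {c y : Ω} (hyc : y ≠ c) {u v w : G} (hu : IsBad Ω u) (hv : IsBad Ω v)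
    (hw : IsBad Ω w) (huc : u • c = c) (huy : u • y = y) (hvc : v • c = c) (hvy : v • y = y)
    (hwc : w • c = c) (hwy : w • y = y) (huv : Commute u v) (hne : u ≠ v) : Commute u w := by
  classical
  by_contra huw
  have huP := hB.mem_lineStab_of_bad hu huc huy
  have hwP := hB.mem_lineStab_of_bad hw hwc hwy
  obtain ⟨r, hr, hrodd, hrne, hrcm, hrfree⟩ :=
    hB.exists_rot hyc huP (hB.mem_lineStab_of_bad hv hvc hvy) hwP hu.1 hv.1 hw.1 huv hne huw
  have hr1 : r ≠ 1 := fun h => hrne (by rw [h, one_mul, inv_one, mul_one])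
  obtain ⟨hrc, -, hrE⟩ := mem_lineStab.1 hr
  have hrE' : ∀ a ∈ memGroup Z c, Commute a r := fun a ha => by
    rcases (hB.setting.mem_memGroup_iff hB.faith hB.case.comm).1 ha with rfl | ha
    · exact Commute.one_left r
    · exact hrE a ha
  set v' := r * u * r⁻¹ with hv'
  have hv'P : v' ∈ lineStab Z c y := mul_mem (mul_mem hr huP) (inv_mem hr)
  have hv'2 : orderOf v' = 2 := (orderOf_conj_eq r u).trans hu.1
  have hv'w : ¬ Commute v' w := fun h =>
    huw (hB.commute_invol_trans hyc huP hv'P hwP hv'2 hw.1 hrcm.symm h.symm)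
  have hle : ∀ g ∈ shiftGroup Z c u, g ∈ shiftGroup Z c v' := fun g hg =>
    hB.shift_le_of_commute hyc huP hwP hu.1 hw.1 huw hr hrodd hr1 hv'P hv'2 hrcm hg
  have hge : ∀ g ∈ shiftGroup Z c v', g ∈ shiftGroup Z c u := fun g hg =>
    hB.shift_le_of_commute hyc hv'P hwP hv'2 hw.1 hv'w hr hrodd hr1 huP hu.1 hrcm.symm hg
  obtain ⟨J, hJ⟩ := hB.torus c y hyc
  have hJu : ∀ t ∈ J, t * u * t⁻¹ = u := fun t ht => by
    rw [(hJ.centralised t ht u huP).eq, mul_inv_cancel_right]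
  have hJv : ∀ t ∈ J, t * v' * t⁻¹ = v' := fun t ht => by
    rw [(hJ.centralised t ht v' hv'P).eq, mul_inv_cancel_right]
  obtain ⟨a₁, ha₁⟩ := hB.setting.exists_memAt c
  obtain ⟨g₁, hg₁, hg₁a⟩ := hB.exists_shift hyc huP hwP hu.1 hw.1 huw hr hrodd hr1 ha₁
  have ha₁1 : a₁ ≠ 1 := ne_one_of_involution (hB.setting.invol _ ha₁.1)
  have hv'm : ⁅g₁, v'⁆ ∈ memAt Z c := by
    rcases (hB.setting.mem_memGroup_iff hB.faith hB.case.comm).1 (hle g₁ hg₁).2.2 with h1 | h1
    · exfalso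
      have h2 := hB.shift_ker_commute hyc hv'P hv'2 (hle g₁ hg₁)
        (commutatorElement_eq_one_iff_commute.1 h1) huP hu.1 hrcm.symm
      exact ha₁1 (hg₁a ▸ commutatorElement_eq_one_iff_commute.2 h2)
    · exact h1
  obtain ⟨j₀, hj₀, hj₀a⟩ := hJ.trans a₁ ha₁ _ hv'm
  -- the commutators with the two involutions
  have hrel : ∀ g ∈ shiftGroup Z c u, ⁅g, v'⁆ = j₀ * ⁅g, u⁆ * j₀⁻¹ := by
    intro g hg
    rcases (hB.setting.mem_memGroup_iff hB.faith hB.case.comm).1 hg.2.2 with h1 | h1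
    · rw [h1, mul_one, mul_inv_cancel, commutatorElement_eq_one_iff_commute]
      exact hB.shift_ker_commute hyc huP hu.1 hg (commutatorElement_eq_one_iff_commute.1 h1) hv'P
        hv'2 hrcm
    obtain ⟨t, ht, hta⟩ := hJ.trans a₁ ha₁ _ h1
    have htc := (hJ.fix t ht).1
    obtain ⟨hs, hsu⟩ := hB.conj_shift htc hg₁
    rw [hJu t ht] at hs hsu
    obtain ⟨-, hsv⟩ := hB.conj_shift htc (hle g₁ hg₁)
    rw [hJv t ht] at hsv
    set k := (t * g₁ * t⁻¹)⁻¹ * g with hk
    have hkmem : k ∈ shiftGroup Z c u := mul_mem (inv_mem hs) hg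
    have hg2 : g = t * g₁ * t⁻¹ * k := by rw [hk, mul_inv_cancel_left]
    have hku : Commute k u := by
      refine commutatorElement_eq_one_iff_commute.1 ?_
      have h3 := commutator_shift_mul hs hkmem
      rw [← hg2, hsu, hg₁a, hta] at h3
      exact mul_eq_right.1 h3.symm
    have hkv := hB.shift_ker_commute hyc huP hu.1 hkmem hku hv'P hv'2 hrcm
    rw [hg2, commutator_shift_mul (hle _ hs) (hle _ hkmem), commutator_shift_mul hs hkmem,
      commutatorElement_eq_one_iff_commute.2 hkv, commutatorElement_eq_one_iff_commute.2 hku,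
      one_mul, one_mul, hsu, hsv, hg₁a, ← hj₀a]
    have htj : t * j₀ = j₀ * t :=
      congrArg Subtype.val (hJ.cyclic.isMulCommutative.is_comm.comm (⟨t, ht⟩ : J) ⟨j₀, hj₀⟩)
    calc t * (j₀ * a₁ * j₀⁻¹) * t⁻¹ = (t * j₀) * a₁ * (t * j₀)⁻¹ := by group
      _ = (j₀ * t) * a₁ * (j₀ * t)⁻¹ := by rw [htj]
      _ = j₀ * (t * a₁ * t⁻¹) * j₀⁻¹ := by group
  have hj₀1 : j₀ ≠ 1 := by
    rintro rfl
    rw [one_mul, inv_one, mul_one] at hj₀a
    set x := u * v' with hx
    have hxP : x ∈ lineStab Z c y := mul_mem huP hv'P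
    have hx2 : orderOf x = 2 := by
      refine orderOf_eq_two_iff_mul.2 ⟨fun h => hrne ?_, ?_⟩
      · exact (eq_inv_of_mul_eq_one_right h).trans (inv_eq_self_of_involution hu.1)
      · rw [hx, mul_assoc, ← mul_assoc v', hrcm.eq, mul_assoc u v', mul_self_eq_one hv'2, mul_one,
          mul_self_eq_one hu.1]
    have hxu : Commute x u := (Commute.refl u).mul_left hrcm
    have hxs : g₁ ∈ shiftGroup Z c x :=
      hB.shift_le_of_commute hyc huP hwP hu.1 hw.1 huw hr hrodd hr1 hxP hx2 hxu hg₁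
    have hgx : Commute g₁ x := by
      have h1 : g₁ * u * g₁⁻¹ = a₁ * u := by rw [← hg₁a, commutatorElement_def]; group
      have h2 : g₁ * v' * g₁⁻¹ = a₁ * v' := by rw [hj₀a, commutatorElement_def]; group
      refine mul_inv_eq_iff_eq_mul.1 ?_
      calc g₁ * x * g₁⁻¹ = (g₁ * u * g₁⁻¹) * (g₁ * v' * g₁⁻¹) := by rw [hx]; group
        _ = (u * a₁) * (a₁ * v') := by rw [h1, h2, (hB.case.central u hu c huc a₁ ha₁).eq]
        _ = u * (a₁ * a₁) * v' := by group
        _ = x := by rw [mul_self_eq_one (hB.setting.invol _ ha₁.1), mul_one]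
    have h3 := hB.shift_ker_commute hyc hxP hx2 hxs hgx huP hu.1 hxu.symm
    exact ha₁1 (hg₁a ▸ commutatorElement_eq_one_iff_commute.2 h3)
  set k₀ := j₀ * r with hk₀
  have hj₀c := (hJ.fix j₀ hj₀).1
  have hk₀c : k₀ • c = c := by rw [hk₀, mul_smul, hrc, hj₀c]
  have hk₀inv : k₀⁻¹ • c = c := inv_smul_eq_iff.2 hk₀c.symm
  have hrj : Commute r j₀ := (hJ.centralised j₀ hj₀ r hr).symm
  have hact : ∀ g ∈ shiftGroup Z c u,
      k₀ * g * k₀⁻¹ ∈ shiftGroup Z c u ∧ ⁅k₀ * g * k₀⁻¹, u⁆ = ⁅g, u⁆ := by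
    intro g hg
    obtain ⟨h1, h2⟩ := hB.conj_shift hrc hg
    rw [← hv'] at h1 h2
    have h3 := hge _ h1
    obtain ⟨h4, h5⟩ := hB.conj_shift hj₀c h3
    rw [hJu j₀ hj₀] at h4 h5
    have e1 : k₀ * g * k₀⁻¹ = j₀ * (r * g * r⁻¹) * j₀⁻¹ := by rw [hk₀]; group
    rw [e1]
    refine ⟨h4, h5.trans ?_⟩
    rw [← hrel _ h3, h2, ← (hrE' _ hg.2.2).eq, mul_inv_cancel_right]
  have hactE : ∀ a ∈ memGroup Z c, k₀ * a * k₀⁻¹ = j₀ * a * j₀⁻¹ := fun a ha => by
    rw [hk₀, mul_inv_rev, show j₀ * r * a * (r⁻¹ * j₀⁻¹) = j₀ * (r * a * r⁻¹) * j₀⁻¹ by group,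
      ← (hrE' a ha).eq, mul_inv_cancel_right]
  have hEfree : ∀ a ∈ memGroup Z c, k₀ * a * k₀⁻¹ = a → a = 1 := fun a ha h => by
    rcases (hB.setting.mem_memGroup_iff hB.faith hB.case.comm).1 ha with h1 | h1
    · exact h1
    · exact absurd (hJ.regular j₀ hj₀ a h1 ((hactE a ha).symm.trans h)) hj₀1
  obtain ⟨Q, hQ⟩ := hB.kernel u hu c huc
  have hfpf : ∀ k ∈ shiftGroup Z c u, Commute k u → k₀ * k * k₀⁻¹ = k → k = 1 := by
    intro k hk hku hfix
    obtain ⟨x, hx, p, hp, hpu, rfl⟩ := hB.shift_ker hu huc hyc huy hQ hk hku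
    have hrx : r * x * r⁻¹ = x := by
      rw [(hB.commute_stab_kernel hu hyc huc huy hQ hr hx).eq, mul_inv_cancel_right]
    have hrp : r * p * r⁻¹ ∈ lineStab Z c y := mul_mem (mul_mem hr hp) (inv_mem hr)
    have e1 : k₀ * (x * p) * k₀⁻¹ = (j₀ * x * j₀⁻¹) * (r * p * r⁻¹) := by
      calc k₀ * (x * p) * k₀⁻¹ = j₀ * (r * x * r⁻¹) * ((r * p * r⁻¹) * j₀⁻¹) := by rw [hk₀]; group
        _ = j₀ * x * (j₀⁻¹ * (r * p * r⁻¹)) := by
          rw [hrx, ((hJ.centralised j₀ hj₀ _ hrp).inv_left).eq]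
        _ = _ := by group
    obtain ⟨h1, h2⟩ := hB.decomp_unique hyc hQ (hB.torus_norm_kernel hu huc huy hQ hJ hj₀ hx) hx
      hrp hp (e1.symm.trans hfix)
    have hxE := hB.torus_free_kernel hu huc huy hQ hJ hj₀ hj₀1 hx
      (by rw [h1, inv_mul_cancel]; exact one_mem _)
    have hx1 : x = 1 := hEfree x hxE ((hactE x hxE).trans h1)
    subst hx1
    rw [one_mul]
    have hp4 := hB.pow_four_of_commute hu huc hyc huy hp hpu
    have hrpc : Commute r p := mul_inv_eq_iff_eq_mul.1 h2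
    by_contra hp1
    by_cases hp2 : p * p = 1
    · exact hrfree p hp (orderOf_eq_two_iff_mul.2 ⟨hp1, hp2⟩) hpu hrpc
    · refine hrfree (p * p) (mul_mem hp hp) (orderOf_eq_two_iff_mul.2 ⟨hp2, ?_⟩) (hpu.mul_left hpu)
        (hrpc.mul_right hrpc)
      rw [← hp4, pow_succ, pow_succ, pow_two, mul_assoc, mul_assoc, mul_assoc]
  -- a fixed translation over `a₁`
  obtain ⟨w₀, hw₀, hw₀a, hw₀fix⟩ :
      ∃ w₀ ∈ shiftGroup Z c u, ⁅w₀, u⁆ = a₁ ∧ k₀ * w₀ * k₀⁻¹ = w₀ := by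
    let X := {k : G | k ∈ shiftGroup Z c u ∧ Commute k u}
    have hmaps : ∀ k ∈ X, k⁻¹ * (k₀ * k * k₀⁻¹) ∈ X := by
      rintro k ⟨hk, hku⟩
      obtain ⟨h1, h2⟩ := hact k hk
      refine ⟨mul_mem (inv_mem hk) h1, hku.inv_left.mul_left ?_⟩
      exact commutatorElement_eq_one_iff_commute.1
        (h2.trans (commutatorElement_eq_one_iff_commute.2 hku))
    have hinj : Function.Injective fun k : X => (⟨_, hmaps k k.2⟩ : X) := by
      rintro ⟨k, hk, hku⟩ ⟨l, hl, hlu⟩ h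
      have h1 : k⁻¹ * (k₀ * k * k₀⁻¹) = l⁻¹ * (k₀ * l * k₀⁻¹) := congrArg Subtype.val h
      have h3 : l * k⁻¹ = (k₀ * l * k₀⁻¹) * (k₀ * k * k₀⁻¹)⁻¹ := by
        rw [eq_mul_inv_iff_mul_eq, mul_assoc, h1, mul_inv_cancel_left]
      have h2 : k₀ * (l * k⁻¹) * k₀⁻¹ = l * k⁻¹ := by
        conv_rhs => rw [h3]
        group
      exact Subtype.ext (mul_inv_eq_one.1 (hfpf _ (mul_mem hl (inv_mem hk))
        (hlu.mul_left hku.inv_left) h2)).symm
    obtain ⟨hX1, hX2⟩ := hact g₁ hg₁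
    set d := g₁ * (k₀ * g₁ * k₀⁻¹)⁻¹ with hd
    have hdmem : d ∈ shiftGroup Z c u := mul_mem hg₁ (inv_mem hX1)
    have hdu : Commute d u := by
      refine commutatorElement_eq_one_iff_commute.1 ?_
      have h3 := commutator_shift_mul hdmem hX1
      rw [hd, inv_mul_cancel_right, hX2] at h3
      exact mul_eq_left.1 h3.symm
    obtain ⟨⟨k, hk, hku⟩, hkd⟩ := (Finite.injective_iff_surjective.1 hinj) ⟨d, hdmem, hdu⟩
    have hkd' : k⁻¹ * (k₀ * k * k₀⁻¹) = d := congrArg Subtype.val hkd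
    refine ⟨k * g₁, mul_mem hk hg₁, ?_, ?_⟩
    · rw [commutator_shift_mul hk hg₁, commutatorElement_eq_one_iff_commute.2 hku, mul_one, hg₁a]
    · have h4 : k₀ * k * k₀⁻¹ = k * d := by rw [← hkd', mul_inv_cancel_left]
      calc k₀ * (k * g₁) * k₀⁻¹ = (k₀ * k * k₀⁻¹) * (k₀ * g₁ * k₀⁻¹) := by group
        _ = k * g₁ := by rw [h4, hd]; group
  have hfixsq : ∀ g ∈ shiftGroup Z c u, k₀ * g * k₀⁻¹ = g → g * g = 1 := by
    intro g hg hfix
    refine hfpf _ (mul_mem hg hg) (commutatorElement_eq_one_iff_commute.1 ?_) ?_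
    · rw [commutator_shift_mul hg hg]
      exact hB.setting.mul_self_memGroup hB.faith hB.case.comm hg.2.2
    · calc k₀ * (g * g) * k₀⁻¹ = (k₀ * g * k₀⁻¹) * (k₀ * g * k₀⁻¹) := by group
        _ = g * g := by rw [hfix]
  have hw₀2 : orderOf w₀ = 2 := orderOf_eq_two_iff_mul.2
    ⟨fun h => ha₁1 (by rw [← hw₀a, h, commutatorElement_one_left]), hfixsq _ hw₀ hw₀fix⟩
  have hw₀bad : IsBad Ω w₀ := by
    by_contra hnb
    have hZ : w₀ ∈ Z := hB.setting.mem_of_unique hB.faith hw₀2 hw₀.1 fun z hz => by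
      by_contra hzc
      exact hnb ⟨hw₀2, z, c, hzc, hz, hw₀.1⟩
    exact ha₁1 (hw₀a ▸ commutatorElement_eq_one_iff_commute.2
      (hB.case.central u hu c huc w₀ ⟨hZ, hw₀.1⟩).symm)
  set w₁ := r * w₀ * r⁻¹ with hw₁
  have hw₁s : w₁ ∈ shiftGroup Z c u := by
    obtain ⟨h1, -⟩ := hB.conj_shift hrc hw₀
    exact hge _ (by rwa [← hv'] at h1)
  have hrk : Commute r k₀ := hrj.mul_right (Commute.refl r)
  have hw₁fix : k₀ * w₁ * k₀⁻¹ = w₁ := by
    calc k₀ * w₁ * k₀⁻¹ = (k₀ * r) * w₀ * (k₀ * r)⁻¹ := by rw [hw₁]; group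
      _ = (r * k₀) * w₀ * (r * k₀)⁻¹ := by rw [hrk.eq]
      _ = r * (k₀ * w₀ * k₀⁻¹) * r⁻¹ := by group
      _ = w₁ := by rw [hw₀fix]
  have hcomm : Commute w₀ w₁ := by
    have h1 := hfixsq _ (mul_mem hw₀ hw₁s) (by
      calc k₀ * (w₀ * w₁) * k₀⁻¹ = (k₀ * w₀ * k₀⁻¹) * (k₀ * w₁ * k₀⁻¹) := by group
        _ = _ := by rw [hw₀fix, hw₁fix])
    show w₀ * w₁ = w₁ * w₀
    rw [eq_inv_of_mul_eq_one_left h1, mul_inv_rev, inv_eq_self_of_involution hw₀2,
      inv_eq_of_mul_eq_one_right (hfixsq _ hw₁s hw₁fix)]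
  obtain ⟨z, hz, hzc⟩ : ∃ z, w₀ • z = z ∧ z ≠ c := by
    obtain ⟨-, p, q, hpq, hp, hq⟩ := id hw₀bad
    rcases eq_or_ne p c with rfl | hpc
    · exact ⟨q, hq, hpq.symm⟩
    · exact ⟨p, hp, hpc⟩
  obtain ⟨Q₀, hQ₀⟩ := hB.kernel w₀ hw₀bad c hw₀.1
  obtain ⟨x, hx, p, hp, hxp⟩ := hB.decomp w₀ hw₀bad c z hzc hw₀.1 hz Q₀ hQ₀ w₁ hw₁s.1
    (fun a ha => hw₁s.2.1 a (Subgroup.subset_closure ha))
    (by rw [smul_smul, hcomm.eq, mul_smul, hz])
  have hcp : Commute x p := (hB.commute_stab_kernel hw₀bad hzc hw₀.1 hz hQ₀ hp hx).symm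
  have hx2 : x * x = 1 := by
    refine (hB.decomp_unique hzc hQ₀ (mul_mem hx hx) (one_mem _) (mul_mem hp hp) (one_mem _) ?_).1
    calc x * x * (p * p) = x * (x * p) * p := by group
      _ = x * (p * x) * p := by rw [hcp.eq]
      _ = (x * p) * (x * p) := by group
      _ = 1 * 1 := by rw [← hxp, hfixsq _ hw₁s hw₁fix, one_mul]
  have hxE : x ∈ memGroup Z c := hQ₀.mem_of_sq x hx hx2
  have hp' : k₀ * p * k₀⁻¹ ∈ lineStab Z c z := by
    obtain ⟨hpc, -, hpE⟩ := mem_lineStab.1 hp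
    refine mem_lineStab.2 ⟨?_, ?_, fun a ha => ?_⟩
    · rw [mul_smul, mul_smul, hk₀inv, hpc, hk₀c]
    · have hcw : w₀ * k₀⁻¹ = k₀⁻¹ * w₀ :=
        (Commute.inv_left (mul_inv_eq_iff_eq_mul.1 hw₀fix : Commute k₀ w₀)).eq.symm
      have h1 : w₀ • k₀⁻¹ • z = k₀⁻¹ • z := by rw [smul_smul, hcw, mul_smul, hz]
      rw [mul_smul, mul_smul, hB.stab_fix w₀ hw₀bad c z hzc hw₀.1 hz p hp _ h1, smul_inv_smul]
    · have h1 : k₀⁻¹ * a * k₀ ∈ memAt Z c := by
        have h2 := hB.setting.conj_memAt (g := k₀⁻¹) ha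
        rwa [hk₀inv, inv_inv] at h2
      calc a * (k₀ * p * k₀⁻¹) = k₀ * (k₀⁻¹ * a * k₀ * p) * k₀⁻¹ := by group
        _ = k₀ * (p * (k₀⁻¹ * a * k₀)) * k₀⁻¹ := by rw [(hpE _ h1).eq]
        _ = k₀ * p * k₀⁻¹ * a := by group
  have hx' : k₀ * x * k₀⁻¹ = x :=
    (hB.decomp_unique hzc hQ₀ (hQ₀.le (hB.conj_memGroup hk₀c hxE)) hx hp' hp (by
      rw [← hxp, show k₀ * x * k₀⁻¹ * (k₀ * p * k₀⁻¹) = k₀ * (x * p) * k₀⁻¹ by group, ← hxp,
        hw₁fix])).1
  have hx1 : x = 1 := hEfree x hxE hx'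
  rw [hx1, one_mul] at hxp
  have hw₁z : w₁ • z = z := by rw [hxp]; exact (mem_lineStab.1 hp).2.1
  have hfe := hB.fix_eq w₁ w₀ (isBad_conj hw₀bad r) hw₀bad c z hzc.symm hw₁s.1 hw₁z hw₀.1 hz
  have hrz : w₀ • r • z = r • z := by
    have h1 : r • z ∈ fixedBy Ω w₁ := by
      show (r * w₀ * r⁻¹) • r • z = r • z
      rw [smul_smul, inv_mul_cancel_right, mul_smul, hz]
    rw [hfe] at h1
    exact h1
  by_cases huz : u • z = z
  · have hy0 : y ∈ fixedBy Ω u := huy
    rw [hB.fix_eq u w₀ hu hw₀bad c z hzc.symm huc huz hw₀.1 hz] at hy0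
    have hwP₀ := hB.mem_lineStab_of_bad hw₀bad hw₀.1 hy0
    exact ha₁1 (hw₀a ▸ hB.setting.eq_one_of_memGroup_fix hB.faith hB.case.comm hw₀.2.2
      (mem_lineStab.1 (show ⁅w₀, u⁆ ∈ lineStab Z c y by
        rw [commutatorElement_def]
        exact mul_mem (mul_mem (mul_mem hwP₀ huP) (inv_mem hwP₀)) (inv_mem huP))).2.1 hyc)
  · exact hr1 (hB.odd_fix_line hu huc hyc huy hr hrodd hw₀bad hw₀.1 hz hzc huz hrz)

end Base

end CfsgLib.StrongCrit.CentralTwo
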